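import Cfsg.Agent.U5F.Es
import Cfsg.Agent.Fus.SylIn
import Cfsg.Agent.Solv.Coprime2

/-!
Automizers of the Sylow subgroup and of characteristic essential subgroups, for an arbitrary prime.
Automorphisms of subgroups are evaluated through `afn` (`Fus/Fn`: `afn_mul`, `afn_mem`, `afn_inv_afn`, `afn_afn_inv`, `aut_ext`,
`homOn_afn`).
-/

set_option autoImplicit false
set_option linter.unusedSectionVars false

namespace Cfsg.Agent.U5F

open Subgroup Cfsg.Agent.RFS Cfsg.Agent.Fus Cfsg.FusionSystem Cfsg.Agent.Solv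

section Gen

variable {Ω : Type*} [Group Ω]

theorem afn_res {E : Subgroup Ω} [E.Characteristic] (φ : MulAut Ω) {x : Ω} (hx : x ∈ E) :
    afn (MulAut.characteristic E φ) x = φ x := by rw [afn_apply _ hx]; rfl

/-- The automorphisms of `E` induced by `Ω`. -/
def Tn (E : Subgroup Ω) [E.Characteristic] : Subgroup (MulAut E) := ((MulAut.characteristic E).comp MulAut.conj).range

theorem mem_Tn {E : Subgroup Ω} [E.Characteristic] {α : MulAut E} :
    α ∈ Tn E ↔ ∃ g, MulAut.characteristic E (MulAut.conj g) = α := Iff.rfl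

theorem mem_Inn' {E : Subgroup Ω} [E.Characteristic] {α : MulAut E} :
    α ∈ Inn E ↔ ∃ g ∈ E, MulAut.characteristic E (MulAut.conj g) = α :=
  mem_Inn.trans (exists_congr fun g => and_congr_right fun _ =>
    ⟨fun h => aut_ext fun x hx => by rw [afn_res _ hx, h x hx]; rfl, fun h x hx => by rw [← h, afn_res _ hx]; rfl⟩)

/-- The automizer of the Sylow subgroup. -/
structure SA (p : ℕ) (A₀ : Subgroup (MulAut Ω)) : Prop where
  conj : ∀ g, MulAut.conj g ∈ A₀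
  syl : SylIn p (MulAut.conj (G := Ω)).range A₀

/-- The automizer of an essential characteristic subgroup. -/
structure Lc (p : ℕ) (A₀ : Subgroup (MulAut Ω)) (E : Subgroup Ω) [E.Characteristic] (A : Subgroup (MulAut E)) : Prop where
  res : ∀ φ ∈ A₀, MulAut.characteristic E φ ∈ A
  syl : SylIn p (Tn E) A
  rad : ∀ N : Subgroup (MulAut E), IsPGroup p N → N ≤ A → (∀ α ∈ A, ∀ κ ∈ N, α * κ * α⁻¹ ∈ N) → N ≤ Inn E
  ext : ∀ α ∈ A, (∀ t ∈ Tn E, α * t * α⁻¹ ∈ Tn E) → ∃ φ ∈ A₀, MulAut.characteristic E φ = α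
  nn : ¬ ∀ α ∈ A, ∀ t ∈ Tn E, α * t * α⁻¹ ∈ Tn E

/-- The automorphisms acting trivially on `E / L`. -/
def Ker (E L : Subgroup Ω) (h : Ch E L) : Subgroup (MulAut E) where
  carrier := {α | ∀ x ∈ E, x⁻¹ * afn α x ∈ L}
  one_mem' x _ := by simp [afn_one]
  mul_mem' {α β} hα hβ x hx := by
    have h1 := afn_mem β hx
    have : x⁻¹ * afn (α * β) x = x⁻¹ * afn β x * ((afn β x)⁻¹ * afn α (afn β x)) := by rw [afn_mul _ _ hx]; group
    rw [this]
    exact mul_mem (hβ x hx) (hα _ h1)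
  inv_mem' {α} hα x hx := by
    have := inv_mem (hα _ (afn_mem α⁻¹ hx))
    rwa [afn_afn_inv _ hx, mul_inv_rev, inv_inv] at this

instance Ker.normal (E L : Subgroup Ω) (h : Ch E L) : (Ker E L h).Normal := ⟨fun β hβ α x hx => by
  have h1 := afn_mem α⁻¹ hx
  have := h α _ (mul_mem (inv_mem h1) (afn_mem β h1)) (hβ _ h1)
  rwa [homOn_afn α _ (inv_mem h1) _ (afn_mem β h1), (homOn_afn α).map_inv h1, afn_afn_inv _ hx, ← afn_mul _ _ h1,
    ← afn_mul _ _ hx] at this⟩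

theorem char_of_cm {L M N : Subgroup Ω} [hL : L.Characteristic] [hM : M.Characteristic]
    (e : ∀ y, y ∈ N ↔ ∀ g ∈ L, cm y g ∈ M) : N.Characteristic :=
  characteristic_iff_le_comap.2 fun φ y hy => (e _).2 fun g hg => by
    have := characteristic_iff_le_comap.1 hM φ ((e y).1 hy _ (characteristic_iff_le_comap.1 hL φ.symm hg))
    simpa [cm] using this

theorem char_of_ex {L M N X : Subgroup Ω} [hL : L.Characteristic] [hM : M.Characteristic] [hN : N.Characteristic]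
    (e : ∀ y, y ∈ X ↔ y ∈ L ∧ ∀ u ∈ L, ∃ h ∈ L, cm y h ∈ M ∧ h⁻¹ * u ∈ N) : X.Characteristic :=
  characteristic_iff_le_comap.2 fun φ y hy => (e _).2 ⟨characteristic_iff_le_comap.1 hL φ ((e y).1 hy).1, fun u hu => by
    obtain ⟨h, h1, h2, h3⟩ := ((e y).1 hy).2 _ (characteristic_iff_le_comap.1 hL φ.symm hu)
    exact ⟨φ h, characteristic_iff_le_comap.1 hL φ h1, by simpa [cm] using characteristic_iff_le_comap.1 hM φ h2,
      by simpa using characteristic_iff_le_comap.1 hN φ h3⟩⟩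

theorem chr_mem {L : Subgroup Ω} [h : L.Characteristic] (φ : MulAut Ω) {x : Ω} (hx : x ∈ L) : φ x ∈ L :=
  characteristic_iff_le_comap.1 h φ hx

/-- An automorphism mapping the finite subgroup `P ∩ E` into itself has an inverse with the same property. -/
theorem inv_pres [Finite Ω] {E P : Subgroup Ω} {α : MulAut E} (h : ∀ x ∈ E, x ∈ P → afn α x ∈ P) :
    ∀ x ∈ E, x ∈ P → afn α⁻¹ x ∈ P := by
  intro x hx hx'
  obtain ⟨y, e⟩ := (Finite.injective_iff_surjective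
    (f := fun y : (E ⊓ P :) => (⟨afn α y, afn_mem α y.2.1, h y y.2.1 y.2.2⟩ : (E ⊓ P :)))).1
    (fun y z e => Subtype.ext (afn_injOn α y.2.1 z.2.1 (congrArg Subtype.val e))) ⟨x, hx, hx'⟩
  rw [← show afn α y = x from congrArg Subtype.val e, afn_inv_afn α y.2.1]
  exact y.2.2

theorem afn_dv {E : Subgroup Ω} (α : MulAut E) {x y : Ω} (hx : x ∈ E) (hy : y ∈ E) :
    afn α (x⁻¹ * y) = (afn α x)⁻¹ * afn α y := by
  rw [homOn_afn α _ (inv_mem hx) _ hy, (homOn_afn α).map_inv hx]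

/-- The stabiliser of the chain `⊥, l, E`: use `⟨⟩`, `rcases i with _ | _ | _ | i` and `simp [List.getD]` or `change`. -/
def St [Finite Ω] (E : Subgroup Ω) (l : List (Subgroup Ω)) : Subgroup (MulAut E) where
  carrier := {β | ∀ i, ∀ x ∈ E, x ∈ l.getD i ⊤ → afn β x ∈ l.getD i ⊤ ∧ x⁻¹ * afn β x ∈ (⊥ :: l).getD i ⊤}
  one_mem' i x _ h := by simpa [afn_one] using h
  mul_mem' {α β} hα hβ i x hx h := by
    have h1 := hα i _ (afn_mem β hx) (hβ i x hx h).1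
    have : x⁻¹ * afn (α * β) x = x⁻¹ * afn β x * ((afn β x)⁻¹ * afn α (afn β x)) := by rw [afn_mul _ _ hx]; group
    rw [this, afn_mul _ _ hx]
    exact ⟨h1.1, mul_mem (hβ i x hx h).2 h1.2⟩
  inv_mem' {α} hα i x hx h := by
    have h1 := inv_pres (fun y hy k => (hα i y hy k).1) x hx h
    have := inv_mem (hα i _ (afn_mem α⁻¹ hx) h1).2
    rw [afn_afn_inv _ hx, mul_inv_rev, inv_inv] at this
    exact ⟨h1, this⟩

theorem mem_St [Finite Ω] {E : Subgroup Ω} {l : List (Subgroup Ω)} {β : MulAut E} :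
    β ∈ St E l ↔ ∀ i, ∀ x ∈ E, x ∈ l.getD i ⊤ → afn β x ∈ l.getD i ⊤ ∧ x⁻¹ * afn β x ∈ (⊥ :: l).getD i ⊤ := Iff.rfl

theorem isPGroup_St [Finite Ω] {p : ℕ} [Fact p.Prime] {E : Subgroup Ω} (hE : IsPGroup p E) (l : List (Subgroup Ω)) :
    IsPGroup p (St E l) := by
  refine AC.isPGroup_of_coprime fun α hα hc => AC.eq_one_of_chain hE hc
    (fun i => ((⊥ :: l).getD i ⊤).subgroupOf E) (l.length + 1) (by simp) (by simp)
    (fun i _ x hx => ?_) fun i _ y hy => ?_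
  · rw [mem_subgroupOf, ← afn_coe]
    rcases i with _ | i
    exacts [Ch.bot α x x.2 hx, (hα i x x.2 hx).1]
  · have := (hα i y y.2 hy).2
    rwa [afn_coe] at this

/-- Transport of `St`: `α` maps the chain `l` onto the chain `l'`. -/
theorem St_conj [Finite Ω] {E : Subgroup Ω} {l l' : List (Subgroup Ω)} {α β : MulAut E}
    (h : ∀ i, ∀ x ∈ E, x ∈ l.getD i ⊤ ↔ afn α x ∈ l'.getD i ⊤) (hβ : β ∈ St E l) : α * β * α⁻¹ ∈ St E l' := by
  intro i x hx k
  have h1 := afn_mem α⁻¹ hx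
  have h2 := hβ i _ h1 ((h i _ h1).2 (by rwa [afn_afn_inv _ hx]))
  have h3 := afn_mem β h1
  rw [afn_mul _ _ hx, afn_mul _ _ h1]
  refine ⟨(h i _ h3).1 h2.1, ?_⟩
  have e := afn_dv α h1 h3
  rw [afn_afn_inv _ hx] at e
  rw [← e]
  rcases i with _ | i
  exacts [Ch.bot α _ (mul_mem (inv_mem h1) h3) h2.2, (h i _ (mul_mem (inv_mem h1) h3)).1 h2.2]

variable {p : ℕ} {E : Subgroup Ω} [E.Characteristic] {C₀ : Subgroup (MulAut Ω)} {C : Subgroup (MulAut E)}

theorem inn_le_Tn : Inn E ≤ Tn E := by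
  intro α hα
  obtain ⟨g, -, e⟩ := mem_Inn'.1 hα
  exact ⟨g, e⟩

theorem Lc.Tn_le (h₀ : SA p C₀) (L : Lc p C₀ E C) : Tn E ≤ C := by
  rintro _ ⟨g, rfl⟩
  exact L.res _ (h₀.conj g)

theorem Lc.cj (h₀ : SA p C₀) (L : Lc p C₀ E C) (g : Ω) : MulAut.characteristic E (MulAut.conj g) ∈ C := L.res _ (h₀.conj g)

/-- `φ (conj g) φ⁻¹ = conj (φ g)`. -/
theorem res_conj (φ : MulAut Ω) (g : Ω) : MulAut.characteristic E φ * MulAut.characteristic E (MulAut.conj g) *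
    (MulAut.characteristic E φ)⁻¹ = MulAut.characteristic E (MulAut.conj (φ g)) := by
  rw [← map_inv, ← map_mul, ← map_mul]
  congr 1
  ext x
  simp

/-- For `g ∈ E`: `α (conj g) α⁻¹ = conj (α g)`. -/
theorem aut_conj (α : MulAut E) {g : Ω} (hg : g ∈ E) : α * MulAut.characteristic E (MulAut.conj g) * α⁻¹ =
    MulAut.characteristic E (MulAut.conj (afn α g)) := by
  refine aut_ext fun x hx => ?_
  have h1 := afn_mem α⁻¹ hx
  rw [afn_mul _ _ hx, afn_mul _ _ h1, afn_res _ h1, afn_res _ hx, MulAut.conj_apply,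
    (homOn_afn α).map_conj hg h1, afn_afn_inv _ hx, MulAut.conj_apply]

instance inn_normal : (Inn E).Normal := ⟨fun κ hκ α => by
  obtain ⟨g, hg, rfl⟩ := mem_Inn'.1 hκ
  exact mem_Inn'.2 ⟨_, afn_mem α hg, (aut_conj α hg).symm⟩⟩

theorem Lc.exists_not_res (L : Lc p C₀ E C) : ∃ α ∈ C, ¬ ∃ φ ∈ C₀, MulAut.characteristic E φ = α := by
  by_contra c
  push Not at c
  refine L.nn fun α hα => ?_
  obtain ⟨φ, -, rfl⟩ := c α hα
  rintro _ ⟨g, rfl⟩
  exact ⟨φ g, (res_conj φ g).symm⟩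

theorem Lc.mem_inn (L : Lc p C₀ E C) {O : Subgroup (MulAut E)} [O.Normal] (hO : IsPGroup p O) {α : MulAut E} (h : α ∈ C)
    (h' : α ∈ O) : α ∈ Inn E :=
  L.rad (C ⊓ O) (hO.to_le inf_le_right) inf_le_left (fun β hβ κ hκ =>
    ⟨C.mul_mem (C.mul_mem hβ hκ.1) (C.inv_mem hβ), ‹O.Normal›.conj_mem κ hκ.2 β⟩) ⟨h, h'⟩

/-- An element of `C` normalising a `p`-subgroup `N ≥ Tn E` is a restriction. -/
theorem Lc.ext' [Fact p.Prime] (h₀ : SA p C₀) (L : Lc p C₀ E C) {N : Subgroup (MulAut E)} (hN : IsPGroup p N) (h1 : Tn E ≤ N)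
    {α : MulAut E} (hα : α ∈ C) (h : ∀ t ∈ N, α * t * α⁻¹ ∈ N) : ∃ φ ∈ C₀, MulAut.characteristic E φ = α := by
  have e := L.syl.eq_of_le (L.Tn_le h₀) (hN.to_le (inf_le_left (b := C))) (le_inf h1 (L.Tn_le h₀)) inf_le_right
  exact L.ext α hα (e ▸ fun t ht => ⟨h t ht.1, C.mul_mem (C.mul_mem hα ht.2) (C.inv_mem hα)⟩)

end Gen

variable {X : Type*} [Group X] [Finite X] {p : ℕ} [hp : Fact p.Prime]

theorem cop {O : Subgroup X} (hO : IsPGroup p O) {m : ℕ} (hm : ¬ p ∣ m) : m.Coprime (Nat.card O) := by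
  obtain ⟨k, hk⟩ := IsPGroup.iff_card.1 hO
  rw [hk]
  exact ((Nat.Prime.coprime_iff_not_dvd hp.out).2 hm).symm.pow_right k

theorem solv {O : Subgroup X} (hO : IsPGroup p O) : Group.IsSolvable O :=
  haveI := hO.isNilpotent
  inferInstance

theorem sz {O T A N : Subgroup X} [O.Normal] [N.Normal] (hO : IsPGroup p O) (hX : ∀ x, ∃ o ∈ O, ∃ t ∈ T, x = o * t)
    (hN : N ≤ A) (hs : SylIn p N A) : ∃ γ, ∀ a ∈ A, ∃ n ∈ N, ∃ t ∈ T, γ * a * γ⁻¹ = n * t := by
  obtain ⟨K, hK⟩ := exists_right_complement'_of_coprime (N := N.subgroupOf A)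
    (cop (isPGroup_subgroupOf A (hs.isPGroup hN)) hs.not_dvd_relIndex).symm
  have hc : ¬ p ∣ Nat.card (K.map A.subtype) := by
    rw [card_map_of_injective A.subtype_injective, ← hK.symm.index_eq_card]
    exact hs.not_dvd_relIndex
  obtain ⟨k, -, hk⟩ := exists_conj_mem_of_coprime (K.map A.subtype) O T
    (le_normalizer_of_normal) (cop hO hc) (Or.inr (solv hO)) fun a _ => by
      obtain ⟨o, ho, t, ht, rfl⟩ := hX a
      exact ⟨o, ho, by rwa [inv_mul_cancel_left]⟩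
  refine ⟨k⁻¹, fun a ha => ?_⟩
  obtain ⟨⟨n, h⟩, e⟩ := (hK.existsUnique ⟨a, ha⟩).exists
  have e' : ((n : A) : X) * ((h : A) : X) = a := congrArg Subtype.val e
  refine ⟨k⁻¹ * ((n : A) : X) * k⁻¹⁻¹, ‹N.Normal›.conj_mem _ n.2 _, _, hk _ ⟨h, h.2, rfl⟩, ?_⟩
  rw [← e', coe_subtype]; group

theorem fc {O N H A : Subgroup X} [O.Normal] [N.Normal] (hO : IsPGroup p O) (hNO : N ≤ O) (hNA : N ≤ A)
    (hH : ¬ p ∣ Nat.card H) (hHA : H ≤ A) (hAO : ∀ a ∈ A, a ∈ O → a ∈ N) {w : X} (hw : ∀ h ∈ H, w * h * w⁻¹ ∈ H)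
    (hc : ∀ o ∈ O, (∀ h ∈ H, o * h = h * o) → o = 1) (ha : ∃ a ∈ A, w⁻¹ * a ∈ O) : w ∈ A := by
  obtain ⟨a, ha, ho⟩ := ha
  obtain ⟨n, hn, h⟩ := coprime_fixed_coset' H N le_normalizer_of_normal (cop (hO.to_le hNO) hH)
    (Or.inr (solv (hO.to_le hNO))) (w⁻¹ * a) fun h hh => by
      have e : a * h * a⁻¹ * (w * h * w⁻¹)⁻¹ = w * (w⁻¹ * a * (h * (w⁻¹ * a)⁻¹ * h⁻¹)) * w⁻¹ := by group
      have h1 := hAO _ (mul_mem (mul_mem (mul_mem ha (hHA hh)) (inv_mem ha)) (inv_mem (hHA (hw h hh))))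
        (e ▸ ‹O.Normal›.conj_mem _ (mul_mem ho (‹O.Normal›.conj_mem _ (inv_mem ho) h)) w)
      have h2 := ‹N.Normal›.conj_mem _ (inv_mem h1) a⁻¹
      convert h2 using 1
      group
  have h1 := hc _ (mul_mem ho (hNO hn)) fun g hg => (h g hg).symm
  have h2 : w = a * n := by
    rw [mul_assoc, inv_mul_eq_one] at h1; exact h1
  rw [h2]; exact mul_mem ha (hNA hn)

/-- Isotopy lemma. -/
theorem isot {K : Type*} [Field K] [Finite K] {f g h : K → K} (hh : ∀ x y, h (x + y) = h x + h y) (f1 : f 1 ≠ 0)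
    (g1 : g 1 ≠ 0) (e : ∀ x y, h (x * y) = f x * g y) :
    ∃ φ : K ≃+* K, (∀ x, f x = f 1 * φ x) ∧ (∀ x, g x = g 1 * φ x) ∧ ∀ x, h x = f 1 * g 1 * φ x := by
  have a1 : ∀ x, h x = f x * g 1 := fun x => by rw [← e, mul_one]
  have a2 : ∀ x, h x = f 1 * g x := fun x => by rw [← e, one_mul]
  let φ : K →+* K :=
    { toFun := fun x => h x / (f 1 * g 1)
      map_one' := by rw [a1, div_self (mul_ne_zero f1 g1)]
      map_mul' := fun x y => by
        rw [e, a1 x, a2 y]; field_simp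
      map_zero' := by
        have := hh 0 0
        rw [add_zero, left_eq_add] at this
        rw [this, zero_div]
      map_add' := fun x y => by rw [hh, add_div] }
  refine ⟨RingEquiv.ofBijective φ (Finite.injective_iff_bijective.1 φ.injective), fun x => ?_, fun x => ?_, fun x => ?_⟩
  · change _ = _ * (h x / _); rw [a1]; field_simp
  · change _ = _ * (h x / _); rw [a2]; field_simp
  · change _ = _ * (h x / _); field_simp

end Cfsg.Agent.U5F
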