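import Cfsg.Agent.U5F.Es

/-!
Essential subgroups satisfy `Ep` (`U5F/Es`), for every prime.  Model: `es_of_essential` in `RFS/Es`.
-/

set_option autoImplicit false
set_option linter.unusedSectionVars false

namespace Cfsg.Agent.U5F

open Subgroup Cfsg.Agent.RFS Cfsg.Agent.Fus Cfsg.FusionSystem

variable {Ω : Type*} [Group Ω] [Finite Ω] {E : Subgroup Ω} {p : ℕ} [Fact p.Prime]

/-- The complement of a strongly `p`-embedded subgroup. -/
def Disc (p : ℕ) (E : Subgroup Ω) : Prop := ∃ 𝒢 : Set (MulAut E), 𝒢.Nonempty ∧ ∀ β ∈ 𝒢, ∀ t : MulAut E, ∀ x ∉ E,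
  (∀ y ∈ E, afn t y = x * y * x⁻¹) →
    β⁻¹ * t * β ∈ 𝒢 ∧ ∀ N : Subgroup (MulAut E), IsPGroup p N → t ∈ N → β * t * β⁻¹ ∉ N

/-- PROOF.  `A = F.autGroup E`, `X = A ⧸ Inn`, `M` strongly `p`-embedded in `X`.  The image `T` of `autInducedBy ⊤ E` is a `p`-group; replace
`M` by a conjugate containing `T` (`PLocal.SPE.exists_sylow_le`, `SPE.map_conj`, Sylow).  `𝒢 = {β | ∃ h : β ∈ A, mk ⟨β, h⟩ ∉ M}`.  The image
of `t` is a nontrivial (`conjAut_mem_inn_iff`, `isCentric_self`) `p`-element of `M`; `SPE.mem_of_conj_mem`.  A `p`-subgroup of `X` meeting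
`M` nontrivially lies in `M` (see `PLocal/StrongPEmb`; or normaliser growth with `SPE.normalizer_le`); apply this to the image of `N ⊓ A`. -/
theorem disc_of_essential {F : FusionSystem (⊤ : Subgroup Ω)} (hS : IsPGroup p (⊤ : Subgroup Ω))
    (hE : F.IsEssential p E) : Disc p E := by
  obtain ⟨hc, -, _, M₀, hM₀⟩ := hE
  have hA := autInducedBy_le_autGroup F (le_top (a := E))
  let π := QuotientGroup.mk' ((Inn E).subgroupOf (F.autGroup E))
  have pm : ∀ N : Subgroup (MulAut E), IsPGroup p N → IsPGroup p ((N.subgroupOf (F.autGroup E)).map π) :=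
    fun N hN => (hN.comap_subtype (K := F.autGroup E)).map π
  obtain ⟨P, -, hP, -⟩ := PLocal.SPE.exists_sylow_le hM₀
  obtain ⟨Q, hQ⟩ := (pm _ (isPGroup_autInducedBy hS E)).exists_le_sylow
  obtain ⟨g, rfl⟩ := MulAction.exists_smul_eq (F.autGroup E ⧸ (Inn E).subgroupOf (F.autGroup E)) P Q
  have hM := PLocal.SPE.map_conj hM₀ g
  have hT := hQ.trans (show _ ≤ M₀.map (MulAut.conj g).toMonoidHom from map_mono hP)
  generalize M₀.map (MulAut.conj g).toMonoidHom = M at hM hT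
  refine ⟨{β | ∃ h : β ∈ F.autGroup E, π ⟨β, h⟩ ∉ M}, ?_, ?_⟩
  · obtain ⟨z, -, hz⟩ := SetLike.exists_of_lt (lt_top_iff_ne_top.2 (PLocal.SPE.ne_top hM))
    obtain ⟨⟨β, h⟩, rfl⟩ := QuotientGroup.mk'_surjective _ z
    exact ⟨β, h, hz⟩
  rintro β ⟨hβ, nβ⟩ t x hx e
  have h1 : t ∈ autInducedBy ⊤ E := mem_autInducedBy.2 ⟨x, trivial, e⟩
  have h2 : π ⟨t, hA h1⟩ ∈ _ := mem_map_of_mem π (K := (autInducedBy ⊤ E).subgroupOf _) h1
  have h3 : π ⟨t, hA h1⟩ ≠ 1 := fun k => by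
    obtain ⟨y, hy, k⟩ := mem_Inn.1 (mem_subgroupOf.1 ((QuotientGroup.eq_one_iff _).1 k))
    exact hx (mem_of_conj_inner le_top (isCentric_self hc) trivial hy fun z hz => (e z hz).symm.trans (k z hz))
  obtain ⟨k, hk⟩ := IsPGroup.iff_orderOf.1 (pm _ (isPGroup_autInducedBy hS E)) ⟨_, h2⟩
  rw [← orderOf_coe] at hk
  refine ⟨⟨mul_mem (mul_mem (inv_mem hβ) (hA h1)) hβ, fun r => nβ (inv_mem_iff.1
    (PLocal.SPE.mem_of_conj_mem hM hk h3 (hT h2) (by rw [inv_inv]; exact r)))⟩, fun N hN tN r => nβ ?_⟩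
  have h4 := PLocal.SPE.le_of_inf_ne_bot hM (pm N hN) fun r' =>
    h3 (mem_bot.1 (r' ▸ (⟨mem_map_of_mem π (K := N.subgroupOf _) tN, hT h2⟩ : π ⟨t, hA h1⟩ ∈ _ ⊓ M)))
  exact PLocal.SPE.mem_of_conj_mem hM hk h3 (hT h2) (h4 (mem_map_of_mem π (K := N.subgroupOf _)
    (x := ⟨β, hβ⟩ * ⟨t, hA h1⟩ * ⟨β, hβ⟩⁻¹) r))

/-- Automorphisms trivial on `C` and modulo `C`. -/
def ffSt {H : Type*} [Group H] (C : Subgroup H) : Subgroup (MulAut H) where
  carrier := {α | (∀ c ∈ C, α c = c) ∧ ∀ y, α y * y⁻¹ ∈ C}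
  mul_mem' {a b} ha hb := ⟨fun c hc => by rw [MulAut.mul_apply, hb.1 c hc, ha.1 c hc], fun y => by
    simpa [mul_assoc] using mul_mem (ha.2 (b y)) (hb.2 y)⟩
  one_mem' := ⟨fun _ _ => rfl, fun y => by simp⟩
  inv_mem' {a} ha := ⟨fun c hc => by rw [MulAut.inv_def, MulEquiv.symm_apply_eq, ha.1 c hc], fun y => by
    simpa using inv_mem (ha.2 (a⁻¹ y))⟩

theorem ffSt_p {H : Type*} [Group H] [Finite H] (hp : IsPGroup p H) (C : Subgroup H) : IsPGroup p (ffSt C) := fun α => by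
  obtain ⟨k, hk⟩ := IsPGroup.iff_card.1 hp
  have e : ∀ y n, (α.1 ^ n) y = (α.1 y * y⁻¹) ^ n * y := fun y n => by
    induction n with
    | zero => simp
    | succ n ih => rw [pow_succ', MulAut.mul_apply, ih, map_mul, α.2.1 _ (pow_mem (α.2.2 y) n), pow_succ, mul_assoc,
        inv_mul_cancel_right]
  exact ⟨k, Subtype.ext (MulEquiv.ext fun y => (e y _).trans (by rw [← hk, pow_card_eq_one', one_mul]; rfl))⟩

theorem ff_aux {H B : Type*} [Group H] [Finite H] [Group B] [Finite B] (hp : IsPGroup p H) {𝒢 : Set (MulAut H)}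
    (hn : 𝒢.Nonempty) (t : B →* MulAut H) (B₀ : Subgroup B) (hG : ∀ β ∈ 𝒢, ∀ b ∉ B₀, β⁻¹ * t b * β ∈ 𝒢 ∧
      ∀ N : Subgroup (MulAut H), IsPGroup p N → t b ∈ N → β * t b * β⁻¹ ∉ N) {b₀ : B} (h0 : b₀ ∉ B₀) {C : Subgroup H}
    (mC : ∀ e, e ∈ C ↔ e ∈ center H ∧ ∀ b, t b e = e) (h1 : ∀ b y, t b y * y⁻¹ ∈ C) (f : center H → B)
    (h3 : ∀ e e', (f e)⁻¹ * f e' ∈ B₀ → ((e⁻¹ * e' : center H) : H) ∈ C) :
    (∀ b ∉ B₀, ∀ e ∈ center H, t b e = e → e ∈ C) ∧ ∀ b, ∃ e, (f e)⁻¹ * b ∈ B₀ := by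
  obtain ⟨β, hβ, mn⟩ := Set.exists_min_image 𝒢 (fun β => (C ⊓ C.comap (β⁻¹).toMonoidHom).index) (Set.toFinite _) hn
  have ix : ∀ (K : Subgroup H) (α : MulAut H), (K.comap α.toMonoidHom).index = K.index := fun K α =>
    K.index_comap_of_surjective α.surjective
  have i1 := ix C β⁻¹
  have m' : ∀ y, y ∈ C.comap (β⁻¹).toMonoidHom ↔ β⁻¹ y ∈ C := fun _ => Iff.rfl
  generalize C.comap (β⁻¹).toMonoidHom = C' at mn i1 m'
  have fx : ∀ b, ∀ c ∈ C, t b c = c := fun b c hc => ((mC c).1 hc).2 b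
  have CW : C ≤ center H := fun c hc => ((mC c).1 hc).1
  have CW' : C' ≤ center H := fun c hc => (MulEquivClass.apply_mem_center_iff β⁻¹).1 (CW ((m' c).1 hc))
  have cl : ∀ e ∈ C', e ∉ C → ∀ b, t b e * e⁻¹ ∈ C' → b ∈ B₀ := fun e he ne b hb => by
    by_contra nb
    refine (mn _ (hG β hβ b nb).1).not_gt ?_
    rw [← ix (C ⊓ C') β]
    refine index_strictAnti (lt_of_le_not_ge (fun y hy => ?_) fun r => ?_)
    · have a1 : y ∈ C := by simpa using (m' _).1 hy.2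
      have a2 : (t b)⁻¹ (β y) = β y := by rw [← map_inv]; exact fx _ _ hy.1
      refine ⟨a1, ?_⟩
      change (β⁻¹ * t b * β)⁻¹ y ∈ C
      rw [show (β⁻¹ * t b * β)⁻¹ = β⁻¹ * (t b)⁻¹ * β by group, MulAut.mul_apply, MulAut.mul_apply, a2]
      exact (m' _).1 hy.2
    · have a1 : t b e ∈ C' := by simpa using mul_mem hb he
      have a2 : (β⁻¹ * t b * β)⁻¹ (β⁻¹ (t b e)) ∈ C := by
        rw [← MulAut.mul_apply, ← MulAut.mul_apply, show (β⁻¹ * t b * β)⁻¹ * β⁻¹ * t b = β⁻¹ by group]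
        exact (m' _).1 he
      have a3 : t b e ∈ C := by simpa using (r ⟨(m' _).1 a1, a2⟩).1
      exact ne (inv_mem_iff.1 ((mul_mem_cancel_left a3).1 (h1 b e)))
  obtain ⟨e, he, ne⟩ : ∃ e ∈ C', e ∉ C := by
    by_contra! r
    obtain rfl : C' = C := (show C' ≤ C from r).eq_or_lt.resolve_right fun k => (index_strictAnti k).ne' i1
    refine (hG β hβ b₀ h0).2 _ (ffSt_p hp C') ⟨fx b₀, h1 b₀⟩ ⟨fun c hc => ?_, fun y => (m' _).2 ?_⟩
    · rw [MulAut.mul_apply, MulAut.mul_apply, fx _ _ ((m' c).1 hc), MulAut.apply_inv_self]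
    · rw [MulAut.mul_apply, MulAut.mul_apply, map_mul, map_inv, MulAut.inv_apply_self]
      exact h1 _ _
  let g : B →* H := MonoidHom.mk' (fun b => t b e * e⁻¹) fun b b' => by
    have := fx b _ (h1 b' e)
    rw [map_mul, map_inv, mul_inv_eq_iff_eq_mul] at this
    rw [map_mul, MulAut.mul_apply, this, mul_assoc, mem_center_iff.1 (CW (h1 b' e))]
  have nz : ∀ K L : Subgroup H, K.relIndex L ≠ 0 := fun _ _ => index_ne_zero_of_finite
  have j1 : B₀.index ≤ C'.relIndex C :=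
    ((index_antitone (H := C'.comap g) fun b hb => cl e he ne b hb).trans (index_comap _ _).le).trans
      (relIndex_le_of_le_right (by rintro _ ⟨b, rfl⟩; exact h1 b e) (nz _ _))
  have j2 := relIndex_le_of_le_right CW (nz C' _)
  have j3 : C'.relIndex (center H) = C.relIndex (center H) :=
    mul_right_cancel₀ (center H).index_ne_zero_of_finite (by rw [relIndex_mul_index CW, relIndex_mul_index CW', i1])
  let φ : center H ⧸ C.subgroupOf (center H) → B ⧸ B₀ := fun q => f q.out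
  have φi : Function.Injective φ := fun q q' r => by
    rw [← q.out_eq', ← q'.out_eq']
    exact QuotientGroup.eq.2 (h3 _ _ (QuotientGroup.eq.1 r))
  have j4 : C.relIndex (center H) ≤ B₀.index := Nat.card_le_card_of_injective φ φi
  refine ⟨fun b nb y hy k => ?_, fun b => ?_⟩
  · have : C'.Normal := ⟨fun c hc y => by rwa [mem_center_iff.1 (CW' hc) y, mul_inv_cancel_right]⟩
    have j5 := relIndex_mul_relIndex C' _ _ le_sup_right (sup_le CW CW')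
    rw [relIndex_sup_right, show C'.relIndex (center H) = C'.relIndex C by omega, mul_eq_left₀ (nz _ _), relIndex_eq_one] at j5
    obtain ⟨c, hc, c', hc', rfl⟩ := mem_sup_of_normal_right.1 (j5 hy)
    rw [map_mul, fx b c hc, mul_right_inj] at k
    exact mul_mem hc (by_contra fun r => nb (cl c' hc' r b (by rw [k, mul_inv_cancel]; exact one_mem _)))
  · obtain ⟨q, hq⟩ := ((Nat.bijective_iff_injective_and_card φ).2 ⟨φi, le_antisymm j4 (j1.trans (j2.trans j3.le))⟩).2 b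
    exact ⟨_, QuotientGroup.eq.1 hq⟩

/-- PROOF.  `W = Zc E`, `C = {e ∈ W | e` commutes with `B}`.  For `β ∈ 𝒢` let `C' = β C ≤ W` (`ch_Zc`), `D β = C ⊓ C'`; choose `β` with
`card (D β)` maximal.  For `b ∈ B` let `t b` be the automorphism of `E` induced by `b` (`nm_of_cm`, finiteness, `conjAut`).
Claim: if `e ∈ C' \ C`, `b ∈ B` and `cm b e ∈ C'` then `b ∈ E`.  Otherwise `β' = β⁻¹ * t b * β ∈ 𝒢`... `β (D β') = C' ⊓ (t b) C'` contains `D β` (fixed by `b`)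
and `b e b⁻¹ = cm b e * e ∈ C'`, which is not in `C`; this contradicts maximality.
If `C' ≤ C` then `C' = C`, and `t b₀`, `β * t b₀ * β⁻¹` (`b₀ ∈ B \ E`) lie in the `p`-group of automorphisms fixing `C` pointwise and trivial on
`E / C` (`α ^ n x = x * (x⁻¹ α x) ^ n`, or `AC.stab2`-type lemmas), impossible.  So fix `e ∈ C' \ C`: `b ↦ cm b e mod D` induces an injection
`B / B ⊓ E → C / D` (`cm b e ≡ cm b' e` gives `cm (b'⁻¹ b) e ∈ D`).  Thus `|B : B ⊓ E| ≤ |C : D| ≤ |W : C'| = |W : C| ≤ |B : B ⊓ E|`, the last by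
`f`.  Equality makes `W / C → B / B ⊓ E` bijective (second claim) and `W = C C'`; if `e = c c'` commutes with `b ∈ B \ E` then `cm b c' = 1`,
so `c' ∈ C` by the claim. -/
theorem ff_of_disc (hp : IsPGroup p E) (h : Disc p E) (B : Subgroup Ω) (f : Ω → Ω) (h0 : ¬ B ≤ E)
    (h1 : ∀ b ∈ B, ∀ y ∈ E, cm b y ∈ Zc E ∧ ∀ b' ∈ B, b' * cm b y = cm b y * b') (h2 : ∀ e ∈ Zc E, f e ∈ B)
    (h3 : ∀ e ∈ Zc E, ∀ e' ∈ Zc E, (f e)⁻¹ * f e' ∈ E → ∀ b ∈ B, b * (e⁻¹ * e') = e⁻¹ * e' * b) :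
    (∀ b ∈ B, b ∉ E → ∀ e ∈ Zc E, b * e = e * b → ∀ b' ∈ B, b' * e = e * b') ∧
      ∀ b ∈ B, ∃ e ∈ Zc E, (f e)⁻¹ * b ∈ E := by
  obtain ⟨𝒢, hn, hG⟩ := h
  obtain ⟨b₀, hb₀, n₀⟩ := SetLike.not_le_iff_exists.1 h0
  have hB : B ≤ normalizer (E : Set Ω) := fun b hb =>
    (mem_normalizerIn_of_conj (S := ⊤) trivial (nm_of_cm fun y hy => (mem_Zc.1 (h1 b hb y hy).1).1)).2
  have zc : ∀ e : E, e ∈ center E ↔ (e : Ω) ∈ Zc E := fun e => by
    rw [mem_Zc, Subgroup.mem_center_iff]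
    exact ⟨fun k => ⟨e.2, fun y hy => (congrArg Subtype.val (k ⟨y, hy⟩)).symm⟩, fun k y => Subtype.ext (k.2 y y.2).symm⟩
  let t : B →* MulAut E := E.normalizerMonoidHom.comp (inclusion hB)
  have te : ∀ b e, t b e = e ↔ (b : Ω) * e = e * b := fun b e => Subtype.ext_iff.trans mul_inv_eq_iff_eq_mul
  have mC : ∀ e : E, e ∈ center E ⊓ (centralizer (B : Set Ω)).subgroupOf E ↔ e ∈ center E ∧ ∀ b, t b e = e := fun e =>
    and_congr_right fun _ => ⟨fun k b => (te b e).2 (k b b.2), fun k b hb => (te ⟨b, hb⟩ e).1 (k _)⟩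
  obtain ⟨k1, k2⟩ := ff_aux hp hn t (E.subgroupOf B) (fun β hβ b hb => hG β hβ _ b hb fun y hy => afn_apply _ hy)
    (b₀ := ⟨b₀, hb₀⟩) n₀ mC (fun b y => ⟨(zc _).2 (h1 b b.2 y y.2).1, (h1 b b.2 y y.2).2⟩)
    (fun e => ⟨f e.1, h2 _ ((zc _).1 e.2)⟩) fun e e' k => ⟨(e⁻¹ * e').2, h3 _ ((zc _).1 e.2) _ ((zc _).1 e'.2) k⟩
  refine ⟨fun b hb nb e he k => (k1 ⟨b, hb⟩ nb ⟨e, (mem_Zc.1 he).1⟩ ((zc _).2 he) ((te _ _).2 k)).2, fun b hb => ?_⟩
  obtain ⟨e, k⟩ := k2 ⟨b, hb⟩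
  exact ⟨_, (zc _).1 e.2, k⟩

/-- Copy the first three fields from `es_of_essential` (`RFS/Es`). -/
theorem ep_of_essential {F : FusionSystem (⊤ : Subgroup Ω)} (hS : IsPGroup p (⊤ : Subgroup Ω))
    (hF : F.IsSaturated p) (hE : F.IsEssential p E) : Ep E := by
  refine ⟨(essential_lt hS hF hE).ne, fun x hx => SpF.mem_of_comm hE hx, fun l x hx hs => ?_,
    ff_of_disc (hS.to_le le_top) (disc_of_essential hS hE)⟩
  obtain ⟨a1, a2⟩ := hs.getD l ⊥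
  refine mem_of_chain hS (isCentric_self hE.1) (radical_of_essential hS hE) (fun i => (⊥ :: l).getD i ⊤)
    (l.length + 1) (by simp) (fun i _ α _ => ?_)
    (fun α _ _ _ y hy h => by rw [mem_bot.1 h, (homOn_afn α).map_one])
    (mem_normalizerIn_of_conj trivial hx) fun i _ => a2 i
  rcases i with _ | i
  exacts [Ch.bot α, a1 i α]

end Cfsg.Agent.U5F
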