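import Cfsg.Agent.U5F.Def

/-!
The automorphism group of `U K` modulo a normal `p`-subgroup.
Read the headers and signatures of `U5F/U`, `U5F/Gen`, `U5F/Def`.  `k` is the fixed field of `σ`, `N t = t * σ t`, `ι` is from `exists_ι`,
`θ` from `exists_θ`.  Tools: `simp only [mem_X, UE, UV, h..]` then `ring`, `field_simp`, `grind`; `afn_mul`, `afn_mem`, `afn_cm`, `afn_dv`,
`afn_res`, `afn_inv_afn`, `cjQ`, `cjR`, `congQ`, `congR`, `mem_OQ`, `mem_OR`, `cm_b`, `cm_wR`, `cm_cR`.  `RFS/AutS` is the same file for `²F₄`.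
-/

set_option autoImplicit false
set_option linter.unusedSectionVars false
set_option linter.unusedSimpArgs false

namespace Cfsg.Agent.U5F

open Subgroup Cfsg.Agent.RFS Cfsg.Agent.Fus

variable {K : Type*} [Field K] [Cj K] {p : ℕ} [Fact p.Prime] [CharP K p] {A₀ : Subgroup (MulAut (U K))}
  {A : Subgroup (MulAut (Qs : Subgroup (U K)))} {B : Subgroup (MulAut (Rs : Subgroup (U K)))}

theorem aS_cm (φ : MulAut (U K)) (g h : U K) : φ (cm g h) = cm (φ g) (φ h) := by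
  simp only [cm, map_mul, map_inv]

theorem aS_y (φ : MulAut (U K)) {u v : U K} (h : u.y = v.y) : (φ u).y = (φ v).y := by
  have : (φ (v⁻¹ * u)).y = 0 := chr_mem (L := Rs) φ (show (v⁻¹ * u).y = 0 by simp only [UE, h]; ring)
  rw [map_mul, map_inv] at this
  simp only [UE] at this
  linear_combination this

theorem aS_a (φ : MulAut (U K)) {u v : U K} (h : u.a = v.a) : (φ u).a = (φ v).a := by
  have : (φ (v⁻¹ * u)).a = 0 := chr_mem (L := Ps) φ (show (v⁻¹ * u).a = 0 by simp only [UE, h]; ring)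
  rw [map_mul, map_inv] at this
  simp only [UE] at this
  linear_combination this

theorem aS_x (φ : MulAut (U K)) {u v : U K} (hu : u ∈ Z3) (hv : v ∈ Z3) (h : u.x = v.x) : (φ u).x = (φ v).x := by
  have h1 : φ (v⁻¹ * u) ∈ As := chr_mem φ (by
    simp only [mem_As, UE, h, hu.1, hu.2, hv.1, hv.2, true_and]; ring)
  rw [map_mul, map_inv] at h1
  have h2 := h1.2.2
  simp only [UE, (chr_mem φ hu).2, (chr_mem φ hv).1] at h2
  linear_combination h2

theorem aS_b (φ : MulAut (U K)) {u v : U K} (hu : u ∈ Z3) (hv : v ∈ Z3) (h : u.b = v.b) : (φ u).b = (φ v).b := by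
  have h1 : φ (v⁻¹ * u) ∈ Qt := chr_mem φ (by
    simp only [mem_Qt, UE, h, hu.1, hu.2, hv.1, hv.2, true_and]; ring)
  rw [map_mul, map_inv] at h1
  have h2 := h1.2.2
  simp only [UE, (chr_mem φ hu).2, (chr_mem φ hv).2] at h2
  linear_combination h2

theorem aS_w (φ : MulAut (U K)) {u v : U K} (hu : u ∈ Z2) (hv : v ∈ Z2) (h : u.w = v.w) : (φ u).w = (φ v).w := by
  have h1 : φ (v⁻¹ * u) ∈ Z1 := chr_mem φ (by
    rw [mem_Z2] at hu hv
    simp only [mem_Z1, UE, h, hu, hv, true_and]; ring)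
  rw [map_mul, map_inv] at h1
  have h2 := h1.2.2.2.2
  have h3 := mem_Z2.1 (chr_mem φ hu)
  have h4 := mem_Z2.1 (chr_mem φ hv)
  simp only [UE, h3, h4] at h2
  linear_combination h2

/-- PROOF.  `Rs, Ps, Z3, As` are characteristic (`chr_mem`).  `F d = (φ (Xy d)).y`, `G d = (φ (Xa d)).a`, `H d = (φ (Xx d)).x`;
`(φ u).y = F u.y`, `(φ u).a = G u.a`, `(φ u).x = H u.x` for `u ∈ Z3`, `H` additive, `F 1 ≠ 0 ≠ G 1`; `cm_x` for `cm (Xy s) (Xa t)` gives
`H (s t) = F s * G t`; `isot`. -/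
theorem autS (φ : MulAut (U K)) : ∃ (r s : Kˣ) (f : K ≃+* K), ∀ u, (φ u).y = r * f u.y ∧ (φ u).a = s * f u.a := by
  have z3 : ∀ d : K, Xx d ∈ Z3 := fun d => ⟨rfl, rfl⟩
  have f1 : (φ (Xy 1)).y ≠ 0 := fun e => by
    have : (φ.symm (φ (Xy 1))).y = 0 := chr_mem (L := Rs) φ.symm e
    rw [MulEquiv.symm_apply_apply] at this
    exact one_ne_zero this
  have g1 : (φ (Xa 1)).a ≠ 0 := fun e => by
    have : (φ.symm (φ (Xa 1))).a = 0 := chr_mem (L := Ps) φ.symm e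
    rw [MulEquiv.symm_apply_apply] at this
    exact one_ne_zero this
  obtain ⟨f, e1, e2, -⟩ := isot (f := fun d => (φ (Xy d)).y) (g := fun d => (φ (Xa d)).a)
    (h := fun d => (φ (Xx d)).x) (fun x y => by
      rw [aS_x φ (z3 (x + y)) (mul_mem (z3 x) (z3 y)) (by simp only [UE]), map_mul]
      simp only [UE, (chr_mem φ (z3 y)).2]) f1 g1 fun x y => by
      have h1 : (φ (Xy x)).a = 0 := chr_mem (L := Ps) φ rfl
      rw [aS_x φ (z3 (x * y)) (cm_S_S (Xy x) (Xa y)) (by simp only [cm_x, UE]), aS_cm, cm_x, h1]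
      ring
  exact ⟨Units.mk0 _ f1, Units.mk0 _ g1, f, fun u => ⟨(aS_y φ (u := u) (v := Xy u.y) rfl).trans (e1 _),
    (aS_a φ (u := u) (v := Xa u.a) rfl).trans (e2 _)⟩⟩

variable (K) in
/-- The kernel of the action on `S / Z3`. -/
def OS : Subgroup (MulAut (U K)) where
  carrier := {φ | ∀ u, (φ u).y = u.y ∧ (φ u).a = u.a}
  one_mem' _ := ⟨rfl, rfl⟩
  mul_mem' {_ β} hα hβ u := ⟨(hα (β u)).1.trans (hβ u).1, (hα (β u)).2.trans (hβ u).2⟩
  inv_mem' {α} hα u := by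
    have := hα (α⁻¹ u)
    rw [MulAut.apply_inv_self] at this
    exact ⟨this.1.symm, this.2.symm⟩

instance OS.normal : (OS K).Normal := by
  refine ⟨fun β hβ α u => ?_⟩
  have h1 := aS_y α (hβ (α⁻¹ u)).1
  have h2 := aS_a α (hβ (α⁻¹ u)).2
  rw [MulAut.apply_inv_self] at h1 h2
  exact ⟨h1, h2⟩

variable (p) in
/-- PROOF.  `AC.isPGroup_of_coprime`, `AC.eq_one_of_chain` with `⊥ < Z1 < Z2 < Z3 < ⊤`.  For `φ ∈ OS K`: the coordinates `x, b` of `cm g h` depend on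
`y, a` only (`cm_x`, `cm_b`), and `n ∈ Z3` is `cm (Xy n.x) (Xa 1) * cm (Xa (-τ n.b)) (Xa 1)` modulo `Z2`: `φ` keeps `x, b` on `Z3`.  `n ∈ Z2` is
`cm (Xa 1) (Xx n.w)` modulo `Z1` (`cm_w3`): `φ` keeps `w` on `Z2`.  `z ∈ Z1` is `cm (Xy 1) n`, `n ∈ Z2` (`exists_cm_Z2`, `cm_c2`). -/
theorem isPGroup_OS : IsPGroup p (OS K) := by
  refine AC.isPGroup_of_coprime fun φ hφ ho => ?_
  have hy : ∀ u, (φ u).y = u.y := fun u => (hφ u).1
  have ha : ∀ u, (φ u).a = u.a := fun u => (hφ u).2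
  have hx : ∀ n ∈ Z3, (φ n).x = n.x := fun n hn => by
    rw [aS_x φ hn (cm_S_S (Xy n.x) (Xa 1)) (by simp only [cm_x, UE]), aS_cm, cm_x]
    simp only [hy, ha, UE]
  have hb : ∀ n ∈ Z3, (φ n).b = n.b := fun n hn => by
    have e : n.b = (cm (Xa (-τ * n.b)) (Xa 1)).b := by simp only [cm_b, UE, hn.2]; ring
    rw [aS_b φ hn (cm_S_S _ _) e, aS_cm, cm_b, ha, ha, ← cm_b, ← e]
  have hw : ∀ n ∈ Z2, (φ n).w = n.w := fun n hn => by
    have z3 : Xx n.w ∈ Z3 := ⟨rfl, rfl⟩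
    rw [aS_w φ hn (cm_S_Z3 (Xa 1) z3) (by simp only [cm_w3 _ z3, UE]), aS_cm, cm_w3 _ (chr_mem φ z3),
      hx _ z3, hb _ z3]
    simp only [hy, ha, UE]
  have hc : ∀ z ∈ Z1, φ z = z := fun z hz => by
    obtain ⟨n, hn, e⟩ := exists_cm_Z2 (g := Xy (1 : K)) one_ne_zero hz
    have h1 := mem_Z1.1 (chr_mem φ hz)
    have h2 := mem_Z1.1 hz
    have h3 : (φ z).c = z.c := by rw [← e, aS_cm, cm_c2 _ (chr_mem φ hn), cm_c2 _ hn, hy, hw _ hn]
    ext <;> simp only [h1, h2, h3]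
  refine AC.eq_one_of_chain (isPGroup_U p) ho
    (fun i => match i with | 0 => ⊥ | 1 => Z1 | 2 => Z2 | 3 => Z3 | _ => ⊤) 4 rfl
    bot_le (fun i hi x hx => ?_) fun i hi y h => ?_
  · interval_cases i
    · exact (mem_bot.1 hx) ▸ mem_bot.2 (map_one φ)
    · exact chr_mem (L := Z1) φ hx
    · exact chr_mem (L := Z2) φ hx
    · exact chr_mem (L := Z3) φ hx
  · interval_cases i
    · exact mem_bot.2 (by rw [hc y h, inv_mul_cancel])
    · have h1 := mem_Z2.1 (chr_mem (L := Z2) φ h)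
      have h2 := mem_Z2.1 h
      change _ ∈ Z1
      simp only [mem_Z1, UE, h1, h2, hw y h, true_and]
      ring
    · have h2 := mem_Z3.1 h
      change _ ∈ Z2
      simp only [mem_Z2, UE, hy, ha, h2, hx y h, hb y h, neg_add_cancel, and_self]
    · change _ ∈ Z3
      simp only [mem_Z3, UE, hy, ha, neg_add_cancel, and_self]

/-- `sz` with `O = OS K`, `T = TF K`, `N = MulAut.conj.range`. -/
theorem exists_form (h : SA p A₀) : ∃ γ : MulAut (U K), Form (A₀.map (MulAut.conj γ).toMonoidHom) := by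
  have : (MulAut.conj (G := U K)).range.Normal := ⟨by
    rintro _ ⟨g, rfl⟩ α
    exact ⟨α g, MulEquiv.ext fun x => by simp⟩⟩
  obtain ⟨γ, hγ⟩ := sz (T := TF K) (isPGroup_OS p) (fun φ => by
    obtain ⟨a, b, f, e⟩ := autS φ
    refine ⟨φ * (tf a b f)⁻¹, fun u => ?_, _, ⟨a, b, f, rfl⟩, by group⟩
    have h1 := e ((tf a b f)⁻¹ u)
    have h2 := MulAut.apply_inv_self _ (tf a b f) u
    exact ⟨h1.1.trans (congrArg U.y h2), h1.2.trans (congrArg U.a h2)⟩)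
    (by rintro _ ⟨g, rfl⟩; exact h.conj g) h.syl
  refine ⟨γ, ?_⟩
  rintro _ ⟨φ, hφ, rfl⟩
  obtain ⟨_, ⟨g, rfl⟩, _, ⟨a, b, f, rfl⟩, e⟩ := hγ φ hφ
  exact ⟨g, a, b, f, e⟩

end Cfsg.Agent.U5F
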