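import Cfsg.Agent.U5F.Ker

/-!
The torus has no fixed points in `OQ`, `OR`; the reflections lie in the automizers.
Read the headers and signatures of `U5F/U`, `U5F/Gen`, `U5F/Def`, `U5F/Ker`.  `k` is the fixed field of `σ`, `N t = t * σ t`, `ι` is from `exists_ι`,
`θ` from `exists_θ`.  Tools: `simp only [mem_X, UE, UV, h..]` then `ring`, `field_simp`, `grind`; `afn_mul`, `afn_mem`, `afn_cm`, `afn_dv`,
`afn_res`, `afn_inv_afn`, `cjQ`, `cjR`, `congQ`, `congR`, `mem_OQ`, `mem_OR`, `cm_b`, `cm_wR`, `cm_cR`.  `RFS/CenR` is the same file for `²F₄`.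
-/

set_option autoImplicit false
set_option linter.unusedSectionVars false
set_option linter.unusedSimpArgs false

namespace Cfsg.Agent.U5F

open Subgroup Cfsg.Agent.RFS Cfsg.Agent.Fus

variable {K : Type*} [Field K] [Cj K] {p : ℕ} [Fact p.Prime] [CharP K p] {A₀ : Subgroup (MulAut (U K))}
  {A : Subgroup (MulAut (Qs : Subgroup (U K)))} {B : Subgroup (MulAut (Rs : Subgroup (U K)))}

/-- If an additive map vanishes on `(d - 1) t`, it vanishes. -/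
theorem add_zero_of {F : K → K} (hF : ∀ s t, F (s + t) = F s + F t) {d : K} (hd : d ≠ 1) (h : ∀ t, F (d * t) = F t) (t : K) :
    F t = 0 := by
  obtain ⟨s, rfl⟩ : ∃ s, t = (d - 1) * s := ⟨t / (d - 1), by field_simp [sub_ne_zero.2 hd]⟩
  have := hF ((d - 1) * s) s
  rw [show (d - 1) * s + s = d * s by ring, h] at this
  exact right_eq_add.1 this

/-- PROOF.  Otherwise `σ μ ^ 3 = μ ^ 2` for all units; applying `σ` and multiplying gives `N μ = 1`, `μ ^ 5 = 1`.  Take `d ≠ 1` (`exists_nrm_one`).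
If `d = -1` then `-1 = 1`.  Otherwise `N (1 + d) = 1` gives `d + σ d = -1`, `d ^ 3 = 1`, so `d = 1`. -/
theorem exists_wt : ∃ μ : Kˣ, σ (μ : K) ^ 3 ≠ (μ : K) ^ 2 := by
  by_contra! c
  have k : ∀ t : K, t ≠ 0 → t * σ t = 1 ∧ t ^ 5 = 1 := fun t ht => by
    have a : σ t ^ 3 = t ^ 2 := c (Units.mk0 t ht)
    have b := congrArg σ a
    have := σ_ne_zero ht
    simp only [UE] at b
    have e : t * σ t = 1 := mul_left_cancel₀ (pow_ne_zero 2 (mul_ne_zero ht this)) (by grind)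
    exact ⟨e, by grind⟩
  obtain ⟨d, h1, h2⟩ := exists_nrm_one (K := K)
  have a := k d (by rintro rfl; simp at h1)
  by_cases e : 1 + d = 0
  · grind
  · have b := (k _ e).1
    simp only [UE] at b
    grind

/-- PROOF.  `δ v = (v⁻¹ * o v).c` (`v⁻¹ * o v ∈ Z1`) is additive on `Qs` (`com_Z1`), vanishes on `Z1` (`OQ_Z1`), and
`δ (tf r s 1 v) = N r N s δ v` for `tf r s 1 ∈ T0 K`.  `Xx s * Xx t ≡ Xx (s + t)`, `h1 d (Xx t) ≡ Xx (d t)` modulo `Z1`; for `N d = 1 ≠ d` the weight is `1`,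
so `δ (Xx t) = 0` (`add_zero_of`).  `h2 μ` has weight `1` on `c`, `μ⁻¹` on `y`, `σ μ` on `w`.  `v = Xy _ * Xx _ * Xw _ * z`. -/
theorem cenQ {o : MulAut (Qs : Subgroup (U K))} (ho : o ∈ OQ K) (h : ∀ t ∈ T0 K, o * rQ t = rQ t * o) : o = 1 := by
  let δ : U K → K := fun u => (afn o u).c - u.c
  have add : ∀ u ∈ Qs, ∀ v ∈ Qs, δ (u * v) = δ u + δ v := fun u hu v hv => by
    simp only [δ, homOn_afn o _ hu _ hv, UE, mem_OQ.1 ho u hu, mem_OQ.1 ho v hv, hu.1, hv.1, hv.2,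
      (afn_mem o hu).1, (afn_mem o hv).1, (afn_mem o hv).2]
    ring
  have cg : ∀ u ∈ Qs, ∀ v ∈ Qs, v.y = u.y ∧ v.x = u.x ∧ v.w = u.w → δ v = δ u := fun u hu v hv e => by
    have z := (dv_Z1 hu hv).2 e
    rw [← mul_inv_cancel_left u v, add _ hu _ (mul_mem (inv_mem hu) hv)]
    simp only [δ, OQ_Z1 ho z, sub_self, add_zero]
  have eqv : ∀ μ ν : Kˣ, μ * σ (μ : K) = 1 → ∀ u ∈ Qs, δ ((h1 μ * h2 ν) u) = δ u := fun μ ν hμ u hu => by
    have := congrArg (fun α => afn α u) (h _ ⟨μ, ν, rfl⟩)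
    simp only [afn_mul _ _ hu, afn_res _ hu, afn_res _ (afn_mem o hu)] at this
    have a := ν.ne_zero
    have b := σu_ne ν
    have c := μ.ne_zero
    simp only [δ, this]
    simp only [h12, tf_apply, tfn, UV, UE, eq_inv_of_mul_eq_one_right hμ]
    field_simp
  obtain ⟨d, d1, d2⟩ := exists_nrm_one (K := K)
  have d0 : d ≠ 0 := by rintro rfl; simp at d1
  have d3 := σ_ne_zero d0
  have hx : ∀ t, δ (Xx t) = 0 := add_zero_of (d := d) (fun s t => by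
      rw [← add _ ⟨rfl, rfl⟩ _ ⟨rfl, rfl⟩]
      exact cg _ (mul_mem ⟨rfl, rfl⟩ ⟨rfl, rfl⟩) _ ⟨rfl, rfl⟩ (by simp only [UE, and_self])) d2 fun t => by
    rw [← eqv (Units.mk0 d d0) 1 d1 (Xx t) ⟨rfl, rfl⟩]
    refine cg _ (chr_mem _ ⟨rfl, rfl⟩) _ ⟨rfl, rfl⟩ ?_
    simp only [h12, tf_apply, tfn, UV, UE, Units.val_mk0, true_and, and_true]
    field_simp
  have hy : ∀ t, δ (Xy t) = 0 := add_zero_of (d := d) (fun s t => by
      rw [← add _ ⟨rfl, rfl⟩ _ ⟨rfl, rfl⟩]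
      exact cg _ (mul_mem ⟨rfl, rfl⟩ ⟨rfl, rfl⟩) _ ⟨rfl, rfl⟩ (by simp only [UE, and_self])) d2 fun t => by
    rw [← eqv 1 (Units.mk0 d d0)⁻¹ (by simp) (Xy t) ⟨rfl, rfl⟩]
    refine cg _ (chr_mem _ ⟨rfl, rfl⟩) _ ⟨rfl, rfl⟩ ?_
    simp only [h12, tf_apply, tfn, UV, UE, Units.val_mk0, true_and, and_true]
    field_simp
  have hw : ∀ t, δ (Xw t) = 0 := add_zero_of (d := d) (fun s t => by
      rw [← add _ ⟨rfl, rfl⟩ _ ⟨rfl, rfl⟩]
      exact cg _ (mul_mem ⟨rfl, rfl⟩ ⟨rfl, rfl⟩) _ ⟨rfl, rfl⟩ (by simp only [UE, and_self])) d2 fun t => by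
    rw [← eqv 1 (σu (Units.mk0 d d0)) (by simp) (Xw t) ⟨rfl, rfl⟩]
    refine cg _ (chr_mem _ ⟨rfl, rfl⟩) _ ⟨rfl, rfl⟩ ?_
    simp only [h12, tf_apply, tfn, UV, UE, Units.val_mk0, true_and, and_true]
    field_simp
  refine aut_ext fun u hu => ?_
  have m : Xy u.y * Xx u.x ∈ Qs := mul_mem ⟨rfl, rfl⟩ ⟨rfl, rfl⟩
  have e := cg _ (mul_mem m (show Xw u.w ∈ Qs from ⟨rfl, rfl⟩)) u hu (by simp only [UE, and_self])
  rw [add _ m _ ⟨rfl, rfl⟩, add _ ⟨rfl, rfl⟩ _ ⟨rfl, rfl⟩, hx, hy, hw] at e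
  rw [afn_one]
  obtain ⟨a, b, c⟩ := mem_OQ.1 ho u hu
  exact U.ext a ((afn_mem o hu).1.trans hu.1.symm) b ((afn_mem o hu).2.trans hu.2.symm) c
    (sub_eq_zero.1 (by simpa using e))

theorem cenR_Xx {o : MulAut (Rs : Subgroup (U K))} (ho : o ∈ OR K) (h : ∀ t ∈ T0 K, o * rR t = rR t * o) (t : K) :
    afn o (Xx t) = Xx t := by
  have m : ∀ t : K, Xx t ∈ Rs := fun _ => rfl
  have add : ∀ s t : K, afn o (Xx (s + t)) = afn o (Xx s) * afn o (Xx t) * ((Xx s * Xx t)⁻¹ * Xx (s + t)) := fun s t => by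
    have n := (dv_As (mul_mem (m s) (m t)) (m (s + t))).2 (by simp only [UE, and_self])
    rw [← homOn_afn o _ (m s) _ (m t), ← OR_As ho n, ← homOn_afn o _ (mul_mem (m s) (m t)) _ n.1, mul_inv_cancel_left]
  have c : ∀ t : K, (afn o (Xx t)).y = 0 ∧ (afn o (Xx t)).x = t ∧ (afn o (Xx t)).a = 0 := fun t =>
    ⟨afn_mem o (m t), mem_OR.1 ho _ (m t)⟩
  have eqv : ∀ (μ ν : Kˣ) (t : K), afn o (Xx (μ * ν / σ (ν : K) * t)) = (h1 μ * h2 ν) (afn o (Xx t)) := fun μ ν t => by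
    have := congrArg (fun α => afn α (Xx t)) (h _ ⟨μ, ν, rfl⟩)
    simp only [afn_mul _ _ (m t), afn_res _ (m t), afn_res _ (afn_mem o (m t))] at this
    rw [← this]
    have a := ν.ne_zero
    have b := σu_ne ν
    have c := μ.ne_zero
    have d := σu_ne μ
    congr 1
    ext <;> simp only [h12, tf_apply, tfn, UV, UE] <;> field_simp
  obtain ⟨d, d1, d2⟩ := exists_nrm_one (K := K)
  have d0 : d ≠ 0 := by rintro rfl; simp at d1
  have e := eqv (Units.mk0 d d0) 1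
  simp only [h12, tf_apply, UV, UE, Units.val_mk0, div_one] at e
  ext
  · exact (c t).1
  · exact (c t).2.2
  · exact (c t).2.1
  · refine add_zero_of (F := fun t => (afn o (Xx t)).b) (fun s t => ?_) d2 (fun t => ?_) t
    · simp only [add, UE, c]
    · simp only [e, tfn, UV, UE, eq_inv_of_mul_eq_one_right d1]
      field_simp
  · obtain ⟨μ, hμ⟩ := exists_wt (K := K)
    have a := μ.ne_zero
    have b := σu_ne μ
    have k := congrArg U.w (eqv (σu μ * μ⁻¹) μ t)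
    rw [show ((σu μ * μ⁻¹ : Kˣ) : K) * μ / σ (μ : K) * t = t by simp only [UV]; field_simp] at k
    simp only [h12, tf_apply, tfn, UV, UE] at k ⊢
    field_simp at k
    by_contra z
    exact hμ (by grind)
  · refine sub_eq_zero.1 (add_zero_of (F := fun t => (afn o (Xx t)).c - (Xx t).c) (fun s t => ?_) d2 (fun t => ?_) t)
    · simp only [add, UE, c]
      ring
    · simp only [e, tfn, UV, UE, eq_inv_of_mul_eq_one_right d1]
      field_simp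

/-- PROOF.  `δ v = v⁻¹ * o v ∈ As` is multiplicative on `Rs` (`com_As`), trivial on `As` (`OR_As`), `δ (t v) = t (δ v)` for `t ∈ T0 K`.  The
coordinates `b, w, c` of `δ (Xx t)` are additive in `t`.  `h1 d` with `N d = 1 ≠ d` has the weights `d` on `x`, `1` on `b` and `c`: `add_zero_of`.
`h1 (σu μ * μ⁻¹) * h2 μ` has the weights `1` on `x` and `σ μ ^ 3 / μ ^ 2` on `w` (`exists_wt`).  So `o` fixes `Xx t`.  `ψR K * o * ψR K` satisfies
the same hypotheses (`ψR_h12`, `ψR_sq`), so `o` fixes `ψ (Xx t)`, which has `(x, a) = (0, t)`.  `v = ψ (Xx v.a) * Xx v.x * n`, `n ∈ As`. -/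
theorem cenR {o : MulAut (Rs : Subgroup (U K))} (ho : o ∈ OR K) (h : ∀ t ∈ T0 K, o * rR t = rR t * o) : o = 1 := by
  have h2 : ∀ d, afn o (ψ (Xx d)) = ψ (Xx d) := fun d => by
    have k := cenR_Xx (o := ψR K * o * ψR K) (by
      have := (inferInstance : (OR K).Normal).conj_mem o ho (ψR K)
      rwa [ψR_inv] at this) (by
      rintro _ ⟨a, b, rfl⟩
      have e := ψR_h12 a b
      have q : ∀ α, ψR K * (ψR K * α) = α := fun α => by rw [← mul_assoc, ψR_sq, one_mul]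
      calc _ = ψR K * (o * (ψR K * rR (h1 a * h2 b) * ψR K)) * ψR K := by
            simp only [mul_assoc, ψR_sq, mul_one]
        _ = _ := by rw [e, h _ ⟨_, _, rfl⟩, ← e]; simp only [mul_assoc, q]) d
    have m : (Xx d : U K) ∈ Rs := rfl
    rw [afn_mul _ _ m, afn_ψR m, afn_mul _ _ (ψ_mem _), afn_ψR (afn_mem o (ψ_mem _))] at k
    rw [← ψ_ψ (afn_mem o (ψ_mem _)), k]
  refine aut_ext fun u hu => ?_
  have m : (Xx u.x : U K) ∈ Rs := rfl
  have m' := mul_mem (ψ_mem (Xx u.a)) m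
  have n := (dv_As m' hu).2 (by simp only [ψ, UE, and_self])
  rw [afn_one, ← mul_inv_cancel_left (ψ (Xx u.a) * Xx u.x) u, homOn_afn o _ m' _ n.1, OR_As ho n,
    homOn_afn o _ (ψ_mem _) _ m, h2, cenR_Xx ho h]

/-- `fc` with `O = OQ K`, `N = Inn Qs`, `H = (T0 K).map rQ` (`not_dvd_T0`, `card_map_dvd`, `ωQ_h12`, `Lc.mem_inn`). -/
theorem ω_mem_of (h₀ : SA p A₀) (L : Lc p A₀ Qs A) (hT : T0 K ≤ A₀) (h : ∃ a ∈ A, (ωQ K)⁻¹ * a ∈ OQ K) : ωQ K ∈ A := by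
  refine fc (H := (T0 K).map rQ) (isPGroup_OQ p) inn_le_OQ (inn_le_Tn.trans (L.Tn_le h₀))
    (fun e => not_dvd_T0 (e.trans (card_map_dvd _ _))) ?_ (fun a ha => L.mem_inn (isPGroup_OQ p) ha) ?_
    (fun o ho e => cenQ ho fun t ht => e _ ⟨t, ht, rfl⟩) h
  · rintro _ ⟨t, ht, rfl⟩
    exact L.res _ (hT ht)
  · rintro _ ⟨_, ⟨a, b, rfl⟩, rfl⟩
    rw [ωQ_inv, ωQ_h12]
    exact ⟨_, ⟨_, _, rfl⟩, rfl⟩

/-- `tf_neg` shows `rR (tf (-1) 1 1) ∈ B`; replace `b` by `b * (rR (tf (-1) 1 1))⁻¹`; `fc`. -/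
theorem ψ_mem_of (h₀ : SA p A₀) (L : Lc p A₀ Rs B) (hT : T0 K ≤ A₀)
    (h : ∃ b ∈ B, (ψR K * rR (tf (-1) 1 1))⁻¹ * b ∈ OR K) : ψR K ∈ B := by
  refine fc (H := (T0 K).map rR) (isPGroup_OR p) inn_le_OR (inn_le_Tn.trans (L.Tn_le h₀))
    (fun e => not_dvd_T0 (e.trans (card_map_dvd _ _))) ?_ (fun a ha => L.mem_inn (isPGroup_OR p) ha) ?_
    (fun o ho e => cenR ho fun t ht => e _ ⟨t, ht, rfl⟩) ?_
  · rintro _ ⟨t, ht, rfl⟩
    exact L.res _ (hT ht)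
  · rintro _ ⟨_, ⟨a, b, rfl⟩, rfl⟩
    rw [ψR_inv, ψR_h12]
    exact ⟨_, ⟨_, _, rfl⟩, rfl⟩
  · obtain ⟨b, hb, e⟩ := h
    refine ⟨b * (rR (tf (-1) 1 1))⁻¹, mul_mem hb (inv_mem (L.res _ (hT ⟨_, _, tf_neg⟩))), ?_⟩
    convert (inferInstance : (OR K).Normal).conj_mem _ e (rR (tf (-1) 1 1)) using 1
    group

end Cfsg.Agent.U5F
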