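import Cfsg.Agent.U5F.EB2

/-!
Essential subgroups inside `Ps`.
Read the header of `U5F/U` and the signatures of `U5F/U`, `U5F/Es`.  `W = Zc E`, `D = Dm E ⊤ ⊤`, `ι` from `exists_ι`, `θ` from
`exists_θ`; "pure" means `t + σ t = 0` (`g.b` for `g ∈ Ps`, `g.c` for `g.x = 0`); `u ∈ k v` means `u * σ v = σ u * v` (`exists_pr`).
Commuting elements have `cm g h = 1` (`cm_eq_one`), read off coordinates with `cm_x cm_b cm_w3 cm_wP cm_wR cm_cR cm_c2`; `cm_swap`, `cm_comm`.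
-/

set_option autoImplicit false
set_option linter.unusedSectionVars false
set_option linter.unusedSimpArgs false

namespace Cfsg.Agent.U5F

open Subgroup Cfsg.Agent.RFS Cfsg.Agent.Fus

variable {K : Type*} [Field K] [Cj K] {E : Subgroup (U K)}

theorem ec_pure {g : U K} (h : g ∈ Ps) : σ g.b = -g.b := by rw [g.hb, mem_Ps.1 h, zero_mul, sub_zero]

theorem ec_WE : Zc E ≤ E := fun _ h => h.1

theorem ec_cm {e g : U K} (he : e ∈ Zc E) (hg : g ∈ E) : cm g e = 1 :=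
  cm_eq_one.2 ((mem_Zc.1 he).2 g hg).symm

theorem ec_W (h : Ep E) (hR : ¬ E ≤ Rs) (hP : E ≤ Ps) : Zc E ≤ Qt := fun e he => by
  obtain ⟨g, hg, n⟩ := SetLike.not_le_iff_exists.1 hR
  have h1 := cm_wP (hP hg) (hP he.1)
  rw [ec_cm he hg, eb2 h he, zero_mul, sub_zero] at h1
  exact ⟨eb2 h he, hP he.1, (mul_eq_zero.1 h1.symm).resolve_left n⟩

theorem ec_Xx (t : K) : Xx t ∈ (Qt : Subgroup (U K)) := ⟨rfl, rfl, rfl⟩

theorem ec_x {e : U K} (he : e ∈ Qt) (h : ∀ t : K, e * Xx t = Xx t * e) : e ∈ Z2 := by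
  obtain ⟨ι, hι⟩ := exists_ι (K := K)
  have k : ∀ t : K, t * σ e.x - e.x * σ t = 0 := fun t => by
    have := cm_cR (g := e) (h := Xx t) he.1 rfl
    rw [cm_eq_one.2 (h t)] at this
    exact this.symm
  have k1 := k 1
  have k2 := k ι
  rw [map_one] at k1
  have k3 : e.x * (σ ι - ι) = 0 := by linear_combination ι * k1 - k2
  exact ⟨he.1, he.2.1, (mul_eq_zero.1 k3).resolve_right (sub_ne_zero.2 hι), he.2.2⟩

/-- A subgroup of `Z2`. -/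
def ecT (y₀ : K) : Subgroup (U K) where
  carrier := {g | g ∈ Z2 ∧ g.w * σ y₀ + σ g.w * y₀ = 0}
  mul_mem' {a b} h k := ⟨mul_mem h.1 k.1, by
    have h1 := mem_Z2.1 h.1
    have k1 := mem_Z2.1 k.1
    simp only [UE, h1, k1]
    linear_combination h.2 + k.2⟩
  one_mem' := ⟨one_mem _, by simp only [UE]⟩
  inv_mem' {a} h := ⟨inv_mem h.1, by
    have h1 := mem_Z2.1 h.1
    simp only [UE, h1]
    linear_combination -h.2⟩

/-- PROOF.  `g₁ ∈ E` with `y₁ = g₁.y ≠ 0`.  `W ≤ Qt` (`eb2`; `cm_wP` with `g₁`).  `R = D ⊓ W` has `Z1 ≤ R ≤ Z2` (`cm_Ps_Ps`).  `c2` with `R`, `W`: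
`x ∈ Qt` centralises `Z2` (`com_As`), `[x, E] ≤ Z1` (`cm_Ps_Qt`). -/
theorem ec1 (h : Ep E) (hR : ¬ E ≤ Rs) (hP : E ≤ Ps) : Qt ≤ E := by
  intro x hx
  have k : ∀ y ∈ E, cm x y ∈ Z1 := fun y hy => cm_comm (cm_Ps_Qt (hP hy) hx)
  have hD : Dm E ⊤ ⊤ ≤ Z2 := Dm_le fun a ha _ b hb _ => cm_Ps_Ps (hP ha) (hP hb)
  exact h.c2 ((ch_Dm Ch.top Ch.top).inf (ch_Zc E)) (ch_Zc E)
    (nm_of_cm fun y hy => ec_WE (h.Z1_le (k y hy))) (fun y _ hy => com_As hx.1 (Z2_le_As (hD hy.1)))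
    (fun y hy _ => ⟨h.Z1_le_D hR (k y hy), h.Z1_le (k y hy)⟩) fun y hy => h.Z1_le (k y hy)

theorem ec_W2 (h : Ep E) (hR : ¬ E ≤ Rs) (hP : E ≤ Ps) : Zc E ≤ Z2 := fun _ he =>
  ec_x (ec_W h hR hP he) fun t => (mem_Zc.1 he).2 _ (ec1 h hR hP (ec_Xx t))

theorem ec_k (h : Ep E) (hR : ¬ E ≤ Rs) (hP : E ≤ Ps) {e g : U K} (he : e ∈ Zc E) (hg : g ∈ E) :
    e.w * σ g.y = σ e.w * g.y := by
  have h1 := cm_c2 g (ec_W2 h hR hP he)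
  rw [ec_cm he hg] at h1
  have h2 : (1 : U K).c = 0 := rfl
  linear_combination h2 - h1

/-- PROOF.  `W ≤ C0 y₁` (`W ≤ Qt` commutes with all `Xx t`: `cm_cR`; and with `g₁`: `cm_c2`).  If `R = D ⊓ W ≤ Z1` then `R = Z1`
(`Ch.congr`).  Otherwise `r ∈ R`, `r.w ≠ 0`.  All `g ∈ E` have `g.y ∈ k r.w`, so `g.y ∈ k y₁`.  `D ≤ {n ∈ Z2 | n.w σ y₁ + σ n.w y₁ = 0}`
(`cm_wP`, the `b` are pure), and `r.w ∈ k y₁`, so `2 = 0` in `K`, and pure elements lie in `k`.  `C0 y₁ ≤ W` (`com_C0`).  `As ≤ E` by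
`c1 (ch_Zc E)` (`cm g x ∈ C0 y₁` by `cm_w3`), so `Z3 ≤ E` (`n = (n * (Xb n.b _)⁻¹) * Xb n.b _`).  `M = Sm E W` has `Qt ≤ M` (`mem_Sm` with
`r = Xw y₁`, `cm_Ps_Qt`) and `M ≤ Z3` (`Sm_le`: for `g.y ≠ 0`, `r ∈ W`, `r.w = s g.y`, `cm g (Xb s _)` has the right `w`; correct `c` by
`exists_cm_Z2`, `cm g (n * n') = cm g n * (n * cm g n' * n⁻¹)`).  `Dm E M M = Z1` (`cm_Z3_Z3`; `cm (Xx 1) (Xx (z.c * τ)) = z`). -/
theorem ec2 (h : Ep E) (hR : ¬ E ≤ Rs) (hP : E ≤ Ps) : Ch E Z1 := by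
  by_cases hD : Dm E ⊤ ⊤ ⊓ Zc E ≤ Z1
  · exact ((ch_Dm Ch.top Ch.top).inf (ch_Zc E)).congr fun y _ =>
      ⟨fun k => hD k, fun k => ⟨h.Z1_le_D hR k, h.Z1_le k⟩⟩
  obtain ⟨r, ⟨rD, rW⟩, nr⟩ := SetLike.not_le_iff_exists.1 hD
  obtain ⟨g₁, hg₁, n₁⟩ := SetLike.not_le_iff_exists.1 hR
  replace n₁ : g₁.y ≠ 0 := n₁
  have W2 := ec_W2 h hR hP
  have r0 : r.w ≠ 0 := fun e => nr ⟨(W2 rW).1, (W2 rW).2.1, (W2 rW).2.2.1, (W2 rW).2.2.2, e⟩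
  have ky : ∀ g ∈ E, g.y * σ g₁.y = σ g.y * g₁.y := fun g hg => by
    refine mul_left_cancel₀ r0 (mul_left_cancel₀ (σ_ne_zero r0) ?_)
    linear_combination (σ r.w * g.y) * ec_k h hR hP rW hg₁ - (σ r.w * g₁.y) * ec_k h hR hP rW hg
  have DT : Dm E ⊤ ⊤ ≤ ecT g₁.y := Dm_le fun a ha _ b hb _ => ⟨cm_Ps_Ps (hP ha) (hP hb), by
    rw [cm_wP (hP ha) (hP hb), map_sub, map_mul, map_mul, ec_pure (hP ha), ec_pure (hP hb)]
    linear_combination b.b * ky a ha - a.b * ky b hb⟩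
  have h2 : (2 : K) = 0 := by
    have : 2 * (r.w * σ g₁.y) = 0 := by linear_combination (DT rD).2 + ec_k h hR hP rW hg₁
    exact (mul_eq_zero.1 this).resolve_right (mul_ne_zero r0 (σ_ne_zero n₁))
  have CW : C0 g₁.y ≤ Zc E := fun n hn => h.mem_Zc_of_comm fun g hg => com_C0 n₁ (ky g hg) hn
  have AE : As ≤ E := fun x hx => by
    have k : ∀ y ∈ E, cm x y ∈ Zc E := fun y hy => cm_comm (CW (by
      have h3 := cm_S_Z3 y (As_le_Z3 hx)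
      refine ⟨h3.1, h3.2.1, h3.2.2.1, h3.2.2.2, ?_⟩
      rw [cm_w3 y (As_le_Z3 hx), hx.2.2, zero_mul, add_zero, map_mul, ec_pure hx.2.1]
      linear_combination x.b * ky y hy + (x.b * σ y.y * g₁.y) * h2))
    exact h.c1 (ch_Zc E) (nm_of_cm fun y hy => ec_WE (k y hy))
      (fun y _ hy => (com_As (W2 hy).1 hx).symm) k
  have ZE : Z3 ≤ E := fun n hn => by
    have hb : n.b + σ n.b = 0 := by rw [ec_pure hn.2, add_neg_cancel]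
    rw [← inv_mul_cancel_right n (Xb n.b hb)]
    refine mul_mem (ec1 h hR hP ?_) (AE ⟨rfl, rfl, rfl⟩)
    simp only [mem_Qt, UE, hn.1, hn.2, add_neg_cancel, and_self]
  have QM : Qt ≤ Sm E (Zc E) := fun g hg => by
    have hr : Xw g₁.y ∈ Zc E := CW ⟨rfl, rfl, rfl, rfl, mul_comm _ _⟩
    refine mem_Sm (ec1 h hR hP hg) hr.1 hr fun k hk e => n₁ ?_
    have := (cm_comm (cm_Ps_Qt (hP hk) hg)).2.2.2.2
    rwa [e] at this
  have MZ : Sm E (Zc E) ≤ Z3 := Sm_le fun g hg ng q _ hq => by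
    have g0 : g.y ≠ 0 := fun e => ng ⟨e, hP hg⟩
    obtain ⟨s, hs, e⟩ := exists_pr g0 (ec_k h hR hP hq hg)
    have hb : s + σ s = 0 := by rw [hs]; linear_combination s * h2
    have n3 : Xb s hb ∈ (Z3 : Subgroup (U K)) := ⟨rfl, rfl⟩
    have c2 := cm_S_Z3 g n3
    have cw := cm_w3 g n3
    have hz : q * (cm g (Xb s hb))⁻¹ ∈ Z1 := by
      have q2 := mem_Z2.1 (W2 hq)
      rw [mem_Z2] at c2
      simp only [mem_Z1, UE, q2, c2, cw, e, true_and]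
      ring
    obtain ⟨n, hn, en⟩ := exists_cm_Z2 g0 hz
    refine ⟨n * Xb s hb, ZE (mul_mem (Z2_le_Z3 hn) n3), ?_⟩
    rw [show cm g (n * Xb s hb) = cm g n * (n * cm g (Xb s hb) * n⁻¹) by simp only [cm]; group,
      com_As hn.1 (Z2_le_As c2), mul_inv_cancel_right, en, inv_mul_cancel_right]
  refine (ch_Dm (ch_Sm (ch_Zc E)) (ch_Sm (ch_Zc E))).congr fun z _ =>
    ⟨fun k => Dm_le (fun a _ ha b _ hb => cm_Z3_Z3 (MZ ha) (MZ hb)) k, fun k => ?_⟩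
  have e : cm (Xx 1) (Xx (z.c * τ)) = z := by
    rw [mem_Z1] at k
    ext <;> simp only [cm, UE, k] <;> ring
  rw [← e]
  exact mem_Dm (ec1 h hR hP (ec_Xx _)) (QM (ec_Xx _)) (ec1 h hR hP (ec_Xx _)) (QM (ec_Xx _))

/-- PROOF.  If `E ≤ Qs`, `c1 ec2` gives `Qs ≤ E` (`cm_Qs_Qs`).  Otherwise `g₂ ∈ E` has `b ≠ 0`.
(i) Suppose every `u ∈ E` with `cm u g ∈ Z1` for all `g ∈ E` lies in `Qt`.  Then `Ch E Qt` (`Ch.of_cm`, `cm_Ps_Qt`), `Z2 = Qt ⊓ Cn E Qt`, and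
`c3` with `Z1, Z2, Qt` puts every `x` in `E` (`cm_S_Z2`, `cm_S_Z3`, `cm_S_Ps`, `ec1`), against `h.ne`.
(ii) Otherwise `u ∉ Qt` has `u.y g.b = g.y u.b` for all `g ∈ E` (`cm_wP`); `g₁`, `g₂` give `u.y ≠ 0 ≠ u.b`, so `g.y ∈ k u.y` and
`C0 u.y ≤ W` (`com_C0`), `W ≤ Z2`.  `x = Xy (θ * u.y)` has `cm x g ∈ C0 u.y` (`cm_Ps_Ps`, `cm_wP`), so `c2` with `Z1`, `W` gives `x ∈ E` and
`0 = θ u.y u.b`. -/
theorem caseP (h : Ep E) (hR : ¬ E ≤ Rs) (hP : E ≤ Ps) : E = Qs := by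
  have c1 := ec2 h hR hP
  by_cases hQ : E ≤ Qs
  · exact le_antisymm hQ fun x hx => h.c1 c1 (nm_of_cm fun y hy => ec_WE (h.Z1_le (cm_Qs_Qs hx (hQ hy))))
      (fun y _ hy => com_Z1 x hy) fun y hy => cm_Qs_Qs hx (hQ hy)
  exfalso
  obtain ⟨g₂, hg₂, n₂⟩ := SetLike.not_le_iff_exists.1 hQ
  replace n₂ : g₂.b ≠ 0 := fun e => n₂ ⟨hP hg₂, e⟩
  obtain ⟨g₁, hg₁, n₁⟩ := SetLike.not_le_iff_exists.1 hR
  replace n₁ : g₁.y ≠ 0 := n₁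
  by_cases hi : ∀ u ∈ E, (∀ g ∈ E, cm u g ∈ Z1) → u ∈ Qt
  · have cQ : Ch E Qt := Ch.top.of_cm c1 fun y hy =>
      ⟨fun hq g hg _ => cm_comm (cm_Ps_Qt (hP hg) hq), fun hh => hi y hy fun g hg => hh g hg trivial⟩
    have c2 : Ch E Z2 := (cQ.inf (ch_Cn cQ)).congr fun y hy =>
      ⟨fun k => ec_x k.1 fun t => k.2.2 _ (ec1 h hR hP (ec_Xx t)) (ec_Xx t),
        fun k => ⟨Z2_le_Qt k, hy, fun g _ hg => (com_As hg.1 (Z2_le_As k)).symm⟩⟩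
    exact h.ne (eq_top_iff.2 fun x _ => h.c3 c1 c2 cQ
      (nm_of_cm fun y hy => ec1 h hR hP (cm_S_Ps x (hP hy))) (fun y _ hy => com_Z1 x hy)
      (fun y _ hy => cm_S_Z2 x hy) (fun y _ hy => cm_S_Z3 x (Qt_le_Z3 hy)) fun y hy => cm_S_Ps x (hP hy))
  push Not at hi
  obtain ⟨u, hu, hc, nu⟩ := hi
  have k : ∀ g ∈ E, u.y * g.b - g.y * u.b = 0 := fun g hg => by
    rw [← cm_wP (hP hu) (hP hg)]
    exact (hc g hg).2.2.2.2
  have u1 : u.y ≠ 0 := fun e => by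
    have := k g₁ hg₁
    rw [e, zero_mul, zero_sub, neg_eq_zero] at this
    exact nu ⟨e, hP hu, (mul_eq_zero.1 this).resolve_left n₁⟩
  have u2 : u.b ≠ 0 := fun e => by
    have := k g₂ hg₂
    rw [e, mul_zero, sub_zero] at this
    exact mul_ne_zero u1 n₂ this
  have ky : ∀ g ∈ E, g.y * σ u.y = σ g.y * u.y := fun g hg => by
    have k1 := congrArg σ (k g hg)
    rw [map_sub, map_mul, map_mul, ec_pure (hP hg), ec_pure (hP hu), map_zero] at k1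
    refine mul_left_cancel₀ u2 ?_
    linear_combination (-σ u.y) * k g hg - u.y * k1
  have CW : C0 u.y ≤ Zc E := fun n hn => h.mem_Zc_of_comm fun g hg => com_C0 u1 (ky g hg) hn
  obtain ⟨θ, θ0, hθ⟩ := exists_θ (K := K)
  have xP : Xy (θ * u.y) ∈ (Ps : Subgroup (U K)) := rfl
  have kx : ∀ y ∈ E, cm (Xy (θ * u.y)) y ∈ Zc E := fun y hy => CW (by
    have h3 := cm_Ps_Ps xP (hP hy)
    refine ⟨h3.1, h3.2.1, h3.2.2.1, h3.2.2.2, ?_⟩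
    rw [cm_wP xP (hP hy)]
    simp only [UE, mem_Ps.1 (hP hy)]
    linear_combination (u.y * y.b * σ u.y) * hθ)
  have hx := h.c2 c1 (ch_Zc E) (nm_of_cm fun y hy => ec_WE (kx y hy)) (fun y _ hy => com_Z1 _ hy)
    (fun y _ hy => cm_S_Z2 _ (ec_W2 h hR hP hy)) kx
  have := k _ hx
  simp only [UE, neg_eq_zero] at this
  exact mul_ne_zero (mul_ne_zero θ0 u1) u2 this

end Cfsg.Agent.U5F
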