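import Cfsg.Agent.U5F.EB2

/-!
Essential subgroups outside `Ps` and `Rs` contain `Z3`.
Read the header of `U5F/U` and the signatures of `U5F/U`, `U5F/Es`.  `W = Zc E`, `D = Dm E ⊤ ⊤`, `ι` from `exists_ι`, `θ` from
`exists_θ`; "pure" means `t + σ t = 0` (`g.b` for `g ∈ Ps`, `g.c` for `g.x = 0`); `u ∈ k v` means `u * σ v = σ u * v` (`exists_pr`).
Commuting elements have `cm g h = 1` (`cm_eq_one`), read off coordinates with `cm_x cm_b cm_w3 cm_wP cm_wR cm_cR cm_c2`; `cm_swap`, `cm_comm`.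
-/

set_option autoImplicit false
set_option linter.unusedSectionVars false
set_option linter.unusedSimpArgs false

namespace Cfsg.Agent.U5F

open Subgroup Cfsg.Agent.RFS Cfsg.Agent.Fus

variable {K : Type*} [Field K] [Cj K] {E : Subgroup (U K)}

/-- `eb2`, and `cm_x` with `g₀`. -/
theorem ed0 (h : Ep E) {g₀ : U K} (hg : g₀ ∈ E) (hy : g₀.y ≠ 0) : Zc E ≤ Z3 := fun e he => by
  have h1 := eb2 h he
  have h2 := cm_x e g₀
  rw [cm_eq_one.2 ((mem_Zc.1 he).2 g₀ hg), h1] at h2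
  simp only [UE] at h2
  exact ⟨h1, (mul_eq_zero.1 (neg_eq_zero.1 h2.symm)).resolve_left hy⟩

theorem nm_Z3 (h : Ep E) {x : U K} (hx : x ∈ Z3) : Nm E x :=
  nm_of_cm fun y _ => h.Z2_le (cm_comm (cm_S_Z3 y hx))

/-- PROOF.  `Z2 ≤ Zd E`; `M = Dm E (Zd E) ⊤` has `Z1 ≤ M ≤ Z2` (`exists_cm_Z2`, `cm_swap`, `cm_S_Z3`).  `c2` with `M`, `Zd E`: `x ∈ Z3` centralises `Z2`,
`[x, Z3] ≤ Z1`, `[x, E] ≤ Z2`. -/
theorem ed1 (h : Ep E) (hR : ¬ E ≤ Rs) (hU : Zd E ≤ Z3) : Z3 ≤ E := fun x hx => by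
  have z2 : Z2 ≤ Zd E := fun z hz => ⟨h.Z2_le hz, fun g _ => h.Z1_le (cm_comm (cm_S_Z2 g hz))⟩
  have m2 : Dm E (Zd E) ⊤ ≤ Z2 := Dm_le fun a _ ha b _ _ => cm_comm (cm_S_Z3 b (hU ha))
  obtain ⟨g, hg, gy⟩ := SetLike.not_le_iff_exists.1 hR
  have m1 : Z1 ≤ Dm E (Zd E) ⊤ := fun z hz => by
    obtain ⟨n, hn, e⟩ := exists_cm_Z2 gy hz
    rw [← e]
    exact cm_comm (mem_Dm (h.Z2_le hn) (z2 hn) hg trivial)
  exact h.c2 (ch_Dm (ch_Zd E) Ch.top) (ch_Zd E) (nm_Z3 h hx) (fun y _ hy => com_As hx.1 (Z2_le_As (m2 hy)))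
    (fun y _ hy => m1 (cm_Z3_Z3 hx (hU hy))) fun y _ => z2 (cm_comm (cm_S_Z3 y hx))

/-- PROOF.  `D ≤ Z2` (`cm_x`, `cm_b`), `C0 l.y ≤ W` (`com_C0`), `R = D ⊓ W ≤ C0 l.y` (`cm_c2` with `l`), `Z1 ≤ R`.  Every `n ∈ Qt` with
`n.x σ l.a ∈ k l.y` lies in `E`: `c2` with `R`, `W` (`ed0`, `cm_Z3_Z3`; `cm g n ∈ C0 l.y` by `cm_w3`).  For `g ∈ E \ Z3` (`s ≠ 0`) every
`r ∈ C0 l.y` is `cm g (Xx (r.w / σ g.a) * n')` with `n' ∈ Z2` (`exists_cm_Z2`, `cm g (n * n') = cm g n * (n * cm g n' * n⁻¹)`).  So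
`C0 l.y ≤ R`, and `M = Sm E R` has `Z2 ≤ M` (`r = Xw l.y`), `M ≤ Z3`.  `c2` with `R`, `M`. -/
theorem ed2 (h : Ep E) {l : U K} (hl : l ∈ E) (hy : l.y ≠ 0) (ha : l.a ≠ 0)
    (hL : ∀ g ∈ E, ∃ s, σ s = s ∧ g.y = s * l.y ∧ g.a = s * l.a) : Z3 ≤ E := fun x hx => by
  have hR : ¬ E ≤ Rs := fun k => hy (k hl)
  have d2 : Dm E ⊤ ⊤ ≤ Z2 := Dm_le fun g hg _ g' hg' _ => by
    obtain ⟨s, s1, s2, s3⟩ := hL g hg
    obtain ⟨t, t1, t2, t3⟩ := hL g' hg'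
    refine ⟨cm_y _ _, cm_a _ _, ?_, ?_⟩
    · rw [cm_x, s2, s3, t2, t3]; ring
    · rw [cm_b, s3, t3]; simp only [UE, s1, t1]; ring
  have cW : C0 l.y ≤ Zc E := fun n hn => h.mem_Zc_of_comm fun g hg => by
    obtain ⟨s, s1, s2, -⟩ := hL g hg
    exact com_C0 hy (by rw [s2]; simp only [UE, s1]; ring) hn
  have rC : Dm E ⊤ ⊤ ⊓ Zc E ≤ C0 l.y := fun r hr => by
    have h1 := d2 hr.1
    have h2 := cm_c2 l h1
    rw [cm_eq_one.2 ((mem_Zc.1 hr.2).2 l hl).symm] at h2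
    simp only [UE] at h2
    exact ⟨h1.1, h1.2.1, h1.2.2.1, h1.2.2.2, by linear_combination -h2⟩
  have r1 : Z1 ≤ Dm E ⊤ ⊤ ⊓ Zc E := le_inf (h.Z1_le_D hR) h.Z1_le
  have chR : Ch E (Dm E ⊤ ⊤ ⊓ Zc E) := (ch_Dm Ch.top Ch.top).inf (ch_Zc E)
  have qE : ∀ n ∈ Qt, n.x * σ l.a * σ l.y = σ (n.x * σ l.a) * l.y → n ∈ E := fun n hn e =>
    h.c2 chR (ch_Zc E) (nm_Z3 h (Qt_le_Z3 hn)) (fun y _ hy' => com_As hn.1 (Z2_le_As (d2 hy'.1)))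
      (fun y _ hy' => r1 (cm_Z3_Z3 (Qt_le_Z3 hn) (ed0 h hl hy hy'))) fun g hg => cm_comm (cW (by
        obtain ⟨s, s1, s2, s3⟩ := hL g hg
        have h1 := cm_S_Z3 g (Qt_le_Z3 hn)
        refine ⟨h1.1, h1.2.1, h1.2.2.1, h1.2.2.2, ?_⟩
        rw [cm_w3 g (Qt_le_Z3 hn), hn.2.2, s3]
        simp only [UE, s1] at e ⊢
        linear_combination s * e))
  have ex : ∀ g ∈ E, g ∉ Z3 → ∀ r ∈ C0 l.y, ∃ n ∈ E, cm g n = r := fun g hg g3 r hr => by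
    obtain ⟨s, s1, s2, s3⟩ := hL g hg
    have s0 : s ≠ 0 := fun e => g3 ⟨by rw [s2, e, zero_mul], by rw [s3, e, zero_mul]⟩
    have ga : σ g.a ≠ 0 := σ_ne_zero (by rw [s3]; exact mul_ne_zero s0 ha)
    have la := σ_ne_zero ha
    have nQ : Xx (r.w / σ g.a) ∈ Qt := by simp only [mem_Qt, UE, and_self]
    have nE := qE _ nQ (by
      have := hr.2.2.2.2
      simp only [UE, s3, s1]
      field_simp
      linear_combination this)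
    have h1 := cm_S_Z3 g (Qt_le_Z3 nQ)
    have h2 := cm_w3 g (Qt_le_Z3 nQ)
    simp only [UE] at h2
    rw [div_mul_cancel₀ _ ga] at h2
    have h3 : (cm g (Xx (r.w / σ g.a)))⁻¹ * r ∈ Z1 := by
      rw [mem_Z2] at h1
      rw [mem_C0] at hr
      simp only [mem_Z1, UE, h1, h2, hr, neg_add_cancel, and_self]
    obtain ⟨n', hn', e⟩ := exists_cm_Z2 (g := g) (by rw [s2]; exact mul_ne_zero s0 hy) h3
    refine ⟨_, mul_mem nE (h.Z2_le hn'), ?_⟩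
    generalize Xx (r.w / σ g.a) = n at *
    rw [show cm g (n * n') = cm g n * (n * cm g n' * n⁻¹) by simp only [cm]; group, com_Z1 n (e ▸ h3),
      mul_inv_cancel_right, e, mul_inv_cancel_left]
  have cR : C0 l.y ≤ Dm E ⊤ ⊤ ⊓ Zc E := le_inf (fun r hr => by
    obtain ⟨n, hn, e⟩ := ex l hl (fun k => hy k.1) r hr
    exact e ▸ mem_Dm hl trivial hn trivial) cW
  have wC : Xw l.y ∈ C0 l.y := by simp only [mem_C0, UE, true_and]; ring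
  have m2 : Z2 ≤ Sm E (Dm E ⊤ ⊤ ⊓ Zc E) := fun z hz =>
    mem_Sm (h.Z2_le hz) (h.Z2_le (C0_le_Z2 wC)) (cR wC) fun g _ e =>
      hy (e ▸ cm_comm (cm_S_Z2 g hz) : Xw l.y ∈ Z1).2.2.2.2
  have m3 : Sm E (Dm E ⊤ ⊤ ⊓ Zc E) ≤ Z3 := Sm_le fun g hg g3 r _ hr => ex g hg g3 r (rC hr)
  exact h.c2 chR (ch_Sm chR) (nm_Z3 h hx) (fun y _ hy' => com_As hx.1 (Z2_le_As (d2 hy'.1)))
    (fun y _ hy' => r1 (cm_Z3_Z3 hx (m3 hy'))) fun y _ => m2 (cm_comm (cm_S_Z3 y hx))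

/-- PROOF.  By `ed1` let `u ∈ Zd E \ Z3`.  If `W ≤ Z2`, `cm u g ∈ Z2` gives `u.y g.a = g.y u.a`, `g.a ∈ k u.a`; `g = g₀` shows
`u.y ≠ 0 ≠ u.a`; `ed2` with `l = u`.  Otherwise `n₀ ∈ W` has `(x, b) ≠ 0`.  `cm_w3`: `g.y n.b + n.x σ g.a = 0` for `g ∈ E`, `n ∈ W`.  So
`n₀.x ≠ 0 ≠ n₀.b`, `g.y = μ σ g.a` with `μ = - n₀.x / n₀.b`, and `n.x = - μ n.b` on `W`.  For `n = cm u g`, `cm_x`, `cm_b` give `n.x = μ n.b`.
If `2 ≠ 0`: `n.b = 0`, so `g.a ∈ k u.a` (`u.a ≠ 0`), `ed2` with `l = u`.  If `2 = 0`: an involution `g ∈ E` has `a = 0` (coordinate `b` of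
`g * g`), `y = 0`, `x = 0` (coordinate `c`), so `Z2 ≤ II E ≤ As`, and `c1 (Ch.II E)` applies to `x ∈ Z3`. -/
theorem Ep.Z3_le (h : Ep E) {g₀ : U K} (hg : g₀ ∈ E) (hy : g₀.y ≠ 0) (ha : g₀.a ≠ 0) : Z3 ≤ E := by
  have hR : ¬ E ≤ Rs := fun k => hy (k hg)
  by_cases hU : Zd E ≤ Z3
  · exact ed1 h hR hU
  obtain ⟨u, hu, u3⟩ := SetLike.not_le_iff_exists.1 hU
  by_cases hW : Zc E ≤ Z2
  · have k : ∀ g ∈ E, u.y * g.a = g.y * u.a ∧ g.a * σ u.a = σ g.a * u.a := fun g hg => by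
      have h1 := hW (hu.2 g hg)
      have h2 := h1.2.2.1
      have h3 := h1.2.2.2
      rw [cm_x] at h2
      rw [cm_b] at h3
      exact ⟨by linear_combination h2, by linear_combination h3⟩
    have k0 := (k g₀ hg).1
    have ua : u.a ≠ 0 := fun e => u3 ⟨by
      rw [e, mul_zero] at k0; exact (mul_eq_zero.1 k0).resolve_right ha, e⟩
    have uy : u.y ≠ 0 := fun e => by
      rw [e, zero_mul] at k0; exact mul_ne_zero hy ua k0.symm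
    refine ed2 h hu.1 uy ua fun g hg => ?_
    obtain ⟨s, s1, s2⟩ := exists_pr ua (k g hg).2
    refine ⟨s, s1, mul_right_cancel₀ ua ?_, s2⟩
    rw [← (k g hg).1, s2]; ring
  obtain ⟨n₀, hn, n2⟩ := SetLike.not_le_iff_exists.1 hW
  have k : ∀ g ∈ E, ∀ n ∈ Zc E, g.y * n.b + n.x * σ g.a = 0 := fun g hg' n hn => by
    rw [← cm_w3 g (ed0 h hg hy hn), cm_eq_one.2 ((mem_Zc.1 hn).2 g hg').symm]; rfl
  have n3 := ed0 h hg hy hn
  have k0 := k g₀ hg n₀ hn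
  have sa := σ_ne_zero ha
  have nb : n₀.b ≠ 0 := fun e => n2 ⟨n3.1, n3.2, by
    rw [e, mul_zero, zero_add] at k0; exact (mul_eq_zero.1 k0).resolve_right sa, e⟩
  obtain ⟨μ, hμ⟩ : ∃ μ : K, ∀ g ∈ E, g.y = μ * σ g.a := ⟨-n₀.x / n₀.b, fun g hg => by
    have := k g hg n₀ hn
    field_simp
    linear_combination this⟩
  have μ0 : μ ≠ 0 := fun e => hy (by rw [hμ g₀ hg, e, zero_mul])
  by_cases h2 : (2 : K) = 0
  · have i1 : II E ≤ As := II_le fun g hg e => by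
      have e1 := congrArg U.b e
      have e2 := congrArg U.c e
      simp only [UE] at e1 e2
      have a0 : g.a = 0 := nrm_eq_zero (by linear_combination g.b * h2 - e1)
      have y0 : g.y = 0 := by rw [hμ g hg, a0, map_zero, mul_zero]
      simp only [UE, a0, y0] at e2
      exact ⟨y0, a0, nrm_eq_zero (by linear_combination g.c * h2 - e2)⟩
    have i2 : Z2 ≤ II E := fun z hz => mem_II (h.Z2_le hz) (by
      rw [mem_Z2] at hz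
      ext <;> simp only [UE, hz]
      exacts [by linear_combination z.w * h2, by linear_combination z.c * h2])
    exact fun x hx => h.c1 (Ch.II E) (nm_Z3 h hx) (fun y _ hy' => com_As hx.1 (i1 hy'))
      fun y _ => i2 (cm_comm (cm_S_Z3 y hx))
  have ua : u.a ≠ 0 := fun e => u3 ⟨by rw [hμ u hu.1, e, map_zero, mul_zero], e⟩
  refine ed2 h hu.1 (by rw [hμ u hu.1]; exact mul_ne_zero μ0 (σ_ne_zero ua)) ua fun g hg' => ?_
  have k1 := k g₀ hg _ (hu.2 g hg')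
  rw [cm_x, cm_b, hμ g₀ hg, hμ u hu.1, hμ g hg'] at k1
  obtain ⟨s, s1, s2⟩ := exists_pr (u := g.a) ua
    (mul_left_cancel₀ (mul_ne_zero h2 (mul_ne_zero μ0 sa)) (by linear_combination k1))
  refine ⟨s, s1, ?_, s2⟩
  rw [hμ g hg', hμ u hu.1, s2, map_mul, s1]; ring

end Cfsg.Agent.U5F
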