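import Cfsg.Agent.U5F.Es

/-!
No essential subgroup outside `Ps` and `Rs` contains `Z3`.
Read the header of `U5F/U` and the signatures of `U5F/U`, `U5F/Es`.  `W = Zc E`, `D = Dm E ⊤ ⊤`, `ι` from `exists_ι`, `θ` from
`exists_θ`; "pure" means `t + σ t = 0` (`g.b` for `g ∈ Ps`, `g.c` for `g.x = 0`); `u ∈ k v` means `u * σ v = σ u * v` (`exists_pr`).
Commuting elements have `cm g h = 1` (`cm_eq_one`), read off coordinates with `cm_x cm_b cm_w3 cm_wP cm_wR cm_cR cm_c2`; `cm_swap`, `cm_comm`.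
-/

set_option autoImplicit false
set_option linter.unusedSectionVars false
set_option linter.unusedSimpArgs false

namespace Cfsg.Agent.U5F

open Subgroup Cfsg.Agent.RFS Cfsg.Agent.Fus

variable {K : Type*} [Field K] [Cj K] {E : Subgroup (U K)}

/-- `cm g (Xx (z.w / σ g.a))` has the right `w` (`cm_w3`); correct `c` by `exists_cm_Z2`, `cm g (n * n') = cm g n * (n * cm g n' * n⁻¹)`. -/
theorem exists_cm_Z3 {g z : U K} (hy : g.y ≠ 0) (ha : g.a ≠ 0) (hz : z ∈ Z2) : ∃ n ∈ Z3, cm g n = z := by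
  have h0 : Xx (z.w / σ g.a) ∈ Z3 := ⟨rfl, rfl⟩
  have h1 := cm_S_Z3 g h0
  have h2 : (cm g (Xx (z.w / σ g.a))).w = z.w := by
    rw [cm_w3 g h0]
    simp only [UE]
    exact div_mul_cancel₀ _ (σ_ne_zero ha)
  have h3 : (cm g (Xx (z.w / σ g.a)))⁻¹ * z ∈ Z1 := by
    rw [mem_Z2] at h1 hz
    simp only [mem_Z1, UE, h1, h2, hz, neg_add_cancel, and_self]
  obtain ⟨n, hn, e⟩ := exists_cm_Z2 hy h3
  refine ⟨_, mul_mem h0 (Z2_le_Z3 hn), ?_⟩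
  rw [show ∀ a b : U K, cm g (a * b) = cm g a * (a * cm g b * a⁻¹) from fun a b => by
    simp only [cm]; group, e, com_Z1 _ h3, mul_inv_cancel_right, mul_inv_cancel_left]

theorem ee_zero {u : K} (h : ∀ t : K, t * σ u = u * σ t) : u = 0 := by
  obtain ⟨ι, hι⟩ := exists_ι (K := K)
  have h1 := h 1
  rw [map_one, one_mul, mul_one] at h1
  exact (mul_eq_zero.1 (show u * (σ ι - ι) = 0 by linear_combination ι * h1 - h ι)).resolve_right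
    (sub_ne_zero.2 hι)

theorem ee_Rs {y : U K} (h : ∀ n ∈ Z2, y * n = n * y) : y ∈ Rs := ee_zero fun t => by
  have h0 : Xw t ∈ Z2 := ⟨rfl, rfl, rfl, rfl⟩
  have := cm_c2 y h0
  rw [cm_eq_one.2 (h _ h0)] at this
  simp only [UE] at this
  linear_combination -this

/-- PROOF.  `Z2 ≤ D ≤ Z3`, `M = Cn E D` has `As ≤ M ≤ Rs` (`cm_c2`).  `Ch E Rs ↔ Ch E As`: `As = Rs ⊓ Cn E Rs` on `E` (test `Xx t`: `cm_cR`,
`cm_wR`), `Rs = Cn E As` on `E`.  If `D ≤ As` then `M = E ⊓ Rs`.  Otherwise `d ∈ D` has `d.x ≠ 0`, and `cm_wR` gives `M ≤ Z3`.  If `2 = 0`,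
`As` is generated by the involutions in `M` (`Ch.of_gen` with `P y = y ∈ M ∧ y * y = 1`; coordinate `c` of `y * y`).  If `2 ≠ 0`,
`M' = Dm E M ⊤ ≤ Z2` and `Rs = Cn E M'` on `E`: `g` with `g.y ≠ 0` does not commute with `cm (Xb θ _) g` (`w = - g.y θ`, `cm_c2`). -/
theorem ee1 {g₀ : U K} (hg : g₀ ∈ E) (hy : g₀.y ≠ 0) (ha : g₀.a ≠ 0) (h3 : Z3 ≤ E) : Ch E As ∧ Ch E Rs := by
  have AE : As ≤ E := As_le_Z3.trans h3
  have ZE : Z2 ≤ E := Z2_le_As.trans AE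
  have hRA : Ch E Rs → Ch E As := fun hR => (hR.inf (ch_Cn hR)).congr fun y hy' =>
    ⟨fun ⟨h1, h2⟩ => by
      have k : ∀ t, cm y (Xx t) = 1 := fun t => cm_eq_one.2 (h2.2 _ (h3 ⟨rfl, rfl⟩) rfl)
      have k1 := cm_wR h1 (h := Xx 1) rfl
      rw [k] at k1
      simp only [UE] at k1
      refine ⟨h1, σ_eq_zero.1 k1.symm, ee_zero fun t => ?_⟩
      have k2 := cm_cR h1 (h := Xx t) rfl
      rw [k] at k2
      simp only [UE] at k2
      linear_combination -k2,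
    fun h => ⟨h.1, hy', fun g _ hg => (com_As hg h).symm⟩⟩
  have hAR : Ch E As → Ch E Rs := fun hA => hA.of_cen fun y _ =>
    ⟨fun h g _ hg => com_As h hg, fun h => ee_Rs fun n hn => h n (ZE hn) (Z2_le_As hn)⟩
  suffices h : Ch E As ∨ Ch E Rs from h.elim (fun h => ⟨h, hAR h⟩) fun h => ⟨hRA h, h⟩
  have D2 : Z2 ≤ Dm E ⊤ ⊤ := fun z hz => by
    obtain ⟨n, hn, rfl⟩ := exists_cm_Z3 hy ha hz
    exact mem_Dm hg trivial (h3 hn) trivial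
  have D3 : Dm E ⊤ ⊤ ≤ Z3 := Dm_le fun a _ _ b _ _ => cm_S_S a b
  have hM := ch_Cn (ch_Dm (E := E) Ch.top Ch.top)
  have AM : As ≤ Cn E (Dm E ⊤ ⊤) := fun y h => ⟨AE h, fun g _ hg => (com_As (D3 hg).1 h).symm⟩
  have MR : Cn E (Dm E ⊤ ⊤) ≤ Rs := fun y h => ee_Rs fun n hn => h.2 n (ZE hn) (D2 hn)
  by_cases hD : Dm E ⊤ ⊤ ≤ As
  · exact Or.inr (hM.congr fun y hy' => ⟨fun h => MR h, fun h => ⟨hy', fun g _ hg => com_As h (hD hg)⟩⟩)
  obtain ⟨d, hd, dA⟩ := SetLike.not_le_iff_exists.1 hD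
  have M3 : Cn E (Dm E ⊤ ⊤) ≤ Z3 := fun y h => ⟨MR h, by
    have k := cm_wR (MR h) (D3 hd).1
    rw [cm_eq_one.2 (h.2 d (Dm_le_self hd) hd)] at k
    simp only [UE, (D3 hd).2] at k
    exact σ_eq_zero.1 ((mul_eq_zero.1 k.symm).resolve_left fun e => dA ⟨(D3 hd).1, (D3 hd).2, e⟩)⟩
  by_cases h2 : (2 : K) = 0
  · refine Or.inl (hM.of_sq_mem Ch.bot fun y _ => ⟨fun h => ⟨AM h, mem_bot.2 ?_⟩, fun h => ?_⟩)
    · rw [mem_As] at h
      ext <;> simp only [UE, h] <;> rw [← two_mul, h2, zero_mul]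
    · have k := congrArg U.c (mem_bot.1 h.2)
      have k1 := M3 h.1
      simp only [UE, k1.1, k1.2] at k
      exact ⟨k1.1, k1.2, nrm_eq_zero (by linear_combination y.c * h2 - k)⟩
  · refine Or.inr ((ch_Dm Ch.top hM).of_cen fun y hy' => ⟨fun h g _ hg => com_As h (Z2_le_As
      (Dm_le (fun a _ _ b _ hb => cm_S_Z3 a (M3 hb)) hg)), fun h => ?_⟩)
    obtain ⟨θ, θ0, hθ⟩ := exists_θ (K := K)
    have b1 : Xb θ hθ ∈ As := ⟨rfl, rfl, rfl⟩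
    have b2 := mem_Dm (L := ⊤) hy' trivial (AE b1) (AM b1)
    have k := cm_c2 y (cm_S_Z3 y (As_le_Z3 b1))
    rw [cm_eq_one.2 (h _ (Dm_le_self b2) b2), cm_w3 y (As_le_Z3 b1)] at k
    simp only [UE] at k
    exact nrm_eq_zero ((mul_eq_zero.1 (show 2 * θ * (y.y * σ y.y) = 0 by
      linear_combination y.y * σ y.y * hθ - k)).resolve_left (mul_ne_zero h2 θ0))

/-- PROOF.  `Rs ≤ E` by `c2` with `As`, `Rs` (`com_As`, `cm_Rs_Rs`, `cm_S_S`).  `Ch E Z3` by `Ch.top.of_cm` with `As` (test `Xa 1` and `g₀`,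
`cm_x`), `Z2 = Dm E Z3 ⊤`, `Z1 = Dm E Z2 ⊤` (`exists_cm_Z3`, `exists_cm_Z2`, `cm_swap`).  `c3` with `Z1, Z2, Z3` contradicts `h.ne`. -/
theorem caseN (h : Ep E) {g₀ : U K} (hg : g₀ ∈ E) (hy : g₀.y ≠ 0) (ha : g₀.a ≠ 0) (h3 : Z3 ≤ E) : False := by
  obtain ⟨hA, hR⟩ := ee1 hg hy ha h3
  have nm : ∀ x, Nm E x := fun x => nm_of_cm fun y _ => h3 (cm_S_S x y)
  have RE : Rs ≤ E := fun x hx => h.c2 hA hR (nm x) (fun y _ hy => com_As hx hy)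
    (fun y _ hy => cm_Rs_Rs hx hy) fun y _ => (cm_S_S x y).1
  have c3 : Ch E Z3 := Ch.top.of_cm hA fun y _ =>
    ⟨fun k g _ _ => cm_comm (Z2_le_As (cm_S_Z3 g k)), fun k => by
      have k1 := (k (Xa 1) (RE rfl) trivial).2.2
      have k2 := (k g₀ hg trivial).2.2
      rw [cm_x] at k1 k2
      simp only [UE] at k1
      simp only [UE, k1, neg_eq_zero] at k2
      exact ⟨k1, (mul_eq_zero.1 k2).resolve_left hy⟩⟩
  have c2 : Ch E Z2 := Ch.top.of_comm c3 (fun a _ _ b _ hb => cm_S_Z3 a hb) fun T hT z hz => by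
    obtain ⟨n, hn, rfl⟩ := exists_cm_Z3 hy ha hz
    exact hT _ hg trivial _ (h3 hn) hn
  have c1 : Ch E Z1 := Ch.top.of_comm c2 (fun a _ _ b _ hb => cm_S_Z2 a hb) fun T hT z hz => by
    obtain ⟨n, hn, rfl⟩ := exists_cm_Z2 hy hz
    exact hT _ hg trivial _ (h3 (Z2_le_Z3 hn)) hn
  exact h.ne (eq_top_iff.2 fun x _ => h.c3 c1 c2 c3 (nm x) (fun y _ hy => com_Z1 x hy)
    (fun y _ hy => cm_S_Z2 x hy) (fun y _ hy => cm_S_Z3 x hy) fun y _ => cm_S_S x y)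

end Cfsg.Agent.U5F
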