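import Cfsg.Agent.U5F.Ker

/-!
The action on the lines of `R / As`.
Read the headers and signatures of `U5F/U`, `U5F/Gen`, `U5F/Def`, `U5F/Ker`.  `k` is the fixed field of `σ`, `N t = t * σ t`, `ι` is from `exists_ι`,
`θ` from `exists_θ`.  Tools: `simp only [mem_X, UE, UV, h..]` then `ring`, `field_simp`, `grind`; `afn_mul`, `afn_mem`, `afn_cm`, `afn_dv`,
`afn_res`, `afn_inv_afn`, `cjQ`, `cjR`, `congQ`, `congR`, `mem_OQ`, `mem_OR`, `cm_b`, `cm_wR`, `cm_cR`.  `RFS/LinR` is the same file for `²F₄`.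
-/

set_option autoImplicit false
set_option linter.unusedSectionVars false
set_option linter.unusedSimpArgs false

namespace Cfsg.Agent.U5F

open Subgroup Cfsg.Agent.RFS Cfsg.Agent.Fus

variable {K : Type*} [Field K] [Cj K] {p : ℕ} [Fact p.Prime] [CharP K p] {A₀ : Subgroup (MulAut (U K))}
  {A : Subgroup (MulAut (Qs : Subgroup (U K)))} {B : Subgroup (MulAut (Rs : Subgroup (U K)))}

namespace LR

theorem mx (t : K) : Xx t ∈ (Rs : Subgroup (U K)) := rfl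
theorem ma (t : K) : Xa t ∈ (Rs : Subgroup (U K)) := rfl

theorem dvx {u v : U K} (hu : u ∈ Rs) : (u⁻¹ * v).x = v.x - u.x := by
  simp only [UE, mem_Rs.1 hu]; ring

theorem dva (u v : U K) : (u⁻¹ * v).a = v.a - u.a := by simp only [UE]; ring

theorem pres {α : MulAut (Rs : Subgroup (U K))} {P : Subgroup (U K)} (h : ∀ x ∈ Rs, x ∈ P → afn α x ∈ P)
    (x : U K) (hx : x ∈ Rs) : x ∈ P ↔ afn α x ∈ P :=
  ⟨h x hx, fun k => afn_inv_afn α hx ▸ inv_pres h _ (afn_mem α hx) k⟩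

theorem kill (α : MulAut (Rs : Subgroup (U K))) (h : (afn α (Xx 1)).a ≠ 0) :
    ∃ t, (afn (cR (Xy t) * α) (Xx 1)).x = 0 :=
  ⟨-((afn α (Xx 1)).x / (afn α (Xx 1)).a), by
    rw [afn_mul _ _ (mx 1), (cjR _ (afn_mem α (mx 1))).1]
    simp only [UE]
    field_simp
    ring⟩

end LR

open LR

/-- PROOF.  If `u ∈ As` use `chR_As`.  Otherwise `(v.x, v.a) = l (u.x, u.a)`, and for `g ∈ Rs`: `cm v g = cm u g'` with
`g' = Xa (σ l * g.a) * Xx (σ l * g.x)` (commutators in `Rs` lie in `As`; `cm_b`, `cm_wR`, `cm_cR`).  The same holds for `u' = α u ∉ As`, `v' = α v`: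
every `cm v' g` is some `cm u' g'`.  For `n = cm u' g'`: `N a n.c - a σ x n.w + x σ a σ n.w + N x n.b = 0` with `x = u'.x`, `a = u'.a`.  For
`n = cm v' g` this expression is `ξ - σ ξ`, `ξ = (a g.x - x g.a) σ (a v'.x - x v'.a)`; `g = Xx t` or `Xa t` and `eq_zero_of_real`. -/
theorem lineR (α : MulAut (Rs : Subgroup (U K))) {u v : U K} (hu : u ∈ Rs) (hv : v ∈ Rs) (h : u.x * v.a = u.a * v.x) :
    (afn α u).x * (afn α v).a = (afn α u).a * (afn α v).x := by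
  have hu' := afn_mem α hu
  have hv' := afn_mem α hv
  by_cases h0 : u ∈ As
  · have := chR_As α u hu h0
    rw [this.2.1, this.2.2, zero_mul, zero_mul]
  obtain ⟨l, h1, h2⟩ : ∃ l, v.x = l * u.x ∧ v.a = l * u.a := by
    by_cases c : u.x = 0
    · have c' : u.a ≠ 0 := fun e => h0 ⟨hu, e, c⟩
      rw [c, zero_mul] at h
      exact ⟨v.a / u.a, by rw [c, mul_zero, (mul_eq_zero.1 h.symm).resolve_left c'], by field_simp⟩
    · exact ⟨v.x / u.x, by field_simp, by field_simp; linear_combination h⟩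
  have F : ∀ g ∈ Rs, (afn α u).a * σ (afn α u).a * (cm (afn α v) g).c -
      (afn α u).a * σ (afn α u).x * (cm (afn α v) g).w + (afn α u).x * σ (afn α u).a * σ (cm (afn α v) g).w +
      (afn α u).x * σ (afn α u).x * (cm (afn α v) g).b = 0 := fun g hg => by
    have m := afn_mem α⁻¹ hg
    have m' := mul_mem (ma (σ l * (afn α⁻¹ g).a)) (mx (σ l * (afn α⁻¹ g).x))
    have e : cm v (afn α⁻¹ g) = cm u (Xa (σ l * (afn α⁻¹ g).a) * Xx (σ l * (afn α⁻¹ g).x)) := by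
      ext <;> simp only [cm_y, cm_a, cm_x, cm_b, cm_wR hv m, cm_cR hv m, cm_wR hu m', cm_cR hu m', UE, h1, h2,
        mem_Rs.1 hu, mem_Rs.1 hv, mem_Rs.1 m] <;> ring
    have e2 := congrArg (afn α) e
    rw [afn_cm α hv m, afn_afn_inv _ hg, afn_cm α hu m'] at e2
    rw [e2, cm_cR hu' (afn_mem α m'), cm_wR hu' (afn_mem α m'), cm_b]
    simp only [UE]
    ring
  have k1 : (afn α u).a * σ ((afn α u).a * (afn α v).x - (afn α u).x * (afn α v).a) = 0 :=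
    eq_zero_of_real fun w => by
      have := F _ (mx (σ w))
      rw [cm_cR hv' (mx _), cm_wR hv' (mx _), cm_b] at this
      simp only [UE] at this ⊢
      linear_combination -this
  have k2 : (afn α u).x * σ ((afn α u).a * (afn α v).x - (afn α u).x * (afn α v).a) = 0 :=
    eq_zero_of_real fun w => by
      have := F _ (ma (σ w))
      rw [cm_cR hv' (ma _), cm_wR hv' (ma _), cm_b] at this
      simp only [UE] at this ⊢
      linear_combination this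
  by_contra c
  have c' := σ_ne_zero (sub_ne_zero.2 (Ne.symm c))
  exact h0 ((pres (chR_As α) u hu).2
    ⟨hu', (mul_eq_zero.1 k1).resolve_right c', (mul_eq_zero.1 k2).resolve_right c'⟩)

/-- PROOF.  `N = St Rs [Z1, Z2, As, Z3]` contains `Tn Rs` (`cm_S_Z2`, `cm_S_Z3`, `cm_S_S`).  `α` and `α⁻¹` (`inv_pres`) preserve `Z3`, `As`
(`chR_As`), `Z1 = [Z3, Z3]` (`z = cm (Xx t) (Xx 1)`, `t = -τ z.c`; `cm_Z3_Z3`) and `Z2` (`n = cm (Xa 1) (Xx n.w) * z`, `z ∈ Z1`; `cm_S_Z3`).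
`St_conj`, `Lc.ext'`. -/
theorem extR (h₀ : SA p A₀) (L : Lc p A₀ Rs B) {α : MulAut (Rs : Subgroup (U K))} (hα : α ∈ B)
    (h : ∀ u ∈ Rs, u.a = 0 → (afn α u).a = 0) : ∃ φ ∈ A₀, rR φ = α := by
  have p3 : ∀ x ∈ Rs, x ∈ Z3 → afn α x ∈ Z3 := fun x hx k => ⟨afn_mem α hx, h x hx k.2⟩
  have p1 : ∀ x ∈ Rs, x ∈ Z1 → afn α x ∈ Z1 := fun z _ k => by
    have e : z = cm (Xx (-(τ * z.c))) (Xx 1) := by
      have := z.hc
      rw [mem_Z1] at k
      ext <;> simp only [cm_y, cm_a, cm_x, cm_b, cm_wR (mx _) (mx _), cm_cR (mx _) (mx _), UE, k] <;> ring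
    rw [e, afn_cm α (mx _) (mx _)]
    exact cm_Z3_Z3 (p3 _ (mx _) ⟨rfl, rfl⟩) (p3 _ (mx _) ⟨rfl, rfl⟩)
  have p2 : ∀ x ∈ Rs, x ∈ Z2 → afn α x ∈ Z2 := fun n hn k => by
    have m := cm_mem (ma (1 : K)) (mx n.w)
    have := p1 _ (mul_mem (inv_mem m) hn) (by
      rw [mem_Z2] at k
      simp only [mem_Z1, cm_y, cm_a, cm_x, cm_b, cm_wR (ma _) (mx _), UE, k, sub_self, neg_add_cancel, and_self])
    rw [afn_dv α m hn, afn_cm α (ma _) (mx _)] at this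
    simpa using mul_mem (cm_S_Z3 (afn α (Xa 1)) (p3 _ (mx n.w) ⟨rfl, rfl⟩)) (Z1_le_Z2 this)
  refine L.ext' h₀ (isPGroup_St ((isPGroup_U p).to_subgroup Rs) [Z1, Z2, As, Z3]) ?_ hα
    fun t ht => St_conj (fun i x hx => ?_) ht
  · rintro _ ⟨g, rfl⟩ i x hx k
    have e : x⁻¹ * MulAut.conj g x = cm x⁻¹ g := by simp only [cm, MulAut.conj_apply, inv_inv, mul_assoc]
    rw [show afn (((MulAut.characteristic Rs).comp MulAut.conj) g) x = MulAut.conj g x from afn_res _ hx, e]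
    rcases i with _ | _ | _ | _ | _ | i
    · exact ⟨chr_mem (L := Z1) _ k, cm_eq_one.2 (com_Z1 g (inv_mem k)).symm⟩
    · exact ⟨chr_mem (L := Z2) _ k, cm_comm (cm_S_Z2 g (inv_mem k))⟩
    · exact ⟨chr_mem (L := As) _ k, cm_comm (cm_S_Z3 g (inv_mem (As_le_Z3 k)))⟩
    · exact ⟨chr_mem (L := Z3) _ k, Z2_le_As (cm_comm (cm_S_Z3 g (inv_mem k)))⟩
    · exact ⟨trivial, cm_S_S _ _⟩
    · exact ⟨trivial, trivial⟩
  · rcases i with _ | _ | _ | _ | i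
    exacts [pres p1 x hx, pres p2 x hx, pres (chR_As α) x hx, pres p3 x hx, Iff.rfl]

theorem extR' (h₀ : SA p A₀) (L : Lc p A₀ Rs B) {α : MulAut (Rs : Subgroup (U K))} (hα : α ∈ B)
    (h : (afn α (Xx 1)).a = 0) : ∃ φ ∈ A₀, rR φ = α := by
  refine extR h₀ L hα fun x hx e => ?_
  have := lineR α (mx 1) hx (by simp only [UE, e])
  rw [h, zero_mul] at this
  exact (mul_eq_zero.1 this).resolve_left fun a =>
    one_ne_zero ((pres (chR_As α) _ (mx 1)).2 ⟨afn_mem α (mx 1), h, a⟩).2.2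

/-- PROOF.  If `(α (Xx 1)).a ≠ 0` choose `t` with `(cR (Xy t) (α (Xx 1))).x = 0` (`cjR`); `extR'` for `ψR K * (cR (Xy t) * α)`. -/
theorem genR (h₀ : SA p A₀) (L : Lc p A₀ Rs B) (hψ : ψR K ∈ B) {α : MulAut (Rs : Subgroup (U K))} (hα : α ∈ B) :
    ∃ φ ∈ A₀, α = rR φ ∨ ∃ g, α = cR g * ψR K * rR φ := by
  by_cases h : (afn α (Xx 1)).a = 0
  · obtain ⟨φ, h1, h2⟩ := extR' h₀ L hα h
    exact ⟨φ, h1, .inl h2.symm⟩
  obtain ⟨t, e⟩ := kill α h
  obtain ⟨φ, h1, h2⟩ := extR' h₀ L (mul_mem hψ (mul_mem (L.cj h₀ (Xy t)) hα)) (by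
    rw [afn_mul _ _ (mx 1), afn_ψR (afn_mem _ (mx 1))]; exact e)
  refine ⟨φ, h1, .inr ⟨(Xy t)⁻¹, ?_⟩⟩
  rw [h2, mul_assoc, ← mul_assoc (ψR K), ψR_sq, one_mul, cR, map_inv, map_inv, inv_mul_cancel_left]

/-- PROOF (as `RFS.hua`, with `y2, y8, X1, Y2, Y8` replaced by `x, a, Xy, Xx, Xa`).  `a₀ = cR (Xy t) * α` maps `{a = 0}` into `{x = 0}`;
`τ s = a₀ * cR (Xy s) * a₀⁻¹ ∈ B` acts by `(x, a) ↦ (x, a + l s * x)`, `l` is injective, so onto.
`μ = cR (Xy d) * (τ s * cR (Xy d))` with `l s = -d⁻¹`. -/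
theorem hua (h₀ : SA p A₀) (L : Lc p A₀ Rs B) (d : Kˣ) :
    ∃ μ ∈ B, ∀ u ∈ Rs, (afn μ u).x = d * u.a ∧ (afn μ u).a = -(d : K)⁻¹ * u.x := by
  obtain ⟨α, hα, hn⟩ := L.exists_not_res
  have h : (afn α (Xx 1)).a ≠ 0 := fun e => hn (extR' h₀ L hα e)
  obtain ⟨t, e2⟩ := kill α h
  have e8 : (afn (cR (Xy t) * α) (Xx 1)).a ≠ 0 := by
    rwa [afn_mul _ _ (mx 1), (cjR _ (afn_mem α (mx 1))).2]
  have ha : cR (Xy t) * α ∈ B := mul_mem (L.cj h₀ (Xy t)) hα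
  generalize cR (Xy t) * α = a at e2 e8 ha
  have A1 : ∀ x ∈ Rs, x.a = 0 → (afn a x).x = 0 := fun x hx e => by
    have := lineR a (mx 1) hx (by simp only [UE, e])
    rw [e2, zero_mul] at this
    exact (mul_eq_zero.1 this.symm).resolve_left e8
  have A2 : ∀ x ∈ Rs, x.x = 0 → (afn a⁻¹ x).a = 0 := fun x hx e => by
    have := lineR a⁻¹ (afn_mem a (mx 1)) hx (by rw [e, e2, mul_zero, zero_mul])
    rw [afn_inv_afn _ (mx 1)] at this
    simpa only [UE] using this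
  let T := fun s : K => a * cR (Xy s) * a⁻¹
  have T0 : ∀ s, ∀ x ∈ Rs, afn (T s) x = afn a (afn (cR (Xy s)) (afn a⁻¹ x)) := fun s x hx => by
    rw [afn_mul _ _ hx, afn_mul _ _ (afn_mem _ hx)]
  have T2 : ∀ s, ∀ x ∈ Rs, (afn (T s) x).x = x.x := fun s x hx => by
    have m := afn_mem a⁻¹ hx
    have m' := afn_mem (cR (Xy s)) m
    have := A1 _ (mul_mem (inv_mem m) m') (by rw [dva, (cjR _ m).2, sub_self])
    rwa [afn_dv _ m m', afn_afn_inv _ hx, dvx hx, sub_eq_zero, ← T0 s x hx] at this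
  have T8 : ∀ s, ∀ x ∈ Rs, (afn (T s) x).a = x.a + (afn (T s) (Xx 1)).a * x.x := fun s x hx => by
    have m := afn_mem a⁻¹ (ma x.a)
    have a1 := (congR a m (afn_mem (cR (Xy s)) m) ⟨by
      rw [(cjR _ m).1, A2 _ (ma _) rfl, mul_zero, add_zero], (cjR _ m).2⟩).2
    rw [afn_afn_inv _ (ma _), ← T0 s _ (ma _)] at a1
    have m2 := mul_mem (inv_mem (ma x.a)) hx
    have a2 := lineR (T s) (mx 1) m2 (by simp only [UE, neg_add_cancel])
    rw [T2 s _ (mx 1), T2 s _ m2, afn_dv _ (ma _) hx, dva, a1, dvx (ma _)] at a2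
    simp only [UE] at a2
    linear_combination a2
  have inj : Function.Injective fun s => (afn (T s) (Xx 1)).a := fun s s' e => by
    have m := afn_mem a (ma 1)
    have := (congR a⁻¹ (afn_mem (T s') m) (afn_mem (T s) m) ⟨by rw [T2 _ _ m, T2 _ _ m],
      by rw [T8 _ _ m, T8 s' _ m]; exact congrArg (fun z => _ + z * _) e⟩).1
    rw [T0 _ _ m, T0 _ _ m, afn_inv_afn _ (ma 1), afn_inv_afn _ (afn_mem _ (ma 1)),
      afn_inv_afn _ (afn_mem _ (ma 1)), (cjR _ (ma 1)).1, (cjR _ (ma 1)).1] at this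
    simpa only [UE] using this
  obtain ⟨s, hs⟩ := Finite.injective_iff_surjective.1 inj (-(d : K)⁻¹)
  refine ⟨cR (Xy (d : K)) * (T s * cR (Xy (d : K))), mul_mem (L.cj h₀ _) (mul_mem (mul_mem (mul_mem ha
    (L.cj h₀ _)) (inv_mem ha)) (L.cj h₀ _)), fun x hx => ?_⟩
  have m := afn_mem (cR (Xy (d : K))) hx
  rw [afn_mul _ _ hx, afn_mul _ _ hx, (cjR _ (afn_mem _ m)).1, (cjR _ (afn_mem _ m)).2, T2 _ _ m, T8 _ _ m,
    (cjR _ hx).1, (cjR _ hx).2, show (afn (T s) (Xx 1)).a = _ from hs]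
  have := d.ne_zero
  simp only [UE]
  constructor <;> field_simp <;> ring

/-- PROOF.  `μ d * (μ 1)⁻¹ ∈ B` acts by `(x, a) ↦ (d x, d⁻¹ a)`; `extR`, `hf`: it is `cR g * rR (tf r s f)`.  At `Xa t`, coordinate `a`:
`s f t = d⁻¹ t`, so `s = d⁻¹`, `f = 1`; at `Xx 1`, coordinate `x`: `r s = d`.  So `tf r s f = h1 d ∈ A₀` (`h₀.conj`).
`ψR K * rR (tf (-1) 1 1)` acts as `μ 1`. -/
theorem torR (h₀ : SA p A₀) (hf : Form A₀) (L : Lc p A₀ Rs B) :
    (∀ d, h1 d ∈ A₀) ∧ ∃ b ∈ B, (ψR K * rR (tf (-1) 1 1))⁻¹ * b ∈ OR K := by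
  obtain ⟨μ, hμ, e⟩ := hua h₀ L 1
  simp only [UV, inv_one, one_mul, neg_mul] at e
  refine ⟨fun d => ?_, μ, hμ, mem_OR.2 fun u hu => ?_⟩
  · obtain ⟨ν, hν, e'⟩ := hua h₀ L d
    have k : ∀ u ∈ Rs, (afn (ν * μ⁻¹) u).x = d * u.x ∧ (afn (ν * μ⁻¹) u).a = (d : K)⁻¹ * u.a := fun u hu => by
      have m := afn_mem μ⁻¹ hu
      have := e _ m
      rw [afn_afn_inv _ hu] at this
      rw [afn_mul _ _ hu, (e' _ m).1, (e' _ m).2, this.1, this.2]
      exact ⟨rfl, by ring⟩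
    obtain ⟨φ, hφ, e1⟩ := extR h₀ L (mul_mem hν (inv_mem hμ)) fun u hu c => by rw [(k u hu).2, c, mul_zero]
    obtain ⟨g, r, s, f, rfl⟩ := hf φ hφ
    rw [← e1, map_mul] at k
    have ka : ∀ t, (s : K) * f t = (d : K)⁻¹ * t := fun t => by
      have := (k _ (ma t)).2
      rwa [afn_mul _ _ (ma t), (cjR _ (afn_mem _ (ma t))).2, afn_res _ (ma t)] at this
    have kx := (k _ (mx 1)).1
    rw [afn_mul _ _ (mx 1), (cjR _ (afn_mem _ (mx 1))).1, afn_res _ (mx 1)] at kx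
    have ks := ka 1
    rw [map_one, mul_one, mul_one] at ks
    obtain rfl : f = 1 := RingEquiv.ext fun t => mul_left_cancel₀ s.ne_zero ((ka t).trans (by rw [ks]; rfl))
    simp only [tf_apply, tfn, UE, UV, ks] at kx
    have := mul_mem (inv_mem (h₀.conj g)) hφ
    rwa [inv_mul_cancel_left, tf_congr (r' := d ^ 2) (s' := d⁻¹) (by
      rw [Units.val_pow_eq_pow_val, pow_two, (mul_inv_eq_iff_eq_mul₀ d.ne_zero).1 kx])
      (by rw [ks, Units.val_inv_eq_inv_val])] at this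
  · have := congR (ψR K * rR (tf (-1) 1 1))⁻¹ (afn_mem (ψR K * rR (tf (-1) 1 1)) hu) (afn_mem μ hu) (by
      rw [afn_mul _ _ hu, afn_ψR (afn_mem _ hu), afn_res _ hu, (e u hu).1, (e u hu).2]
      simp only [ψ, tf_apply, tfn, UE, UV, neg_mul, and_self])
    rwa [afn_inv_afn _ hu, ← afn_mul _ _ hu] at this

end Cfsg.Agent.U5F
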