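import Cfsg.Agent.U5F.QA

/-!
Recognition of `SU₃(q)` on `Q / Z1`.
Read the headers and signatures of `U5F/U`, `U5F/Gen`, `U5F/Def`, `U5F/QA`.  `k` is the fixed field of `σ`, `N t = t * σ t`, `ι` is from `exists_ι`,
`θ` from `exists_θ`.  Tools: `simp only [mem_X, UE, UV, h..]` then `ring`, `field_simp`, `grind`; `afn_mul`, `afn_mem`, `afn_cm`, `afn_dv`,
`afn_res`, `afn_inv_afn`, `cjQ`, `cjR`, `congQ`, `congR`, `mem_OQ`, `mem_OR`, `cm_cQ` (`g, h ∈ Qs` commute iff `σ (hf g h) = hf g h`).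
-/

set_option autoImplicit false
set_option linter.unusedSectionVars false
set_option linter.unusedSimpArgs false

namespace Cfsg.Agent.U5F

open Subgroup Cfsg.Agent.RFS Cfsg.Agent.Fus

variable {K : Type*} [Field K] [Cj K] {p : ℕ} [Fact p.Prime] [CharP K p] {A₀ : Subgroup (MulAut (U K))}
  {A : Subgroup (MulAut (Qs : Subgroup (U K)))} {B : Subgroup (MulAut (Rs : Subgroup (U K)))}
  {α β : MulAut (Qs : Subgroup (U K))}

theorem ω_rel {a : K} {b : Kˣ} (h : σ (b : K) = -b - a * σ a) {h' h''} : ωQ K * cQ (Ta a b h) * ωQ K =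
    cQ (Ta (-a / σ (b : K)) (b : K)⁻¹ h') * (ωQ K * rQ (h2 b)) * cQ (Ta (-a / b) (b : K)⁻¹ h'') := by
  refine aut_ext fun x hx => ?_
  have n := fun (g : U K) {y} (hy : y ∈ Qs) => (inferInstance : (Qs : Subgroup (U K)).Normal).conj_mem y hy g
  rw [afn_mul _ _ hx, afn_ωQ hx, afn_mul _ _ (ω_mem _), afn_cQ _ (ω_mem _), afn_ωQ (n _ (ω_mem _)), afn_mul _ _ hx, afn_cQ _ hx,
    afn_mul _ _ (n _ hx), afn_mul _ _ (n _ hx), afn_res _ (n _ hx), afn_ωQ (chr_mem _ (n _ hx)), afn_cQ _ (ω_mem _)]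
  have h1 := b.ne_zero
  have h2 := σu_ne b
  have h3 : a * σ a = -b - σ (b : K) := by rw [h]; ring
  ext <;> simp only [ω, UE, UV, U5F.h2, tf_apply, tfn, hx.1, hx.2] <;> field_simp <;> grind

/-- PROOF.  `ρ (Xy y)` has `(y, 0, 0)`, `ρ (Xw w) ≡ Xw w`, `ρ (Xx s)` has `(0, s, w')` and commutes with all `ρ (Xy y)`, so `w' σ y ∈ k`,
`w' = 0` (`eq_zero_of_real`).  Every `v ∈ Qs` is `≡ Xy _ * Xx _ * Xw _` (`congQ`). -/
theorem mem_OQ_of_St {ρ : MulAut (Qs : Subgroup (U K))} (h : ρ ∈ St Qs [Z1, Z2, Qt]) (h' : ∀ y, InL 0 0 0 (afn ρ (Xy y))) :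
    ρ ∈ OQ K := by
  have qy : ∀ t : K, Xy t ∈ (Qs : Subgroup (U K)) := fun _ => ⟨rfl, rfl⟩
  have qx : ∀ t : K, Xx t ∈ (Qs : Subgroup (U K)) := fun _ => ⟨rfl, rfl⟩
  have qw : ∀ t : K, Xw t ∈ (Qs : Subgroup (U K)) := fun _ => ⟨rfl, rfl⟩
  have hy : ∀ t : K, (afn ρ (Xy t)).y = t ∧ (afn ρ (Xy t)).x = 0 ∧ (afn ρ (Xy t)).w = 0 := fun t => by
    have a : (Xy t)⁻¹ * afn ρ (Xy t) ∈ Qt := (h 3 _ (qy t) (mem_top _)).2
    have b := h' t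
    have a1 := a.1
    simp only [InL, UE] at a1 b
    exact ⟨by linear_combination a1, b.1, b.2⟩
  have hw : ∀ t : K, (afn ρ (Xw t)).y = 0 ∧ (afn ρ (Xw t)).x = 0 ∧ (afn ρ (Xw t)).w = t := fun t => by
    have a : (Xw t)⁻¹ * afn ρ (Xw t) ∈ Z1 := (h 1 _ (qw t) (show Xw t ∈ Z2 from ⟨rfl, rfl, rfl, rfl⟩)).2
    exact (dv_Z1 (qw t) (afn_mem ρ (qw t))).1 a
  have hx : ∀ t : K, (afn ρ (Xx t)).y = 0 ∧ (afn ρ (Xx t)).x = t ∧ (afn ρ (Xx t)).w = 0 := fun t => by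
    have a : (Xx t)⁻¹ * afn ρ (Xx t) ∈ Z2 := (h 2 _ (qx t) (show Xx t ∈ Qt from ⟨rfl, rfl, rfl⟩)).2
    have m := afn_mem ρ (qx t)
    have a1 := a.1
    have a2 := a.2.2.1
    simp only [UE, m.1, m.2] at a1 a2
    refine ⟨a1, by linear_combination a2, eq_zero_of_real fun y => ?_⟩
    have c : cm (Xy y) (Xx t) = 1 := by ext <;> simp only [cm, UE] <;> ring
    have e := cm_cQ (afn_mem ρ (qy y)) m
    rw [← afn_cm ρ (qy y) (qx t), c, (homOn_afn ρ).map_one] at e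
    simp only [hf, UE, hy, a1] at e
    linear_combination e
  refine mem_OQ.2 fun v hv => ?_
  have hu : Xy v.y * Xx v.x * Xw v.w ∈ (Qs : Subgroup (U K)) := mul_mem (mul_mem (qy _) (qx _)) (qw _)
  have e := congQ ρ hu hv (by simp only [UE, and_self])
  have m1 := afn_mem ρ (qy v.y)
  have m2 := afn_mem ρ (qx v.x)
  have m3 := afn_mem ρ (qw v.w)
  rw [homOn_afn ρ _ (mul_mem (qy _) (qx _)) _ (qw _), homOn_afn ρ _ (qy _) _ (qx _)] at e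
  simpa only [UE, hy, hx, hw, m1.1, m1.2, m2.1, m2.2, m3.1, m3.2] using e

theorem ω_Xy (t : K) : ω (Xy t) = Xw t := by ext <;> simp only [ω, UE]

theorem conj_mem_M (hT : Tn Qs ≤ A)
    (h : ∀ α ∈ A, (∀ x ∈ Z2, afn α x ∈ Z2) ∨ ∃ g, ∀ x ∈ Z2, InL 0 0 0 (afn (cQ g * α) x))
    {α₀ : MulAut (Qs : Subgroup (U K))} (h₀ : α₀ ∈ A) (h₁ : ∀ x ∈ Z2, InL 0 0 0 (afn α₀ x)) (g : U K) :
    (ωQ K * α₀) * cQ g * (ωQ K * α₀)⁻¹ ∈ Tn Qs ⊔ OQ K := by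
  have qy : ∀ t : K, Xy t ∈ (Qs : Subgroup (U K)) := fun _ => ⟨rfl, rfl⟩
  have zw : ∀ t : K, Xw t ∈ (Z2 : Subgroup (U K)) := fun _ => ⟨rfl, rfl, rfl, rfl⟩
  have hδ : ∀ x ∈ Z2, afn (ωQ K * α₀) x ∈ Z2 := fun x hx => by
    have k := h₁ x hx
    rw [afn_mul _ _ (Z2_le_Qs hx), afn_ωQ (afn_mem _ (Z2_le_Qs hx))]
    simp only [InL, UE] at k
    simp only [mem_Z2, ω, UE, k, and_self]
  have hτ := conj_mem_St hδ (cQ_mem_St g)
  set τ := (ωQ K * α₀) * cQ g * (ωQ K * α₀)⁻¹ with hτd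
  have hA : α₀ * cQ g * α₀⁻¹ ∈ A := mul_mem (mul_mem h₀ (hT ⟨g, rfl⟩)) (inv_mem h₀)
  set τ' := α₀ * cQ g * α₀⁻¹ with hτ'
  have e : τ = ωQ K * τ' * ωQ K := by rw [hτd, hτ', mul_inv_rev, ωQ_inv]; simp only [mul_assoc]
  have e' : ∀ y : K, afn τ (Xy y) = ω (afn τ' (Xw y)) := fun y => by
    rw [e, afn_mul _ _ (qy y), afn_ωQ (qy y), ω_Xy, afn_mul _ _ (Z2_le_Qs (zw y)), afn_ωQ (afn_mem _ (Z2_le_Qs (zw y)))]
  rcases h _ hA with k | ⟨g', k⟩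
  · refine mem_sup_right (mem_OQ_of_St hτ fun y => ?_)
    have k1 := k _ (zw y)
    rw [mem_Z2] at k1
    simp only [e', InL, ω, UE, k1, and_self]
  · have k1 : ∀ y : K, ∃ z : K, (afn τ (Xy y)).y = σ g'⁻¹.b * z ∧ (afn τ (Xy y)).x = g'⁻¹.a * z ∧ (afn τ (Xy y)).w = z := fun y => by
      have m := Z2_le_Qs (zw y)
      have k2 := k _ (zw y)
      have e2 : afn τ' (Xw y) = afn (cQ g'⁻¹) (afn (cQ g' * τ') (Xw y)) := by
        rw [← afn_mul _ _ m, ← mul_assoc, ← map_mul, ← map_mul, inv_mul_cancel, map_one, map_one, one_mul]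
      have k3 := cjQ g'⁻¹ (afn_mem (cQ g' * τ') m)
      rw [← e2] at k3
      refine ⟨(afn (cQ g' * τ') (Xw y)).y, ?_⟩
      generalize g'⁻¹ = t at k3 ⊢
      simp only [InL, zero_mul, add_zero] at k2
      rw [e']
      simp only [ω, k3, k2]
      exact ⟨by ring, by ring, trivial⟩
    generalize g'⁻¹ = t at k1
    have hb : σ t.b ≠ 0 := fun c => by
      obtain ⟨z, a1, -⟩ := k1 1
      have a : (Xy (1 : K))⁻¹ * afn τ (Xy 1) ∈ Qt := (hτ 3 _ (qy 1) (mem_top _)).2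
      have a2 := a.1
      rw [c, zero_mul] at a1
      simp only [UE, a1] at a2
      exact one_ne_zero (neg_eq_zero.1 a2)
    have hb' : t.b ≠ 0 := fun c => hb (by rw [c, map_zero])
    have hs := t.hb
    have hc : σ (σ t.b)⁻¹ = -(σ t.b)⁻¹ - t.a / σ t.b * σ (t.a / σ t.b) := by
      simp only [map_inv₀, map_div₀, σσ]
      field_simp
      linear_combination hs
    have k4 : cQ (Ta _ _ hc) * τ ∈ OQ K := by
      refine mem_OQ_of_St (mul_mem (cQ_mem_St _) hτ) fun y => ?_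
      obtain ⟨z, a1, a2, a3⟩ := k1 y
      have k3 := cjQ (Ta _ _ hc) (afn_mem τ (qy y))
      rw [a1, a2, a3] at k3
      rw [afn_mul _ _ (qy y), InL, k3.2.1, k3.2.2]
      simp only [Ta, map_inv₀, map_div₀, σσ, zero_mul, add_zero]
      constructor
      · field_simp
        ring
      · field_simp
        linear_combination z * hs
    have e3 : τ = (cQ (Ta _ _ hc))⁻¹ * (cQ (Ta _ _ hc) * τ) := by rw [inv_mul_cancel_left]
    rw [e3]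
    exact mul_mem (inv_mem (mem_sup_left ⟨_, rfl⟩)) (mem_sup_right k4)

/-- PROOF.  `δ = ωQ K * α₀` preserves `Z2`.  Claim: `τ = δ * cQ g * δ⁻¹ ∈ M = Tn Qs ⊔ OQ K`.  `τ ∈ St Qs [Z1, Z2, Qt]` (`conj_mem_St`), and
`τ' = ω τ ω = α₀ (cQ g) α₀⁻¹ ∈ A`, `τ (Xy y) = ω (τ' (Xw y))`.  If `τ'` preserves `Z2`: `mem_OQ_of_St`.  Otherwise `τ' x = cQ t v` with `t = g'⁻¹`,
`v ≡ (y, 0, 0)`, so `ω (τ' x)` has `(σ t.b y, t.a y, y)`.  `t.b ≠ 0` because `(τ (Xy 1)).y = 1`.  It is `cQ t' (σ t.b y, 0, 0)` for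
`t' = Ta (-t.a / σ t.b) t.b⁻¹ _`; `mem_OQ_of_St` for `(cQ t')⁻¹ * τ`.  So conjugation by `δ` maps `M` into `M` (`OQ K` is normal), hence onto `M`
(finite): `cQ g₁ = δ n δ⁻¹`, `ω (cQ g₁) ω = α₀ n α₀⁻¹ ∈ A` for every `g₁`.  For `b : Kˣ` take `a` with `N a = -(b + σ b)` (`exists_nrm`);
`ω_rel` gives `ωQ K * rQ (h2 b) ∈ A`; `b = 1` (`h2_one`). -/
theorem std (hT : Tn Qs ≤ A) (hO : OQ K ≤ A)
    (h : ∀ α ∈ A, (∀ x ∈ Z2, afn α x ∈ Z2) ∨ ∃ g, ∀ x ∈ Z2, InL 0 0 0 (afn (cQ g * α) x))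
    (h' : ∃ α₀ ∈ A, ∀ x ∈ Z2, InL 0 0 0 (afn α₀ x)) : ωQ K ∈ A ∧ ∀ μ, rQ (h2 μ) ∈ A := by
  obtain ⟨α₀, h₀, h₁⟩ := h'
  have k1 : (Tn Qs ⊔ OQ K).map (MulAut.conj (ωQ K * α₀)).toMonoidHom ≤ Tn Qs ⊔ OQ K := by
    rw [Subgroup.map_sup]
    refine sup_le ?_ ?_
    · rintro _ ⟨_, ⟨g, rfl⟩, rfl⟩
      exact conj_mem_M hT h h₀ h₁ g
    · rintro _ ⟨n, hn, rfl⟩
      exact mem_sup_right ((inferInstance : (OQ K).Normal).conj_mem n hn _)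
  have k2 := eq_of_le_of_card_ge k1 (card_map_of_injective (MulAut.conj (ωQ K * α₀)).injective).ge
  have k3 : ∀ g, ωQ K * cQ g * ωQ K ∈ A := fun g => by
    have : cQ g ∈ (Tn Qs ⊔ OQ K).map (MulAut.conj (ωQ K * α₀)).toMonoidHom := by
      rw [k2]; exact mem_sup_left ⟨g, rfl⟩
    obtain ⟨n, hn, e⟩ := this
    have e' : ωQ K * cQ g * ωQ K = α₀ * n * α₀⁻¹ := by
      rw [← e]
      change ωQ K * (ωQ K * α₀ * n * (ωQ K * α₀)⁻¹) * ωQ K = _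
      rw [mul_inv_rev, ωQ_inv]
      calc _ = (ωQ K * ωQ K) * (α₀ * n * α₀⁻¹) * (ωQ K * ωQ K) := by simp only [mul_assoc]
        _ = _ := by rw [ωQ_sq, one_mul, mul_one]
    rw [e']
    exact mul_mem (mul_mem h₀ (sup_le hT hO hn)) (inv_mem h₀)
  have k4 : ∀ b : Kˣ, ωQ K * rQ (h2 b) ∈ A := fun b => by
    obtain ⟨a, ha⟩ := exists_nrm (s := -((b : K) + σ (b : K))) (by simp only [UE]; ring)
    have b1 := b.ne_zero
    have b2 := σu_ne b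
    have c : σ (b : K) = -b - a * σ a := by rw [ha]; ring
    have c1 : σ (b : K)⁻¹ = -(b : K)⁻¹ - (-a / σ (b : K)) * σ (-a / σ (b : K)) := by
      simp only [map_inv₀, map_div₀, map_neg, σσ]
      field_simp
      linear_combination c
    have c2 : σ (b : K)⁻¹ = -(b : K)⁻¹ - (-a / (b : K)) * σ (-a / (b : K)) := by
      simp only [map_inv₀, map_div₀, map_neg, σσ]
      field_simp
      linear_combination c
    have k := k3 (Ta a b c)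
    rw [ω_rel c (h' := c1) (h'' := c2)] at k
    exact (A.mul_mem_cancel_left (hT ⟨_, rfl⟩)).1 ((A.mul_mem_cancel_right (hT ⟨_, rfl⟩)).1 k)
  have k5 : ωQ K ∈ A := by simpa only [h2_one, map_one, mul_one] using k4 1
  exact ⟨k5, fun μ => (A.mul_mem_cancel_left k5).1 (k4 μ)⟩

end Cfsg.Agent.U5F
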