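import Cfsg.Agent.U5F.Def

/-!
An automorphism of `Q` which straightens the graph.
Read the headers and signatures of `U5F/U`, `U5F/Gen`, `U5F/Def`.  `k` is the fixed field of `σ`, `N t = t * σ t`, `ι` is from `exists_ι`,
`θ` from `exists_θ`.  Tools: `simp only [mem_X, UE, UV, h..]` then `ring`, `field_simp`, `grind`; `afn_mul`, `afn_mem`, `afn_cm`, `afn_dv`,
`afn_res`, `afn_inv_afn`, `cjQ`, `cjR`, `congQ`, `congR`, `mem_OQ`, `mem_OR`, `cm_cQ` (`g, h ∈ Qs` commute iff `σ (hf g h) = hf g h`).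
-/

set_option autoImplicit false
set_option linter.unusedSectionVars false
set_option linter.unusedSimpArgs false

namespace Cfsg.Agent.U5F

open Subgroup Cfsg.Agent.RFS Cfsg.Agent.Fus

variable {K : Type*} [Field K] [Cj K] {p : ℕ} [Fact p.Prime] [CharP K p] {A₀ : Subgroup (MulAut (U K))}
  {A : Subgroup (MulAut (Qs : Subgroup (U K)))} {B : Subgroup (MulAut (Rs : Subgroup (U K)))}
  {α β : MulAut (Qs : Subgroup (U K))}

/-- PROOF.  On `Qs` define `c ↦ c + σ m x y - σ γ y σ y + (n σ y ^ 2 - σ n y ^ 2) / 2` (cases `2 = 0`, then `n = 0`; and `2 ≠ 0`, then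
`m = 0`, `σ γ = -γ`).  It is an injective homomorphism `Qs →* Qs`; `MulEquiv.ofBijective`. -/
theorem exists_u {m n γ : K} (hγ : γ + σ γ = m * σ m) (hm : m = 0 ∨ (2 : K) = 0) (hn : n = 0 ∨ (2 : K) ≠ 0) :
    ∃ u : MulAut (Qs : Subgroup (U K)), ∀ v ∈ Qs, (afn u v).y = v.y ∧ (afn u v).x = v.x + m * σ v.y ∧
      (afn u v).w = v.w + m * σ v.x + n * σ v.y + γ * v.y := by
  obtain ⟨e, rfl⟩ : ∃ e, n = 2 * e := hn.elim (fun h => ⟨0, by simp [h]⟩) fun h => ⟨n / 2, by field_simp⟩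
  have h1 : 2 * m = 0 := by rcases hm with h | h <;> simp [h]
  have h2 : σ (2 : K) = 2 := map_ofNat _ 2
  have h3 : 2 * σ m = 0 := by rw [← h2, ← map_mul, h1, map_zero]
  let F : U K → U K := fun v => ⟨v.y, 0, v.x + m * σ v.y, 0, v.w + m * σ v.x + 2 * e * σ v.y + γ * v.y,
    v.c + σ m * v.x * v.y - σ γ * v.y * σ v.y + (e * σ v.y ^ 2 - σ e * v.y ^ 2), by simp, by
      simp only [UE]
      linear_combination σ v.x * σ v.y * h1 + v.x * v.y * h3 - v.y * σ v.y * hγ⟩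
  let φ : (Qs : Subgroup (U K)) →* (Qs : Subgroup (U K)) := MonoidHom.mk' (fun v => ⟨F v, rfl, rfl⟩) fun g h => by
    ext <;> simp only [F, coe_mul, UE, g.2.1, g.2.2, h.2.1, h.2.2, h2]
    · ring
    · ring
    · linear_combination (g.1.x * h.1.y + h.1.x * g.1.y) * h3 - σ g.1.y * h.1.y * hγ
  have hφ : Function.Injective φ := (injective_iff_map_eq_one φ).2 fun v hv => by
    have k : F v = 1 := congrArg Subtype.val hv
    have a1 : v.1.y = 0 := congrArg U.y k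
    have a2 := congrArg U.x k
    have a3 := congrArg U.w k
    have a4 := congrArg U.c k
    simp only [F, UE, a1] at a2 a3 a4
    simp only [UE, a2, ne_eq, OfNat.ofNat_ne_zero, not_false_eq_true, zero_pow] at a3 a4
    exact Subtype.ext (U.ext a1 v.2.1 a2 v.2.2 a3 a4)
  refine ⟨MulEquiv.ofBijective φ ⟨hφ, Finite.surjective_of_injective hφ⟩, fun v hv => ?_⟩
  rw [afn_apply _ hv]
  exact ⟨rfl, rfl, rfl⟩

/-- `u * cQ g` and `cQ g * u` have the same coordinates `y, x, w` (`cjQ`, `2 m = 0`); `congQ`. -/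
theorem u_comm {m n γ : K} (hm : m = 0 ∨ (2 : K) = 0) {u : MulAut (Qs : Subgroup (U K))}
    (hu : ∀ v ∈ Qs, (afn u v).y = v.y ∧ (afn u v).x = v.x + m * σ v.y ∧ (afn u v).w = v.w + m * σ v.x + n * σ v.y + γ * v.y)
    (g : U K) : (cQ g)⁻¹ * (u * cQ g * u⁻¹) ∈ OQ K := by
  have h1 : 2 * m = 0 := by rcases hm with h | h <;> simp [h]
  refine mem_OQ.2 fun x hx => ?_
  obtain ⟨v, hv, rfl⟩ : ∃ v ∈ Qs, x = afn u v := ⟨_, afn_mem u⁻¹ hx, (afn_afn_inv u hx).symm⟩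
  have a1 := afn_mem (cQ g) hv
  have := congQ (cQ g)⁻¹ (afn_mem (cQ g) hx) (afn_mem u a1) (by
    simp only [hu _ a1, hu _ hv, cjQ g hv, cjQ g hx, UE, true_and]
    exact ⟨by ring, by linear_combination -σ g.a * σ v.y * h1⟩)
  rwa [afn_mul _ _ hx, afn_mul _ _ hx, afn_inv_afn u hv, afn_mul _ _ hv, afn_inv_afn _ hx] at *

theorem qd2_ind {A B : K} (h : ∀ y, A * σ y = B * y) : A = 0 ∧ B = 0 := by
  obtain ⟨ι, hι⟩ := exists_ι (K := K)
  have a := h 1
  have b := h ι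
  rw [map_one, mul_one, mul_one] at a
  rw [a] at b
  have c : B = 0 := by_contra fun c => hι (mul_left_cancel₀ c b)
  exact ⟨a.trans c, c⟩

/-- PROOF.  `h` says that `u * rQ (h2 μ)` and `cQ g * rQ (tf r s f) * u` have the same coordinates `y, x, w` (`OQ K` is normal).
At `Xy y`, coordinate `y`: `μ⁻¹ y = r f y`, so `r = μ⁻¹`, `f = 1`.  At `Xx 1`, coordinate `x`: `μ / σ μ = r s`.  At `Xy y`, coordinate `x`:
`m σ μ⁻¹ σ y = r s m σ y - g.a r y` for `y = 1, ι`: `g.a = 0`, `m (1 - μ) = 0`.  If `μ² ≠ 1`, then `m = 0`, and coordinate `w`: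
`n σ μ⁻¹ σ y + γ μ⁻¹ y = σ μ (n σ y + γ y) + σ g.b μ⁻¹ y` gives `n (1 - σ μ ^ 2) = 0`. -/
theorem u_tor {m n γ : K} {u : MulAut (Qs : Subgroup (U K))}
    (hu : ∀ v ∈ Qs, (afn u v).y = v.y ∧ (afn u v).x = v.x + m * σ v.y ∧ (afn u v).w = v.w + m * σ v.x + n * σ v.y + γ * v.y)
    {g : U K} {μ r s : Kˣ} {f : K ≃+* K} (h : (rQ (MulAut.conj g * tf r s f))⁻¹ * (u * rQ (h2 μ) * u⁻¹) ∈ OQ K) :
    tf r s f = h2 μ ∧ ((μ : K) ^ 2 ≠ 1 → m = 0 ∧ n = 0) := by
  have key : ∀ v ∈ Qs, _ := fun v hv => by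
    have hx := afn_mem u hv
    have a1 := afn_mem (rQ (h2 μ)) hv
    have a2 := afn_mem (rQ (tf r s f)) hx
    have := congQ (rQ (MulAut.conj g * tf r s f)) hx (afn_mem _ hx) (mem_OQ.1 h _ hx)
    rw [← afn_mul _ _ hx, mul_inv_cancel_left, afn_mul _ _ hx, afn_inv_afn u hv, afn_mul _ _ hv,
      map_mul, afn_mul _ _ hx, (hu _ a1).1, (hu _ a1).2.1, (hu _ a1).2.2, (cjQ g a2).1, (cjQ g a2).2.1,
      (cjQ g a2).2.2, afn_res _ hx, afn_res _ hv] at this
    simp only [h2, tf_apply, tfn, hu _ hv] at this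
    exact this
  have m1 := μ.ne_zero
  have m2 := σu_ne μ
  have a1 := fun y => (key (Xy y) ⟨rfl, rfl⟩).1
  simp only [UE, UV] at a1
  obtain rfl : r = μ⁻¹ := Units.ext (by simpa using (a1 1).symm)
  obtain rfl : f = 1 := RingEquiv.ext fun y => by
    have := a1 y
    rw [Units.val_inv_eq_inv_val] at this
    exact (mul_left_cancel₀ (inv_ne_zero m1) this).symm
  have a2 := (key (Xx 1) ⟨rfl, rfl⟩).2.1
  simp only [UE, UV] at a2
  obtain rfl : s = μ ^ 2 * (σu μ)⁻¹ := Units.ext (by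
    simp only [UV]; exact (mul_left_cancel₀ (inv_ne_zero m1) a2).symm)
  refine ⟨rfl, fun hμ => ?_⟩
  have a3 := fun y => (key (Xy y) ⟨rfl, rfl⟩).2
  simp only [UE, UV] at a3
  obtain ⟨b1, b2⟩ := qd2_ind (A := m * (1 - μ) / σ (μ : K)) (B := -g.a / μ) fun y => by
    have := (a3 y).1
    field_simp at this ⊢
    linear_combination this
  have b3 : m = 0 := by
    rw [div_eq_zero_iff, mul_eq_zero, sub_eq_zero] at b1
    exact (b1.resolve_right m2).resolve_right fun e => hμ (by rw [← e, one_pow])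
  have b4 : g.a = 0 := by simpa [m1] using b2
  obtain ⟨b5, -⟩ := qd2_ind (A := n * (1 - σ (μ : K) ^ 2) / σ (μ : K))
    (B := γ * σ (μ : K) + (σ g.b - γ) / μ) fun y => by
    have := (a3 y).2
    simp only [b3, b4, UE] at this ⊢
    field_simp at this ⊢
    linear_combination this
  rw [div_eq_zero_iff, mul_eq_zero, sub_eq_zero] at b5
  exact ⟨b3, (b5.resolve_right m2).resolve_right fun e => hμ ((σ (K := K)).injective (by
    rw [map_pow, map_one, ← e]))⟩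

end Cfsg.Agent.U5F
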