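import Cfsg.Agent.U5F.QC
import Cfsg.Agent.U5F.QD1
import Cfsg.Agent.U5F.QD2

/-!
The torus of `SU₃(q)` and the reflection `ω`.
Read the headers and signatures of `U5F/U`, `U5F/Gen`, `U5F/Def`, `U5F/QA`, `U5F/QC`, `U5F/QD1`, `U5F/QD2`.  `k` is the fixed field of `σ`, `N t = t * σ t`, `ι` is from `exists_ι`,
`θ` from `exists_θ`.  Tools: `simp only [mem_X, UE, UV, h..]` then `ring`, `field_simp`, `grind`; `afn_mul`, `afn_mem`, `afn_cm`, `afn_dv`,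
`afn_res`, `afn_inv_afn`, `cjQ`, `cjR`, `congQ`, `congR`, `mem_OQ`, `mem_OR`, `cm_cQ` (`g, h ∈ Qs` commute iff `σ (hf g h) = hf g h`).
-/

set_option autoImplicit false
set_option linter.unusedSectionVars false
set_option linter.unusedSimpArgs false

namespace Cfsg.Agent.U5F

open Subgroup Cfsg.Agent.RFS Cfsg.Agent.Fus

variable {K : Type*} [Field K] [Cj K] {p : ℕ} [Fact p.Prime] [CharP K p] {A₀ : Subgroup (MulAut (U K))}
  {A : Subgroup (MulAut (Qs : Subgroup (U K)))} {B : Subgroup (MulAut (Rs : Subgroup (U K)))}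
  {α β : MulAut (Qs : Subgroup (U K))}

theorem qd_cong (h : α⁻¹ * β ∈ OQ K) {x : U K} (hx : x ∈ Qs) :
    (afn β x).y = (afn α x).y ∧ (afn β x).x = (afn α x).x ∧ (afn β x).w = (afn α x).w := by
  have := congQ α hx (afn_mem (α⁻¹ * β) hx) (mem_OQ.1 h x hx)
  rwa [← afn_mul _ _ hx, mul_inv_cancel_left] at this

theorem qd_cong' (h : ∀ x ∈ Qs, (afn β x).y = (afn α x).y ∧ (afn β x).x = (afn α x).x ∧ (afn β x).w = (afn α x).w) :
    α⁻¹ * β ∈ OQ K := mem_OQ.2 fun x hx => by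
  have := congQ α⁻¹ (afn_mem α hx) (afn_mem β hx) (h x hx)
  rwa [afn_inv_afn _ hx, ← afn_mul _ _ hx] at this

theorem qd_Z2 {u v : U K} (hu : u ∈ Z2) (hv : v ∈ Qs) (h : v.y = u.y ∧ v.x = u.x ∧ v.w = u.w) : v ∈ Z2 :=
  ⟨h.1.trans hu.1, hv.1, h.2.1.trans hu.2.2.1, hv.2⟩

theorem qd_InL {m n γ : K} {u v : U K} (hu : InL m n γ u) (h : v.y = u.y ∧ v.x = u.x ∧ v.w = u.w) : InL m n γ v := by
  rw [InL, h.1, h.2.1, h.2.2]; exact hu

/-- PROOF.  `param`, `exists_u`.  `A' = (A ⊔ OQ K).comap (MulAut.conj u).toMonoidHom`; elements of `A ⊔ OQ K` are `a * o`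
(`mem_sup_of_normal_right`).  `Tn Qs ≤ A'` by `u_comm`, `OQ K ≤ A'`.  For `β = u⁻¹ a o u` and `x ∈ Z2`: `u x ≡ x`, so `β x ≡ u⁻¹ (a x)` modulo `Z1`
(`congQ`); `u⁻¹` preserves `Z2`, and maps `v ∈ Qs` with `InL m n γ v` (`v ≡ u (Xy v.y)`) to `≡ Xy v.y`; `cQ g * u⁻¹ ≡ u⁻¹ * cQ g` (`u_comm`).  So `std`
applies (`α₀ ↦ u⁻¹ α₀ u`).  `u (rQ (h2 μ)) u⁻¹ = a o`, `a` preserves `Z2`, `extQ`, `hf`, `u_tor` give `h2 μ ∈ A₀` (`h₀.conj`), and for `μ = ι`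
(`ι ^ 2 ≠ 1` as `σ ι ≠ ι`) `m = n = 0`.  Then `σ γ = -γ` and `t = cQ (Xb (-γ) _)` has `t⁻¹ * u ∈ OQ K` (`cjQ`).  From `u ω u⁻¹ = a o`:
`ω ≡ t⁻¹ a t` in the quotient by `OQ K`. -/
theorem torQ (h₀ : SA p A₀) (hf : Form A₀) (L : Lc p A₀ Qs A) :
    (∀ μ, h2 μ ∈ A₀) ∧ ∃ a ∈ A, (ωQ K)⁻¹ * a ∈ OQ K := by
  obtain ⟨m, n, γ, hγ, hm, hn, ⟨α₀, hα₀, h0⟩, hA⟩ := param h₀ L
  obtain ⟨u, hu⟩ := exists_u hγ hm hn
  have q2 : ∀ x : U K, x ∈ Z2 → x ∈ Qs := fun x hx => Z2_le_Qs hx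
  have u1 : ∀ x ∈ Z2, (afn u x).y = x.y ∧ (afn u x).x = x.x ∧ (afn u x).w = x.w := fun x hx => by
    have := hu x (q2 x hx)
    simpa only [UE, hx.1, hx.2.2.1] using this
  have u2 : ∀ x ∈ Z2, afn u x ∈ Z2 := fun x hx => qd_Z2 hx (afn_mem u (q2 x hx)) (u1 x hx)
  have u3 := pres_inv u2
  have u4 : ∀ v ∈ Qs, InL m n γ v → InL 0 0 0 (afn u⁻¹ v) := fun v hv h => by
    have := hu _ (afn_mem u⁻¹ hv)
    rw [afn_afn_inv _ hv, h.1, h.2, ← this.1] at this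
    have e : (afn u⁻¹ v).x = 0 := by linear_combination -this.2.1
    rw [e] at this
    simp only [InL, UE] at this ⊢
    exact ⟨e, by linear_combination -this.2.2⟩
  have mem : ∀ β, β ∈ (A ⊔ OQ K).comap (MulAut.conj u).toMonoidHom ↔ ∃ a ∈ A, a⁻¹ * (u * β * u⁻¹) ∈ OQ K := fun β => by
    rw [mem_comap, mem_sup_of_normal_right]
    refine exists_congr fun a => and_congr_right fun _ => ⟨fun ⟨o, ho, e⟩ => ?_, fun h => ⟨_, h, mul_inv_cancel_left _ _⟩⟩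
    have e' : a * o = u * β * u⁻¹ := e
    rwa [← e', inv_mul_cancel_left]
  obtain ⟨hω, hμ⟩ := std (A := (A ⊔ OQ K).comap (MulAut.conj u).toMonoidHom)
    (by rintro _ ⟨g, rfl⟩; exact (mem _).2 ⟨cQ g, L.cj h₀ g, u_comm hm hu g⟩)
    (fun o ho => (mem _).2 ⟨1, one_mem _, by simpa using (inferInstance : (OQ K).Normal).conj_mem o ho u⟩)
    (fun β hβ => by
      obtain ⟨a, ha, ho⟩ := (mem β).1 hβ
      have k : ∀ x ∈ Z2, (afn (u * β) x).y = (afn a x).y ∧ (afn (u * β) x).x = (afn a x).x ∧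
          (afn (u * β) x).w = (afn a x).w := fun x hx => by
        have h1 := qd_cong ho (q2 _ (u2 x hx))
        have h2 := congQ a (q2 x hx) (q2 _ (u2 x hx)) (u1 x hx)
        rw [← afn_mul _ _ (q2 x hx), inv_mul_cancel_right] at h1
        exact ⟨h1.1.trans h2.1, h1.2.1.trans h2.2.1, h1.2.2.trans h2.2.2⟩
      refine (hA a ha).imp (fun h x hx => ?_) (Exists.imp fun g h x hx => ?_)
      · have := u3 _ (qd_Z2 (h x hx) (afn_mem _ (q2 x hx)) (k x hx))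
        rwa [← afn_mul _ _ (q2 x hx), inv_mul_cancel_left] at this
      · have h1 := afn_mem (u * β) (q2 x hx)
        have h2 := congQ (cQ g) (afn_mem a (q2 x hx)) h1 (k x hx)
        have h3 := h x hx
        rw [afn_mul _ _ (q2 x hx)] at h3
        have := u4 _ (afn_mem _ h1) (qd_InL (qd_InL h3 h2) (qd_cong (u_comm hm hu g) h1))
        rwa [← afn_mul _ _ h1, ← afn_mul _ _ (q2 x hx),
          show u⁻¹ * (u * cQ g * u⁻¹) * (u * β) = cQ g * β by group] at this)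
    ⟨u⁻¹ * α₀ * u, (mem _).2 ⟨α₀, hα₀, by
      rw [show α₀⁻¹ * (u * (u⁻¹ * α₀ * u) * u⁻¹) = 1 by group]; exact one_mem _⟩, fun x hx => by
      rw [afn_mul _ _ (q2 x hx), afn_mul _ _ (q2 _ (u2 x hx))]
      exact u4 _ (afn_mem _ (q2 _ (u2 x hx))) (h0 _ (u2 x hx))⟩
  have tor : ∀ μ : Kˣ, h2 μ ∈ A₀ ∧ ((μ : K) ^ 2 ≠ 1 → m = 0 ∧ n = 0) := fun μ => by
    obtain ⟨a, ha, ho⟩ := (mem _).1 (hμ μ)
    obtain ⟨φ, hφ, rfl⟩ := extQ h₀ L ha fun x hx => by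
      have h1 := qd_cong ho (q2 x hx)
      refine qd_Z2 (u := afn (u * rQ (h2 μ) * u⁻¹) x) ?_ (afn_mem _ (q2 x hx)) ⟨h1.1.symm, h1.2.1.symm, h1.2.2.symm⟩
      have h2 := u3 x hx
      rw [afn_mul _ _ (q2 x hx), afn_mul _ _ (q2 _ h2), afn_res _ (q2 _ h2)]
      exact u2 _ (chr_mem _ h2)
    obtain ⟨g, r, s, f, rfl⟩ := hf φ hφ
    obtain ⟨e, k⟩ := u_tor hu ho
    exact ⟨e ▸ (mul_mem_cancel_left (h₀.conj g)).1 hφ, k⟩
  refine ⟨fun μ => (tor μ).1, ?_⟩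
  obtain ⟨ι, hι⟩ := exists_ι (K := K)
  obtain ⟨rfl, rfl⟩ := (tor (Units.mk0 ι fun e => hι (by rw [e, map_zero]))).2 fun e => hι (by
    rcases sq_eq_one_iff.1 e with e | e <;> rw [show ι = _ from e] <;> simp)
  have hγ' : -γ + σ (-γ) = 0 := by rw [map_neg]; linear_combination -hγ
  have ht : (cQ (Xb (-γ) hγ'))⁻¹ * u ∈ OQ K := qd_cong' fun x hx => by
    have h1 := hu x hx
    have h2 := cjQ (Xb (-γ) hγ') hx
    simp only [UE] at h1 h2 hγ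
    exact ⟨h1.1.trans h2.1.symm, h1.2.1.trans h2.2.1.symm, by rw [h1.2.2, h2.2.2]; linear_combination x.y * hγ⟩
  obtain ⟨a, ha, ho⟩ := (mem _).1 hω
  have hc := L.cj h₀ (Xb (-γ) hγ')
  refine ⟨(cQ (Xb (-γ) hγ'))⁻¹ * a * cQ (Xb (-γ) hγ'), mul_mem (mul_mem (inv_mem hc) ha) hc, ?_⟩
  rw [← QuotientGroup.eq] at ht ho ⊢
  simp only [QuotientGroup.mk_mul, QuotientGroup.mk_inv] at ho ⊢
  rw [ht, ho]; group

end Cfsg.Agent.U5F
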