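import Cfsg.Agent.U5F.EA
import Cfsg.Agent.U5F.EC
import Cfsg.Agent.U5F.ED
import Cfsg.Agent.U5F.EE
import Cfsg.Agent.U5F.FF
import Cfsg.Agent.U5F.QD
import Cfsg.Agent.U5F.LinR
import Cfsg.Agent.U5F.Cen
import Cfsg.Agent.U5F.AutS
import Cfsg.Agent.U5F.Mod

/-! Every saturated fusion system on the Sylow `p`-subgroup of `SU₅(q)` is realizable. -/

set_option autoImplicit false
set_option linter.unusedSectionVars false

namespace Cfsg.Agent.U5F

open Subgroup Cfsg.Agent.RFS Cfsg.Agent.Fus Cfsg.FusionSystem Cfsg.Agent.SpF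

variable {p : ℕ} [Fact p.Prime]

section Gen

variable {Ω : Type*} [Group Ω] [Finite Ω] {F F' : FusionSystem (⊤ : Subgroup Ω)} {E : Subgroup Ω} [E.Characteristic]

theorem Tn_eq (E : Subgroup Ω) [E.Characteristic] : Tn E = autInducedBy ⊤ E := by
  ext α
  rw [mem_Tn, mem_autInducedBy_iff]
  exact exists_congr fun g => ⟨fun h => ⟨trivial, fun x => h ▸ rfl⟩, fun h => MulEquiv.ext fun x => Subtype.ext (h.2 x).symm⟩

theorem res_mem {φ : MulAut Ω} (h : φ ∈ AS F) : MulAut.characteristic E φ ∈ F.autGroup E :=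
  mem_autGroup_of_isMap (IsMap.mono h le_top) fun _ hx => afn_res φ hx

theorem sa_AS (hS : IsPGroup p (⊤ : Subgroup Ω)) (hF : F.IsSaturated p) : SA p (AS F) := by
  refine ⟨conj_mem_AS F, (sylIn_map_iff_of_injective (by rintro _ ⟨g, rfl⟩; exact conj_mem_AS F g)
    (MulAut.characteristic (⊤ : Subgroup Ω)) fun a b e => MulEquiv.ext fun x => by
      rw [← afn_res (E := ⊤) a (mem_top x), e, afn_res b (mem_top x)]).1 ?_⟩
  convert sat_sylIn_inn hS hF using 1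
  · ext α
    rw [mem_Inn']
    exact ⟨by rintro ⟨_, ⟨g, rfl⟩, rfl⟩; exact ⟨g, trivial, rfl⟩, by rintro ⟨g, -, rfl⟩; exact ⟨_, ⟨g, rfl⟩, rfl⟩⟩
  · ext α
    refine ⟨by rintro ⟨φ, h, rfl⟩; exact res_mem h, fun h => ?_⟩
    obtain ⟨φ, h1, h2⟩ := exists_AS ((mem_autGroup le_rfl).1 h)
    exact ⟨φ, h1, aut_ext fun x hx => (afn_res φ hx).trans (h2 x)⟩

theorem lc_AS (hS : IsPGroup p (⊤ : Subgroup Ω)) (hF : F.IsSaturated p) (hE : F.IsEssential p E) :
    Lc p (AS F) E (F.autGroup E) where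
  res _ := res_mem
  syl := Tn_eq E ▸ (sat_fullyAutomized hS hF hE.2.1).2
  rad _ := radical_le_inn (radical_of_essential hS hE)
  nn := Tn_eq E ▸ not_norm hS hF hE
  ext α hα h := by
    rw [Tn_eq] at h
    obtain ⟨f, hf, e⟩ := sat_extend_of_centric (R := ⊤) hS hF ((mem_autGroup le_top).1 hα) hE.1 fun s _ =>
      have hs : s ∈ normalizerIn ⊤ E := mem_normalizerIn_of_conj trivial fun _ hx => Normal.conj_mem inferInstance _ hx s
      mem_Nf_afn hs (h _ (conjAut_mem_autInducedBy hs))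
    obtain ⟨φ, h3, h4⟩ := exists_AS hf
    exact ⟨φ, h3, aut_ext fun x hx => (afn_res φ hx).trans ((h4 x).trans (e x hx))⟩

theorem imX_chr (γ : MulAut Ω) (E : Subgroup Ω) [E.Characteristic] : imX γ E = E :=
  imX_eq_of (fun _ hx => chr_mem γ hx) fun y hy => ⟨_, chr_mem γ.symm hy, γ.apply_symm_apply y⟩

theorem push_AS {γ φ : MulAut Ω} (h : FIso F F' γ γ.symm) (hφ : φ ∈ AS F') : φ ∈ (AS F).map (MulAut.conj γ).toMonoidHom := by
  refine ⟨γ⁻¹ * φ * γ, ?_, by simp [mul_assoc]⟩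
  have := h.symm.isMap hφ (f' := (γ⁻¹ * φ * γ : MulAut Ω)) fun x _ => by simp [MulAut.inv_def]
  rwa [show imX γ.symm ⊤ = ⊤ from imX_chr γ.symm ⊤] at this

end Gen

variable {K : Type*} [Field K] [Cj K] [CharP K p] {F F' : FusionSystem (⊤ : Subgroup (U K))}

theorem pT : IsPGroup p (⊤ : Subgroup (U K)) := (isPGroup_U p).to_subgroup _

theorem ess_QR (hF : F.IsSaturated p) {E : Subgroup (U K)} (hE : F.IsEssential p E) : E = Qs ∨ E = Rs := by
  have h := ep_of_essential pT hF hE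
  by_cases hR : E ≤ Rs
  · exact .inr (caseR h hR)
  by_cases hP : E ≤ Ps
  · exact .inl (caseP h hR hP)
  obtain ⟨g, hg, h1, h2⟩ := exists_not_two hR hP
  exact (caseN h hg h1 h2 (h.Z3_le hg h1 h2)).elim

theorem le_of (hF : F.IsSaturated p) (h : AS F ≤ AS F') (hω : ωQ K ∈ F.autGroup Qs) (hψ : ψR K ∈ F.autGroup Rs)
    (hω' : ωQ K ∈ F'.autGroup Qs) (hψ' : ψR K ∈ F'.autGroup Rs) : F ≤ F' := by
  refine alperin_le pT hF F' ?_
  rintro P (rfl | hP) α hα
  · obtain ⟨φ, h1, h2⟩ := exists_AS ((mem_autGroup le_rfl).1 hα)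
    exact mem_autGroup_of_isMap (h h1) fun x _ => (h2 x).symm
  obtain rfl | rfl := ess_QR hF hP
  · obtain ⟨φ, h1, rfl | ⟨g, rfl⟩⟩ := genQ (sa_AS pT hF) (lc_AS pT hF hP) hω hα
    exacts [res_mem (h h1), mul_mem (mul_mem (res_mem (conj_mem_AS F' g)) hω') (res_mem (h h1))]
  · obtain ⟨φ, h1, rfl | ⟨g, rfl⟩⟩ := genR (sa_AS pT hF) (lc_AS pT hF hP) hψ hα
    exacts [res_mem (h h1), mul_mem (mul_mem (res_mem (conj_mem_AS F' g)) hψ') (res_mem (h h1))]

theorem real_of (hF : F.IsSaturated p) (hf : Form (AS F)) (hT : T0 K ≤ AS F)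
    (hω : ωQ K ∈ F.autGroup Qs) (hψ : ψR K ∈ F.autGroup Rs) : F.IsRealizable p := by
  obtain ⟨G, _, _, ι, hι, hi, ⟨w, hw⟩, ⟨n, hn⟩, h1, h2⟩ := exists_mod inf_le_right (not_dvd_TF (sa_AS pT hF))
  let j := ι.comp (⊤ : Subgroup (U K)).subtype
  have hr : j.range = ι.range := by rw [MonoidHom.range_comp, range_subtype, ← MonoidHom.range_eq_map]
  obtain ⟨b, hb⟩ := gIso_of_injective j (hι.comp Subtype.val_injective)
  obtain ⟨F₀, h⟩ := exists_fIso (groupFusionSystem j.range) hb.symm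
  have h3 : F₀.IsRealizedBy j := isRealizedBy_of_fIso h.symm fun x => (hfn_apply j x.2).symm
  have h4 : ∃ T : Sylow p G, (T : Subgroup G) = j.range :=
    ⟨((isPGroup_U p).of_surjective _ ι.rangeRestrict_surjective).toSylow hi, hr.symm⟩
  have e : ∀ x, hfn j x = ι x := fun x => hfn_apply j (mem_top x)
  have k : ∀ {P f} (g : G), (∀ u ∈ P, g * ι u * g⁻¹ = ι (f u)) → IsMap F₀ P f := fun g hg =>
    IsRealizedBy_isMap h3 le_top (fun _ _ => trivial) g fun z hz => by rw [e, e, hg z hz]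
  have hω' : ωQ K ∈ F₀.autGroup Qs := mem_autGroup_of_isMap (k w hw) fun _ => afn_ωQ
  have hψ' : ψR K ∈ F₀.autGroup Rs := mem_autGroup_of_isMap (k n hn) fun _ => afn_ψR
  obtain rfl : F = F₀ := by
    refine fs_le_antisymm (le_of hF (fun φ hφ => ?_) hω hψ hω' hψ')
      (le_of (saturated_of_isRealizedBy h3 h4) (fun φ hφ => ?_) hω' hψ' hω hψ)
    · obtain ⟨g, r, s, f, rfl⟩ := hf φ hφ
      obtain ⟨x, hx⟩ := h1 _ ⟨(mul_mem_cancel_left (conj_mem_AS F g)).1 hφ, r, s, f, rfl⟩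
      exact mul_mem (conj_mem_AS F₀ g) (k x fun u _ => hx u)
    · obtain ⟨g, hg⟩ := IsRealizedBy_exists_conj h3 hφ
      obtain ⟨s, t, ht, θ, hθ, h6⟩ := h2 g φ fun u => by rw [← e, ← e, hg u trivial]
      rw [show φ = MulAut.conj s * (t * θ) from MulEquiv.ext h6]
      exact mul_mem (conj_mem_AS F s) (mul_mem (hT ht) hθ.1)
  exact isRealizable_of_isRealizedBy h3 h4

theorem isRealizable_U (hF : F.IsSaturated p) : F.IsRealizable p := by
  by_cases hR : F.IsEssential p Rs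
  swap
  · refine isRealizable_of_uniq pT hF (Q := Qs) (fun x hx => ?_)
      (fun E hE => (ess_QR hF hE).resolve_right fun e => hR (e ▸ hE)) fun φ _ x hx => chr_mem φ hx
    have a := congrArg U.x (hx (Xy 1) ⟨rfl, rfl⟩)
    have b := congrArg U.w (hx (Xy 1) ⟨rfl, rfl⟩)
    simp only [UE] at a b
    exact ⟨by grind, by grind⟩
  by_cases hQ : F.IsEssential p Qs
  swap
  · exact isRealizable_of_uniq pT hF (Q := Rs)
      (fun x hx => mem_Rs_of_comm fun w => cm_eq_one.2 (hx _ rfl).symm)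
      (fun E hE => (ess_QR hF hE).resolve_left fun e => hQ (e ▸ hE)) fun φ _ x hx => chr_mem φ hx
  obtain ⟨γ, hγ⟩ := exists_form (sa_AS pT hF)
  obtain ⟨F₁, e⟩ := exists_push' (F' := F) γ
  have h₁ := e.saturated hF
  have f₁ : Form (AS F₁) := fun φ hφ => hγ φ (push_AS e hφ)
  have a := sa_AS pT h₁
  have lQ := lc_AS pT h₁ (imX_chr γ Qs ▸ e.essential hQ : F₁.IsEssential p Qs)
  have lR := lc_AS pT h₁ (imX_chr γ Rs ▸ e.essential hR : F₁.IsEssential p Rs)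
  obtain ⟨t2, hω⟩ := torQ a f₁ lQ
  obtain ⟨t1, hψ⟩ := torR a f₁ lR
  have hT : T0 K ≤ AS F₁ := by rintro _ ⟨d, μ, rfl⟩; exact mul_mem (t1 d) (t2 μ)
  exact isRealizable_of_push e (real_of h₁ f₁ hT (ω_mem_of a lQ hT hω) (ψ_mem_of a lR hT hψ))

end Cfsg.Agent.U5F
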