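import Cfsg.Agent.U5F.Gen

/-!
Fusion systems on the Sylow `p`-subgroup of `SU₅(q)`: the automizers of `S`, `Q`, `R`.

`tf r s f` applies the field automorphism `f` and then scales `y` by `r`, `a` by `s` (`x` by `r s`, `b` by `s σ s`, `w` by `r s σ s`);
`h1 d`, `h2 μ` generate the torus `T0` of `SU₅(q)`; `rQ φ`, `rR φ` are the restrictions, `cQ g`, `cR g` the restricted
conjugations `x ↦ g x g⁻¹`, `ωQ`, `ψR` the two reflections.  `OQ`, `OR` are the kernels of the actions on `Q/Z1` (coordinates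
`y x w`) and `R/As` (coordinates `x a`).
-/

set_option autoImplicit false
set_option linter.unusedSectionVars false
set_option linter.unusedSimpArgs false

namespace Cfsg.Agent.U5F

open Subgroup Cfsg.Agent.RFS Cfsg.Agent.Fus

variable {K : Type*} [Field K] [Cj K]

/-- If `σ t * w = t * σ w` for all `w`, then `t = 0`. -/
theorem eq_zero_of_real {t : K} (h : ∀ w, σ t * w = t * σ w) : t = 0 := by
  obtain ⟨ι, hι⟩ := exists_ι (K := K)
  have a := h 1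
  have b := h ι
  rw [map_one, mul_one, mul_one] at a
  rw [a] at b
  by_contra c
  exact hι (mul_left_cancel₀ c b).symm

/-- If every `y` lies in `k t`, contradiction. -/
theorem not_all_pr {t : K} (h : ∀ y : K, ∃ s, σ s = s ∧ y = s * t) : False := by
  obtain ⟨ι, hι⟩ := exists_ι (K := K)
  obtain ⟨s, h1, h2⟩ := h 1
  obtain ⟨s', h3, h4⟩ := h ι
  have h5 : σ s * σ t = 1 := by rw [← map_mul, ← h2, map_one]
  apply hι
  rw [h4, map_mul, h3]
  grind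

theorem mem_Z3_of_cm {y : U K} (h : ∀ g, (cm y g).x = 0) : y ∈ Z3 := by
  have a := h (Xa 1)
  have b := h (Xy 1)
  simp only [cm_x, UE, neg_eq_zero] at a b
  exact ⟨a, b⟩

theorem mem_Z2_of_cm {y : U K} (h : ∀ g, cm y g ∈ Z1) : y ∈ Z2 := by
  have h3 := mem_Z3_of_cm fun g => (h g).2.2.1
  have a := (cm_comm (h (Xa 1))).2.2.2.2
  have b := (cm_comm (h (Xy 1))).2.2.2.2
  simp only [cm_w3 _ h3, UE] at a b
  exact ⟨h3.1, h3.2, a, b⟩

theorem mem_Rs_of_comm {y : U K} (h : ∀ w, cm y (Xw w) = 1) : y ∈ Rs := eq_zero_of_real fun w => by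
  have := cm_c2 y (n := Xw w) ⟨rfl, rfl, rfl, rfl⟩
  rw [h] at this
  simp only [UE] at this
  grind

theorem mem_Z1_of_Q {y : U K} (hy : y ∈ Qs) (h : ∀ g ∈ Qs, y * g = g * y) : y ∈ Z1 := by
  have k : ∀ g ∈ Qs, σ (hf y g) = hf y g := fun g hg => by
    have := cm_cQ hy hg
    rw [cm_eq_one.2 (h g hg)] at this
    exact sub_eq_zero.1 this.symm
  refine ⟨eq_zero_of_real fun w => ?_, hy.1, eq_zero_of_real fun w => ?_, hy.2, eq_zero_of_real fun w => ?_⟩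
  · simpa only [hf, UE] using k (Xw w) ⟨rfl, rfl⟩
  · simpa only [hf, UE] using k (Xx w) ⟨rfl, rfl⟩
  · simpa only [hf, UE] using k (Xy w) ⟨rfl, rfl⟩

theorem mem_As_of_R {y : U K} (hy : y ∈ Rs) (h : ∀ g ∈ Z3, y * g = g * y) : y ∈ As := by
  refine ⟨hy, ?_, eq_zero_of_real fun w => ?_⟩
  · have := cm_wR hy (h := Xx 1) rfl
    rw [cm_eq_one.2 (h _ ⟨rfl, rfl⟩)] at this
    simp only [UE] at this
    exact σ_eq_zero.1 this.symm
  · have := cm_cR hy (h := Xx w) rfl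
    rw [cm_eq_one.2 (h _ ⟨rfl, rfl⟩)] at this
    simp only [UE] at this
    grind

theorem mem_Qt_of_comm {y : U K} (hy : y ∈ Qs) (h : ∀ g ∈ Z2, y * g = g * y) : y ∈ Qt :=
  ⟨mem_Rs_of_comm fun w => cm_eq_one.2 (h _ ⟨rfl, rfl, rfl, rfl⟩), hy⟩

theorem com_Qt_Z2 {g n : U K} (hg : g ∈ Qt) (h : n ∈ Z2) : g * n = n * g := com_As hg.1 (Z2_le_As h)

instance chr_Z1 : (Z1 : Subgroup (U K)).Characteristic := char_of_cm (L := ⊤) (M := ⊥) fun y => by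
  simp only [mem_bot, cm_eq_one]
  refine ⟨fun h g _ => (com_Z1 g h).symm, fun h => ?_⟩
  exact mem_Z1_of_Q (Z2_le_Qs (mem_Z2_of_cm fun g => by rw [cm_eq_one.2 (h g trivial)]; exact one_mem _)) fun g _ => h g trivial

instance chr_Z2 : (Z2 : Subgroup (U K)).Characteristic := char_of_cm (L := ⊤) (M := Z1) fun _ =>
  ⟨fun h g _ => cm_comm (cm_S_Z2 g h), fun h => mem_Z2_of_cm fun g => h g trivial⟩

instance chr_Z3 : (Z3 : Subgroup (U K)).Characteristic := char_of_cm (L := ⊤) (M := Z2) fun _ =>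
  ⟨fun h g _ => cm_comm (cm_S_Z3 g h), fun h => mem_Z3_of_cm fun g => (h g trivial).2.2.1⟩

instance chr_Rs : (Rs : Subgroup (U K)).Characteristic := char_of_cm (L := Z2) (M := ⊥) fun _ =>
  ⟨fun h _ hg => cm_eq_one.2 (com_As h (Z2_le_As hg)), fun h => mem_Rs_of_comm fun _ => h _ ⟨rfl, rfl, rfl, rfl⟩⟩

instance chr_As : (As : Subgroup (U K)).Characteristic := char_of_cm (L := Z3) (M := ⊥) fun _ =>
  ⟨fun h _ hg => cm_eq_one.2 (com_As hg.1 h).symm, fun h =>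
    mem_As_of_R (mem_Rs_of_comm fun _ => h _ ⟨rfl, rfl⟩) fun g hg => cm_eq_one.1 (h g hg)⟩

instance chr_Ps : (Ps : Subgroup (U K)).Characteristic := char_of_ex (L := ⊤) (M := Z2) (N := Rs) fun g => by
  refine ⟨fun h => ⟨trivial, fun u _ => ⟨Xy u.y, trivial, cm_Ps_Ps h rfl, by simp [mem_Rs, UE]⟩⟩, fun h => ?_⟩
  by_contra c
  refine not_all_pr (t := g.y) fun y => ?_
  obtain ⟨u, -, h1, h2⟩ := h.2 (Xy y) trivial
  simp only [mem_Z2, cm_x, cm_b, mem_Rs, UE] at h1 h2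
  obtain ⟨s, h3, h4⟩ := exists_pr (u := u.a) c (by grind)
  refine ⟨s, h3, mul_right_cancel₀ c ?_⟩
  change _ * g.a = _ * g.a
  grind

instance chr_Qt : (Qt : Subgroup (U K)).Characteristic := char_of_cm (L := Ps) (M := Z1) fun y => by
  refine ⟨fun h g hg => cm_comm (cm_Ps_Qt hg h), fun h => ?_⟩
  obtain ⟨θ, h0, hθ⟩ := exists_θ (K := K)
  have a := (h (Xy 1) rfl).2.2.1
  simp only [cm_x, UE, neg_eq_zero] at a
  have b := (h (Xy 1) rfl).2.2.2.2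
  have c := (h (Xb θ hθ) rfl).2.2.2.2
  rw [cm_wP a rfl] at b c
  simp only [UE, neg_eq_zero] at b c
  exact ⟨(mul_eq_zero.1 c).resolve_right h0, a, b⟩

instance chr_Qs : (Qs : Subgroup (U K)).Characteristic := char_of_ex (L := Ps) (M := Z1) (N := Rs) fun g => by
  refine ⟨fun h => ⟨h.1, fun u _ => ⟨Xy u.y, rfl, cm_Qs_Qs h ⟨rfl, rfl⟩, by simp [mem_Rs, UE]⟩⟩, fun h => ⟨h.1, ?_⟩⟩
  by_contra c
  refine not_all_pr (t := g.y) fun y => ?_
  obtain ⟨u, h0, h1, h2⟩ := h.2 (Xy y) rfl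
  have h3 := h1.2.2.2.2
  rw [cm_wP h.1 h0] at h3
  simp only [mem_Rs, UE] at h2
  have h4 := g.hb
  have h5 := u.hb
  rw [mem_Ps.1 h.1] at h4
  rw [mem_Ps.1 h0] at h5
  refine ⟨u.b / g.b, by rw [map_div₀, h4, h5]; simp, ?_⟩
  field_simp
  grind

theorem chQ_Z1 : Ch (Qs : Subgroup (U K)) Z1 := Ch.top.of_cen fun _ hy =>
  ⟨fun h g _ _ => (com_Z1 g h).symm, fun h => mem_Z1_of_Q hy fun g hg => h g hg trivial⟩

theorem chR_As : Ch (Rs : Subgroup (U K)) As := Ch.top.of_cen fun _ hy =>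
  ⟨fun h _ hg _ => (com_As hg h).symm, fun h => mem_As_of_R hy fun g hg => h g hg.1 trivial⟩

/-- The kernel of the action on `Q / Z1`. -/
def OQ (K : Type*) [Field K] [Cj K] : Subgroup (MulAut (Qs : Subgroup (U K))) := Ker Qs Z1 chQ_Z1

/-- The kernel of the action on `R / As`. -/
def OR (K : Type*) [Field K] [Cj K] : Subgroup (MulAut (Rs : Subgroup (U K))) := Ker Rs As chR_As

instance : (OQ K).Normal := Ker.normal _ _ _
instance : (OR K).Normal := Ker.normal _ _ _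

theorem dv_Z1 {u v : U K} (hu : u ∈ Qs) (hv : v ∈ Qs) : u⁻¹ * v ∈ Z1 ↔ v.y = u.y ∧ v.x = u.x ∧ v.w = u.w := by
  simp only [mem_Z1, UE, hu.1, hu.2, hv.1, hv.2]
  grind

theorem dv_As {u v : U K} (hu : u ∈ Rs) (hv : v ∈ Rs) : u⁻¹ * v ∈ As ↔ v.x = u.x ∧ v.a = u.a := by
  simp only [mem_As, UE, mem_Rs.1 hu, mem_Rs.1 hv]
  grind

theorem mem_OQ {α : MulAut (Qs : Subgroup (U K))} :
    α ∈ OQ K ↔ ∀ x ∈ Qs, (afn α x).y = x.y ∧ (afn α x).x = x.x ∧ (afn α x).w = x.w :=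
  forall₂_congr fun _ hx => dv_Z1 hx (afn_mem α hx)

theorem mem_OR {α : MulAut (Rs : Subgroup (U K))} : α ∈ OR K ↔ ∀ x ∈ Rs, (afn α x).x = x.x ∧ (afn α x).a = x.a :=
  forall₂_congr fun _ hx => dv_As hx (afn_mem α hx)

/-- The coordinates of `α u` modulo `Z1` depend only on those of `u`. -/
theorem congQ (α : MulAut (Qs : Subgroup (U K))) {u v : U K} (hu : u ∈ Qs) (hv : v ∈ Qs)
    (h : v.y = u.y ∧ v.x = u.x ∧ v.w = u.w) :
    (afn α v).y = (afn α u).y ∧ (afn α v).x = (afn α u).x ∧ (afn α v).w = (afn α u).w := by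
  rw [← dv_Z1 (afn_mem α hu) (afn_mem α hv), ← afn_dv α hu hv]
  exact chQ_Z1 α _ (mul_mem (inv_mem hu) hv) ((dv_Z1 hu hv).2 h)

theorem congR (α : MulAut (Rs : Subgroup (U K))) {u v : U K} (hu : u ∈ Rs) (hv : v ∈ Rs) (h : v.x = u.x ∧ v.a = u.a) :
    (afn α v).x = (afn α u).x ∧ (afn α v).a = (afn α u).a := by
  rw [← dv_As (afn_mem α hu) (afn_mem α hv), ← afn_dv α hu hv]
  exact chR_As α _ (mul_mem (inv_mem hu) hv) ((dv_As hu hv).2 h)

/-- Restriction to `Q`. -/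
abbrev rQ : MulAut (U K) →* MulAut (Qs : Subgroup (U K)) := MulAut.characteristic Qs
/-- Restriction to `R`. -/
abbrev rR : MulAut (U K) →* MulAut (Rs : Subgroup (U K)) := MulAut.characteristic Rs
/-- Conjugation on `Q`. -/
abbrev cQ (g : U K) : MulAut (Qs : Subgroup (U K)) := rQ (MulAut.conj g)
/-- Conjugation on `R`. -/
abbrev cR (g : U K) : MulAut (Rs : Subgroup (U K)) := rR (MulAut.conj g)

theorem afn_cQ (g : U K) {x : U K} (hx : x ∈ Qs) : afn (cQ g) x = g * x * g⁻¹ := afn_res _ hx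
theorem afn_cR (g : U K) {x : U K} (hx : x ∈ Rs) : afn (cR g) x = g * x * g⁻¹ := afn_res _ hx

/-- The action of `S` on `Q / Z1`. -/
theorem cjQ (g : U K) {u : U K} (hu : u ∈ Qs) : (afn (cQ g) u).y = u.y ∧ (afn (cQ g) u).x = u.x - g.a * u.y ∧
    (afn (cQ g) u).w = u.w + σ g.a * u.x + σ g.b * u.y := by
  rw [afn_cQ g hu]
  simp only [UE, hu.1, hu.2]
  exact ⟨by ring, by ring, by ring⟩

/-- The action of `S` on `R / As`. -/
theorem cjR (g : U K) {u : U K} (hu : u ∈ Rs) : (afn (cR g) u).x = u.x + g.y * u.a ∧ (afn (cR g) u).a = u.a := by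
  rw [afn_cR g hu]
  simp only [UE, mem_Rs.1 hu]
  exact ⟨by ring, by ring⟩

theorem cQ_Z1 (g : U K) {z : U K} (hz : z ∈ Z1) : afn (cQ g) z = z := by
  rw [afn_cQ g (Z2_le_Qs (Z1_le_Z2 hz)), com_Z1 g hz, mul_inv_cancel_right]

/-- The torus and the field automorphisms. -/
def tfn (r s : K) (f : K ≃+* K) (u : U K) : U K where
  y := r * f u.y
  a := s * f u.a
  x := r * s * f u.x
  b := s * σ s * f u.b
  w := r * s * σ s * f u.w
  c := r * σ r * (s * σ s) * f u.c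
  hb := by simp only [map_mul, σσ, ← fσ, u.hb, map_sub, map_neg]; simp only [fσ]; ring
  hc := by simp only [map_mul, σσ, ← fσ, u.hc, map_sub, map_neg]; simp only [fσ]; ring

theorem tfn_mul (r s : K) (f : K ≃+* K) (u v : U K) : tfn r s f (u * v) = tfn r s f u * tfn r s f v := by
  ext <;> simp only [UE, tfn, map_add, map_sub, map_mul, fσ] <;> ring

theorem tfn_tfn (r s r' s' : K) (f f' : K ≃+* K) (u : U K) :
    tfn r s f (tfn r' s' f' u) = tfn (r * f r') (s * f s') (f * f') u := by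
  ext <;> simp only [tfn, map_mul, fσ, RingAut.mul_apply] <;> ring

theorem tfn_one (u : U K) : tfn 1 1 (1 : K ≃+* K) u = u := by
  ext <;> simp [tfn]

/-- A field automorphism on units. -/
def um (f : K ≃+* K) (a : Kˣ) : Kˣ := Units.map (f : K →* K) a

@[simp] theorem um_val (f : K ≃+* K) (a : Kˣ) : (um f a : K) = f a := rfl

@[simp] theorem um_one (a : Kˣ) : um 1 a = a := rfl

/-- `σ` on units. -/
def σu (a : Kˣ) : Kˣ := Units.map (σ : K →+* K).toMonoidHom a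

@[simp] theorem σu_val (a : Kˣ) : (σu a : K) = σ (a : K) := rfl

theorem σu_ne (a : Kˣ) : σ (a : K) ≠ 0 := (σu a).ne_zero

/-- The torus and the field automorphisms. -/
def tf (r s : Kˣ) (f : K ≃+* K) : MulAut (U K) where
  toFun := tfn r s f
  invFun := tfn (um f⁻¹ r⁻¹) (um f⁻¹ s⁻¹) f⁻¹
  left_inv u := by
    rw [tfn_tfn, um_val, um_val, ← map_mul, ← map_mul, inv_mul_cancel, Units.inv_mul, Units.inv_mul, map_one, tfn_one]
  right_inv u := by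
    rw [tfn_tfn, um_val, um_val, ← RingAut.mul_apply, ← RingAut.mul_apply, mul_inv_cancel, RingAut.one_apply,
      RingAut.one_apply, Units.mul_inv, Units.mul_inv, tfn_one]
  map_mul' := tfn_mul _ _ f

theorem tf_apply (r s : Kˣ) (f : K ≃+* K) (u : U K) : tf r s f u = tfn (r : K) s f u := rfl

theorem tf_mul (r s r' s' : Kˣ) (f f' : K ≃+* K) :
    tf r s f * tf r' s' f' = tf (r * um f r') (s * um f s') (f * f') := MulEquiv.ext (tfn_tfn _ _ _ _ f f')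

theorem tf_one : tf (1 : Kˣ) 1 1 = 1 := MulEquiv.ext tfn_one

theorem tf_inv (r s : Kˣ) (f : K ≃+* K) : (tf r s f)⁻¹ = tf (um f⁻¹ r⁻¹) (um f⁻¹ s⁻¹) f⁻¹ := MulEquiv.ext fun _ => rfl

theorem tf_inj {r s r' s' : Kˣ} {f f' : K ≃+* K} (h : ∀ u, (tf r s f u).y = (tf r' s' f' u).y ∧ (tf r s f u).a = (tf r' s' f' u).a) :
    r = r' ∧ s = s' ∧ f = f' := by
  have a : ∀ t, (r : K) * f t = r' * f' t := fun t => (h (Xy t)).1
  have b : (s : K) * f 1 = s' * f' 1 := (h (Xa 1)).2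
  obtain rfl : r = r' := Units.ext (by simpa using a 1)
  exact ⟨rfl, Units.ext (by simpa using b), RingEquiv.ext fun t => mul_left_cancel₀ r.ne_zero (a t)⟩

/-- The group `H Φ`. -/
def TF (K : Type*) [Field K] [Cj K] : Subgroup (MulAut (U K)) where
  carrier := {φ | ∃ r s f, φ = tf r s f}
  one_mem' := ⟨1, 1, 1, tf_one.symm⟩
  mul_mem' := by rintro _ _ ⟨a, b, f, rfl⟩ ⟨a', b', f', rfl⟩; exact ⟨_, _, _, tf_mul ..⟩
  inv_mem' := by rintro _ ⟨a, b, f, rfl⟩; exact ⟨_, _, _, tf_inv ..⟩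

/-- The torus of `SL₂(q²)`: `y, a, x, w` have the weights `d², d⁻¹, d, d / σ d`. -/
def h1 (d : Kˣ) : MulAut (U K) := tf (d ^ 2) d⁻¹ 1

/-- The torus of `SU₃(q)`: `y, a, x, w` have the weights `μ⁻¹, μ² / σ μ, μ / σ μ, σ μ`. -/
def h2 (μ : Kˣ) : MulAut (U K) := tf μ⁻¹ (μ ^ 2 * (σu μ)⁻¹) 1

theorem h12 (d μ : Kˣ) : h1 d * h2 μ = tf (d ^ 2 * μ⁻¹) (d⁻¹ * (μ ^ 2 * (σu μ)⁻¹)) 1 := tf_mul ..

/-- Equalities in the torus. -/
theorem tf_congr {r s r' s' : Kˣ} {f : K ≃+* K} (h : (r : K) = r') (h' : (s : K) = s') : tf r s f = tf r' s' f := by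
  rw [Units.ext h, Units.ext h']

/-- The simp set for units. -/
theorem UV : (∀ a b : Kˣ, ((a * b : Kˣ) : K) = a * b) ∧ (∀ (a : Kˣ) (n : ℕ), ((a ^ n : Kˣ) : K) = (a : K) ^ n) ∧
    (∀ a : Kˣ, ((a⁻¹ : Kˣ) : K) = (a : K)⁻¹) ∧ (∀ a : Kˣ, (σu a : K) = σ (a : K)) ∧ ((1 : Kˣ) : K) = 1 ∧
    (∀ a : Kˣ, ((-a : Kˣ) : K) = -a) ∧ (∀ a : Kˣ, um 1 a = a) ∧ ∀ t : K, (1 : K ≃+* K) t = t :=
  ⟨Units.val_mul, Units.val_pow_eq_pow_val, Units.val_inv_eq_inv_val, σu_val, rfl, Units.val_neg, um_one, fun _ => rfl⟩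

theorem h1_one : h1 (1 : Kˣ) = 1 := by rw [← tf_one]; exact tf_congr (by simp) (by simp)

theorem h2_one : h2 (1 : Kˣ) = 1 := by rw [← tf_one]; exact tf_congr (by simp) (by simp)

theorem h12_mul (d μ d' μ' : Kˣ) : h1 d * h2 μ * (h1 d' * h2 μ') = h1 (d * d') * h2 (μ * μ') := by
  simp only [h12, tf_mul]
  exact tf_congr (by simp only [UV, mul_inv]; ring) (by simp only [UV, UE, mul_inv]; ring)

/-- The torus of `SU₅(q)`. -/
def T0 (K : Type*) [Field K] [Cj K] : Subgroup (MulAut (U K)) where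
  carrier := {φ | ∃ d μ, φ = h1 d * h2 μ}
  one_mem' := ⟨1, 1, by rw [h1_one, h2_one, mul_one]⟩
  mul_mem' := by rintro _ _ ⟨a, b, rfl⟩ ⟨a', b', rfl⟩; exact ⟨_, _, h12_mul ..⟩
  inv_mem' := by
    rintro _ ⟨a, b, rfl⟩
    exact ⟨a⁻¹, b⁻¹, inv_eq_of_mul_eq_one_right (by rw [h12_mul, mul_inv_cancel, mul_inv_cancel, h1_one, h2_one, mul_one])⟩

theorem h1_mem (d : Kˣ) : h1 d ∈ T0 K := ⟨d, 1, by rw [h2_one, mul_one]⟩

theorem h2_mem (μ : Kˣ) : h2 μ ∈ T0 K := ⟨1, μ, by rw [h1_one, one_mul]⟩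

theorem tf_neg : tf (-1 : Kˣ) 1 1 = h1 (-1) * h2 (-1) := by
  rw [h12]
  exact tf_congr (by simp) (by simp)

/-- The reflection on `Q`. -/
def ω (u : U K) : U K := ⟨u.w, 0, -u.x, 0, u.y, u.c - σ u.y * u.w + σ u.w * u.y, by simp, by simp only [UE]; ring⟩

/-- The reflection on `R`. -/
def ψ (u : U K) : U K := ⟨0, u.x, u.a, u.c, -σ u.w - u.a * σ u.x, u.b, u.hc, u.hb⟩

theorem ω_mem (u : U K) : ω u ∈ Qs := ⟨rfl, rfl⟩

theorem ψ_mem (u : U K) : ψ u ∈ Rs := rfl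

theorem ω_ω {u : U K} (hu : u ∈ Qs) : ω (ω u) = u := by
  ext <;> simp only [ω, UE, hu.1, hu.2] <;> ring

theorem ψ_ψ {u : U K} (hu : u ∈ Rs) : ψ (ψ u) = u := by
  ext <;> simp only [ψ, UE, mem_Rs.1 hu] <;> ring

theorem ω_mul {u v : U K} (hu : u ∈ Qs) (hv : v ∈ Qs) : ω (u * v) = ω u * ω v := by
  ext <;> simp only [ω, UE, hu.1, hu.2, hv.1, hv.2] <;> ring

theorem ψ_mul {u v : U K} (hu : u ∈ Rs) (hv : v ∈ Rs) : ψ (u * v) = ψ u * ψ v := by
  ext <;> simp only [ψ, UE, mem_Rs.1 hu, mem_Rs.1 hv] <;> ring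

/-- The reflection on `Q`. -/
def ωQ (K : Type*) [Field K] [Cj K] : MulAut (Qs : Subgroup (U K)) where
  toFun x := ⟨ω x, ω_mem _⟩
  invFun x := ⟨ω x, ω_mem _⟩
  left_inv x := Subtype.ext (ω_ω x.2)
  right_inv x := Subtype.ext (ω_ω x.2)
  map_mul' x y := Subtype.ext (ω_mul x.2 y.2)

/-- The reflection on `R`. -/
def ψR (K : Type*) [Field K] [Cj K] : MulAut (Rs : Subgroup (U K)) where
  toFun x := ⟨ψ x, ψ_mem _⟩
  invFun x := ⟨ψ x, ψ_mem _⟩
  left_inv x := Subtype.ext (ψ_ψ x.2)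
  right_inv x := Subtype.ext (ψ_ψ x.2)
  map_mul' x y := Subtype.ext (ψ_mul x.2 y.2)

theorem afn_ωQ {x : U K} (hx : x ∈ Qs) : afn (ωQ K) x = ω x := by rw [afn_apply _ hx]; rfl
theorem afn_ψR {x : U K} (hx : x ∈ Rs) : afn (ψR K) x = ψ x := by rw [afn_apply _ hx]; rfl

theorem ωQ_sq : ωQ K * ωQ K = 1 := MulEquiv.ext (ωQ K).left_inv
theorem ψR_sq : ψR K * ψR K = 1 := MulEquiv.ext (ψR K).left_inv
theorem ωQ_inv : (ωQ K)⁻¹ = ωQ K := inv_eq_of_mul_eq_one_left ωQ_sq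
theorem ψR_inv : (ψR K)⁻¹ = ψR K := inv_eq_of_mul_eq_one_left ψR_sq

theorem ωQ_tf (r s : Kˣ) (f : K ≃+* K) : ωQ K * rQ (tf r s f) * ωQ K = rQ (tf (r * s * σu s) (σu s)⁻¹ f) := by
  refine aut_ext fun x hx => ?_
  have a1 := ω_mem x
  rw [afn_mul _ _ hx, afn_ωQ hx, afn_mul _ _ a1, afn_ωQ (afn_mem _ a1), afn_res _ hx, afn_res _ a1]
  have h1 := s.ne_zero
  have h2 := σu_ne s
  ext <;> simp only [ω, UE, UV, tf_apply, tfn, map_add, map_sub, map_neg, map_mul, map_zero, fσ, hx.1, hx.2] <;> field_simp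
  ring

theorem ψR_tf (r s : Kˣ) (f : K ≃+* K) : ψR K * rR (tf r s f) * ψR K = rR (tf r⁻¹ (r * s) f) := by
  refine aut_ext fun x hx => ?_
  have a1 := ψ_mem x
  rw [afn_mul _ _ hx, afn_ψR hx, afn_mul _ _ a1, afn_ψR (afn_mem _ a1), afn_res _ hx, afn_res _ a1]
  have h1 := r.ne_zero
  have h2 := σu_ne r
  ext <;> simp only [ψ, UE, UV, tf_apply, tfn, map_add, map_sub, map_neg, map_mul, map_zero, fσ, mem_Rs.1 hx] <;> field_simp
  ring

theorem ωQ_h12 (d μ : Kˣ) : ωQ K * rQ (h1 d * h2 μ) * ωQ K = rQ (h1 d * h2 (d * σu d * (σu μ)⁻¹)) := by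
  have := d.ne_zero
  have := μ.ne_zero
  have := σu_ne d
  have := σu_ne μ
  rw [h12, h12, ωQ_tf]
  exact congrArg _ (tf_congr (by simp only [UV, UE]; field_simp) (by simp only [UV, UE]; field_simp))

theorem ψR_h12 (d μ : Kˣ) : ψR K * rR (h1 d * h2 μ) * ψR K = rR (h1 (d⁻¹ * μ) * h2 μ) := by
  have := d.ne_zero
  have := μ.ne_zero
  have := σu_ne μ
  rw [h12, h12, ψR_tf]
  exact congrArg _ (tf_congr (by simp only [UV, UE]; field_simp) (by simp only [UV, UE]; field_simp))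

/-- Every element of `A₀` is inner times an element of `H Φ`. -/
def Form (A₀ : Subgroup (MulAut (U K))) : Prop := ∀ φ ∈ A₀, ∃ (g : U K) (r s : Kˣ) (f : K ≃+* K), φ = MulAut.conj g * tf r s f

/-- The graph `{(y, m σ y, n σ y + γ y)}` in `Q / Z1`. -/
def InL (m n γ : K) (u : U K) : Prop := u.x = m * σ u.y ∧ u.w = n * σ u.y + γ * u.y

end Cfsg.Agent.U5F
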