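import Cfsg.Agent.U5F.Es

/-!
Essential subgroups inside `Rs`.
Read the header of `U5F/U` and the signatures of `U5F/U`, `U5F/Es`.  `W = Zc E`, `D = Dm E ⊤ ⊤`, `ι` from `exists_ι`, `θ` from
`exists_θ`; "pure" means `t + σ t = 0` (`g.b` for `g ∈ Ps`, `g.c` for `g.x = 0`); `u ∈ k v` means `u * σ v = σ u * v` (`exists_pr`).
Commuting elements have `cm g h = 1` (`cm_eq_one`), read off coordinates with `cm_x cm_b cm_w3 cm_wP cm_wR cm_cR cm_c2`; `cm_swap`, `cm_comm`.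
-/

set_option autoImplicit false
set_option linter.unusedSectionVars false
set_option linter.unusedSimpArgs false

namespace Cfsg.Agent.U5F

open Subgroup Cfsg.Agent.RFS Cfsg.Agent.Fus

variable {K : Type*} [Field K] [Cj K] {E : Subgroup (U K)}

/-- PROOF.  `As ≤ W` (`com_As`, `mem_Zc_of_comm`).  If `W ≤ As`, every `x ∈ Rs` lies in `E` by `c1 (ch_Zc E)` (`cm_Rs_Rs`).  Otherwise take
`e₀ ∈ W` with `(e₀.x, e₀.a) ≠ 0`, suppose `¬ Rs ≤ E` and apply `h.ff` with `B = Rs`, `f e = Xa (ι * e.a) * Xx (ι * e.x)`.  Injectivity: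
`(f e)⁻¹ * f e' ∈ E` has `(x, a) = ι (Δx, Δa)` and commutes with `e⁻¹ * e' ∈ W`, which has `(x, a) = (Δx, Δa)`; `cm_b` and `cm_cR` give
`Δa σ Δa (ι - σ ι) = 0`, `Δx σ Δx (ι - σ ι) = 0`, so `e⁻¹ * e' ∈ As`.  Every `g ∈ E` commutes with `e₀`, so `g.x e₀.a = g.a e₀.x`
(`cm_b`, `cm_wR`; cases `e₀.a = 0` or not).  By the second conclusion every `b ∈ Rs` is `f e * g`, so `b.x e₀.a = b.a e₀.x`;
`b = Xx 1`, `Xa 1` give a contradiction. -/
theorem caseR (h : Ep E) (hR : E ≤ Rs) : E = Rs := by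
  have hA : As ≤ Zc E := fun z hz => h.mem_Zc_of_comm fun g hg => com_As (hR hg) hz
  have hAE : As ≤ E := fun z hz => (mem_Zc.1 (hA hz)).1
  refine le_antisymm hR (by_contra fun hn => ?_)
  by_cases hW : Zc E ≤ As
  · exact hn fun x hx => h.c1 (ch_Zc E) (nm_of_cm fun y hy => hAE (cm_Rs_Rs hx (hR hy)))
      (fun y _ hy => com_As hx (hW hy)) fun y hy => hA (cm_Rs_Rs hx (hR hy))
  obtain ⟨e₀, he₀, hne⟩ := SetLike.not_le_iff_exists.1 hW
  obtain ⟨ι, hι⟩ := exists_ι (K := K)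
  have hι' : ι - σ ι ≠ 0 := sub_ne_zero.2 hι.symm
  have fR : ∀ e : U K, Xa (ι * e.a) * Xx (ι * e.x) ∈ Rs := fun e => by simp only [mem_Rs, UE]
  have key := (h.ff Rs (fun e => Xa (ι * e.a) * Xx (ι * e.x)) hn
    (fun b hb y hy => ⟨hA (cm_Rs_Rs hb (hR hy)), fun b' hb' => com_As hb' (cm_Rs_Rs hb (hR hy))⟩)
    (fun e _ => fR e) fun e he e' he' hE b hb => com_As hb (by
      have hd := mul_mem (inv_mem he) he'
      have r1 := hR (mem_Zc.1 he).1
      have r2 := hR (mem_Zc.1 he').1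
      have c := cm_eq_one.2 ((mem_Zc.1 hd).2 _ hE)
      have c1 := cm_b (e⁻¹ * e') ((Xa (ι * e.a) * Xx (ι * e.x))⁻¹ * (Xa (ι * e'.a) * Xx (ι * e'.x)))
      have c2 := cm_cR (hR (mem_Zc.1 hd).1) (hR hE)
      rw [c] at c1 c2
      rw [mem_Rs] at r1 r2
      simp only [UE, r1, r2] at c1 c2
      have a0 : -e.a + e'.a = 0 := nrm_eq_zero ((mul_eq_zero.1 (by
        simp only [UE]; linear_combination -c1)).resolve_right hι')
      have x0 : -e.x + e'.x = 0 := nrm_eq_zero ((mul_eq_zero.1 (by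
        simp only [UE]; linear_combination -c2)).resolve_right hι')
      simp only [mem_As, UE, r1, r2, a0, x0, and_self])).2
  have r0 := hR (mem_Zc.1 he₀).1
  have hg : ∀ g ∈ E, g.x * e₀.a = g.a * e₀.x := fun g hg => by
    have c := cm_eq_one.2 ((mem_Zc.1 he₀).2 g hg)
    have c1 := cm_b e₀ g
    have c2 := cm_wR r0 (hR hg)
    rw [c] at c1 c2
    simp only [UE] at c1 c2
    by_cases ha : e₀.a = 0
    · have hx : σ e₀.x ≠ 0 := σ_ne_zero fun hx => hne ⟨r0, ha, hx⟩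
      refine mul_right_cancel₀ hx ?_
      have c5 := congrArg σ c2
      simp only [UE] at c5
      simp only [ha, UE] at c5 ⊢
      linear_combination -e₀.x * c5
    · refine mul_right_cancel₀ (σ_ne_zero ha) ?_
      linear_combination -e₀.a * c2 + e₀.x * c1
  have hb : ∀ b ∈ (Rs : Subgroup (U K)), b.x * e₀.a = b.a * e₀.x := fun b hb => by
    obtain ⟨e, he, hE⟩ := key b hb
    have h1 := hg _ hE
    have h2 := hg _ (mem_Zc.1 he).1
    simp only [UE] at h1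
    linear_combination h1 + ι * h2
  have h1 := hb (Xx 1) rfl
  have h2 := hb (Xa 1) rfl
  simp only [UE] at h1 h2
  exact hne ⟨r0, h1, h2.symm⟩

end Cfsg.Agent.U5F
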