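import Cfsg.Agent.U5F.Es

/-!
An essential subgroup whose centre is not in `Rs`, first part.
Read the header of `U5F/U` and the signatures of `U5F/U`, `U5F/Es`.  `W = Zc E`, `D = Dm E ⊤ ⊤`, `ι` from `exists_ι`, `θ` from
`exists_θ`; "pure" means `t + σ t = 0` (`g.b` for `g ∈ Ps`, `g.c` for `g.x = 0`); `u ∈ k v` means `u * σ v = σ u * v` (`exists_pr`).
Commuting elements have `cm g h = 1` (`cm_eq_one`), read off coordinates with `cm_x cm_b cm_w3 cm_wP cm_wR cm_cR cm_c2`; `cm_swap`, `cm_comm`.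
-/

set_option autoImplicit false
set_option linter.unusedSectionVars false
set_option linter.unusedSimpArgs false

namespace Cfsg.Agent.U5F

open Subgroup Cfsg.Agent.RFS Cfsg.Agent.Fus

variable {K : Type*} [Field K] [Cj K] {E : Subgroup (U K)}

/-- `[E, Z2] ≤ Z1 ≤ W` (`cm_S_Z2`, `Ep.Z1_le`), `c1 (ch_Zc E)`. -/
theorem mem_of_Z2 (h : Ep E) {z : U K} (hz : z ∈ Z2) (hc : ∀ e ∈ Zc E, z * e = e * z) : z ∈ E := by
  have h1 : ∀ y, cm z y ∈ Zc E := fun y => h.Z1_le (cm_comm (cm_S_Z2 y hz))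
  exact h.c1 (ch_Zc E) (nm_of_cm fun y _ => (mem_Zc.1 (h1 y)).1) (fun y _ hy => hc y hy) fun y _ => h1 y

/-- PROOF.  `y₀ = e₀.y`.
1. If `Z1 ≤ D`, then `c2` with `D ⊓ W`, `W` gives `Z2 ≤ E` (`D ≤ Z3` is centralised by `Z2`: `com_As`; `[Z2, W] ≤ Z1 ≤ D ⊓ W`), so
 `Xw (ι y₀)` commutes with `e₀`; `cm_c2` gives `y₀ σ y₀ (ι - σ ι) = 0`, absurd.
2. Every `e ∈ W` has `e.y ∈ k y₀`.  Apply `h.ff` with `B = Z2`, `f e = Xw (ι * e.y)` (`Xw (ι y₀) ∉ E`; if `(f e)⁻¹ * f e' = Xw (ι Δy) ∈ E` it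
 commutes with `e⁻¹ * e'`, so `Δy = 0` and `com_As`).  If `e₁.y ∉ k y₀` then `b = Xw y₀ ∉ E` commutes with `e₀`, so `e₀` commutes with
 `Xw (ι y₀)`, absurd.
3. So `C0 y₀` centralises `W` (`com_C0`), `C0 y₀ ≤ E` (`mem_of_Z2`).  If `g ∈ E` has `t = σ g.y y₀ - g.y σ y₀ ≠ 0`, then for `z ∈ Z1`,
 `s = z.c / t ∈ k` and `cm g (Xw (s y₀)) = z`, contradicting 1.  Hence `C0 y₀ ≤ W`, `g.y = s y₀`, and `cm_x` for `g`, `e₀` gives `g.a = s e₀.a`. -/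
theorem eb1 (h : Ep E) {e₀ : U K} (he : e₀ ∈ Zc E) (h0 : e₀.y ≠ 0) :
    ¬ Z1 ≤ Dm E ⊤ ⊤ ∧ C0 e₀.y ≤ Zc E ∧ ∀ g ∈ E, ∃ s, σ s = s ∧ g.y = s * e₀.y ∧ g.a = s * e₀.a := by
  obtain ⟨ι, hι⟩ := exists_ι (K := K)
  have xw : ∀ t : K, Xw t ∈ Z2 := fun t => ⟨rfl, rfl, rfl, rfl⟩
  have key : ∀ (g : U K) t, g * Xw t = Xw t * g → σ g.y * t = g.y * σ t := fun g t e => by
    have := cm_c2 g (xw t)
    rw [cm_eq_one.2 e] at this
    exact sub_eq_zero.1 this.symm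
  have hz : ∀ d : U K, d * Xw (ι * d.y) = Xw (ι * d.y) * d → d.y = 0 := fun d e => by
    have h1 := key d _ e
    rw [map_mul] at h1
    exact nrm_eq_zero ((mul_eq_zero.1 (show d.y * σ d.y * (σ ι - ι) = 0 by
      linear_combination -h1)).resolve_right (sub_ne_zero.2 hι))
  have nE : Xw (ι * e₀.y) ∉ E := fun m => h0 (hz _ ((mem_Zc.1 he).2 _ m))
  have z1 : ∀ b ∈ (Z2 : Subgroup (U K)), ∀ y, cm b y ∈ Z1 := fun b hb y => cm_comm (cm_S_Z2 y hb)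
  have s1 : ¬ Z1 ≤ Dm E ⊤ ⊤ := fun hD => nE (h.c2 ((ch_Dm Ch.top Ch.top).inf (ch_Zc E)) (ch_Zc E)
    (nm_of_cm fun y _ => (mem_Zc.1 (h.Z1_le (z1 _ (xw _) y))).1)
    (fun y _ hy => (com_As (Z3_le_Rs (Dm_le (fun a _ _ b _ _ => cm_S_S a b) hy.1))
      (Z2_le_As (xw _))).symm)
    (fun y _ _ => ⟨hD (z1 _ (xw _) y), h.Z1_le (z1 _ (xw _) y)⟩) fun y _ => h.Z1_le (z1 _ (xw _) y))
  obtain ⟨r1, -⟩ := h.ff Z2 (fun e => Xw (ι * e.y)) (fun k => nE (k (xw _)))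
    (fun b hb y _ => ⟨h.Z1_le (z1 b hb y), fun b' _ => com_Z1 b' (z1 b hb y)⟩) (fun e _ => xw _)
    fun e he e' he' m b hb => by
      have e1 : (Xw (ι * e.y))⁻¹ * Xw (ι * e'.y) = Xw (ι * (e⁻¹ * e').y) := by
        ext <;> simp only [UE] <;> ring
      rw [e1] at m
      exact (com_As (hz _ ((mem_Zc.1 (mul_mem (inv_mem he) he')).2 _ m)) (Z2_le_As hb)).symm
  have c0 : ∀ s, σ s = s → Xw (s * e₀.y) ∈ C0 e₀.y := fun s hs =>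
    ⟨rfl, rfl, rfl, rfl, by simp only [UE, hs]; ring⟩
  have s2 : ∀ e ∈ Zc E, e.y * σ e₀.y = σ e.y * e₀.y := fun e he' => by
    by_contra hne
    have h1 := c0 1 (map_one σ)
    rw [one_mul] at h1
    exact h0 (hz _ (r1 _ (xw e₀.y) (fun m => hne (key e _ ((mem_Zc.1 he').2 _ m)).symm) e₀ he
      (com_C0 h0 (mul_comm _ _) h1).symm _ (xw _)).symm)
  have cE : C0 e₀.y ≤ E := fun n hn =>
    mem_of_Z2 h (C0_le_Z2 hn) fun e he' => (com_C0 h0 (s2 e he') hn).symm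
  have s3 : ∀ g ∈ E, g.y * σ e₀.y = σ g.y * e₀.y := fun g hg => by
    by_contra hne
    refine s1 fun z hz => ?_
    have ht : σ g.y * e₀.y - g.y * σ e₀.y ≠ 0 := sub_ne_zero.2 (Ne.symm hne)
    have hs : σ (z.c / (σ g.y * e₀.y - g.y * σ e₀.y)) = z.c / (σ g.y * e₀.y - g.y * σ e₀.y) := by
      simp only [UE, hz.2.2.1]
      rw [← neg_sub (σ g.y * e₀.y), neg_div_neg_eq]
    have hc := div_mul_cancel₀ z.c ht
    generalize z.c / (σ g.y * e₀.y - g.y * σ e₀.y) = s at hs hc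
    have h1 := cm_S_Z2 g (xw (s * e₀.y))
    have h2 : cm g (Xw (s * e₀.y)) = z := U.ext (h1.1.trans hz.1.symm) (h1.2.1.trans hz.2.1.symm)
      (h1.2.2.1.trans hz.2.2.1.symm) (h1.2.2.2.1.trans hz.2.2.2.1.symm)
      (h1.2.2.2.2.trans hz.2.2.2.2.symm) (by
        rw [cm_c2 g (xw _), ← hc]; simp only [UE, hs]; ring)
    exact h2 ▸ mem_Dm hg trivial (cE (c0 s hs)) trivial
  refine ⟨s1, fun n hn => h.mem_Zc_of_comm fun g hg => com_C0 h0 (s3 g hg) hn, fun g hg => ?_⟩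
  obtain ⟨s, hs, e1⟩ := exists_pr h0 (s3 g hg)
  have h1 := cm_x g e₀
  rw [cm_eq_one.2 ((mem_Zc.1 he).2 g hg).symm, e1] at h1
  refine ⟨s, hs, e1, mul_left_cancel₀ h0 ?_⟩
  have h2 : (1 : U K).x = 0 := rfl
  linear_combination h1 - h2

end Cfsg.Agent.U5F
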