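import Cfsg.Agent.U5F.EB1

/-!
An essential subgroup contains `Z2`.
Read the header of `U5F/U` and the signatures of `U5F/U`, `U5F/Es`.  `W = Zc E`, `D = Dm E ⊤ ⊤`, `ι` from `exists_ι`, `θ` from
`exists_θ`; "pure" means `t + σ t = 0` (`g.b` for `g ∈ Ps`, `g.c` for `g.x = 0`); `u ∈ k v` means `u * σ v = σ u * v` (`exists_pr`).
Commuting elements have `cm g h = 1` (`cm_eq_one`), read off coordinates with `cm_x cm_b cm_w3 cm_wP cm_wR cm_cR cm_c2`; `cm_swap`, `cm_comm`.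
-/

set_option autoImplicit false
set_option linter.unusedSectionVars false
set_option linter.unusedSimpArgs false

namespace Cfsg.Agent.U5F

open Subgroup Cfsg.Agent.RFS Cfsg.Agent.Fus

variable {K : Type*} [Field K] [Cj K] {E : Subgroup (U K)}

namespace EB2

/-- the subgroup `B` -/
def Bs (y₀ a₀ : K) : Subgroup (U K) where
  carrier := {n | n ∈ Qt ∧ n.x * σ a₀ * σ y₀ = σ n.x * a₀ * y₀}
  mul_mem' {a b} h k := ⟨mul_mem h.1 k.1, by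
    simp only [UE, h.1.1]
    linear_combination h.2 + k.2⟩
  one_mem' := ⟨one_mem _, by simp only [UE]⟩
  inv_mem' {a} h := ⟨inv_mem h.1, by
    simp only [UE, h.1.1]
    linear_combination -h.2⟩

theorem mem_Bs {y₀ a₀ : K} {n : U K} : n ∈ Bs y₀ a₀ ↔ n ∈ Qt ∧ n.x * σ a₀ * σ y₀ = σ n.x * a₀ * y₀ := Iff.rfl

theorem Xw_Bs (y₀ a₀ t : K) : Xw t ∈ Bs y₀ a₀ := by simp only [mem_Bs, mem_Qt, UE, and_self]

theorem Xw_As (t : K) : Xw t ∈ As := by simp only [mem_As, UE, and_self]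

theorem Xw_div (ι : K) (e e' : U K) : (Xw (ι * e.y))⁻¹ * Xw (ι * e'.y) = Xw (ι * (e⁻¹ * e').y) := by
  ext <;> simp only [UE] <;> ring

theorem xw {ι : K} (hι : σ ι ≠ ι) {e : U K} (he : e ∈ Zc E) (h : Xw (ι * e.y) ∈ E) : e.y = 0 := by
  have := cm_c2 e (n := Xw (ι * e.y)) (by simp only [mem_Z2, UE, and_self])
  rw [cm_eq_one.2 ((mem_Zc.1 he).2 _ h)] at this
  simp only [UE] at this
  refine nrm_eq_zero ((mul_eq_zero.1 (?_ : e.y * σ e.y * (σ ι - ι) = 0)).resolve_right (sub_ne_zero.2 hι))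
  linear_combination this

theorem com_Z3 {g n : U K} (hg : g ∈ Z3) (hn : n ∈ Z3) : g * n = n * g ↔ n.x * σ g.x = g.x * σ n.x := by
  have a := cm_Z3_Z3 hg hn
  have b := cm_cR hg.1 hn.1
  rw [← cm_eq_one]
  refine ⟨fun e => ?_, fun e => ?_⟩
  · rw [e] at b
    exact sub_eq_zero.1 b.symm
  · rw [e, sub_self] at b
    exact U.ext a.1 a.2.1 a.2.2.1 a.2.2.2.1 a.2.2.2.2 b

end EB2

open EB2 in
/-- PROOF.  Use `eb1`; `y₀ = e₀.y`, `a₀ = e₀.a`.  `B = {n ∈ Qt | n.x σ a₀ ∈ k y₀}` is a subgroup containing `Z2`.  For `n ∈ B`, `g ∈ E`: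
`cm g n ∈ Z2` has `w = n.x σ g.a = s n.x σ a₀`, so it lies in `C0 y₀ ≤ W` and commutes with `B` (`com_As`).  `b₀ = Xw (ι y₀) ∈ B \ E` (`cm_c2`
with `e₀`).  Elements of `E` with `y = 0` have `a = 0`.
Case α: `B` centralises `W ⊓ Z3`.  `h.ff` with `f e = Xw (ι * e.y)` (injectivity as in `eb1`): every `n ∈ B` is `Xw _ * g` with
`g ∈ E ⊓ Qt`, `g.x = n.x`.  If `a₀ ≠ 0` take `n = Xx (y₀ / σ a₀)`; `cm_w3 e₀` for `g` gives `y₀ = 0`.  If `a₀ = 0` then `B = Qt`; take `g, g'` with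
`x = 1`, `x = z.c τ`: `cm g g' = z` (`cm_Z3_Z3`, `cm_cR`), so `Z1 ≤ D`.
Case β: `n₁ ∈ B`, `e₁ ∈ W ⊓ Z3` do not commute, so `μ = n₁.x ∉ k λ`, `λ = e₁.x`.  Every `g ∈ E ⊓ Z3` has `g.x ∈ k λ`.  Choose
`sec : K → U K` with `sec e.y ∈ W`, `(sec e.y).y = e.y` for `e ∈ W`; `t e = ((sec e.y)⁻¹ * e).x / λ ∈ k`, `f e = Xx (t e * μ) * Xw (ι * e.y)`.
If `(f e)⁻¹ * f e' ∈ E` then its `x = (t e' - t e) μ ∈ k λ`, so `t e = t e'`, the element is `Xw (ι Δy)`, `Δy = 0`, and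
`e⁻¹ * e' = ((sec y)⁻¹ * e)⁻¹ * ((sec y)⁻¹ * e') ∈ As`.  The first conclusion for `b₀`, `e₁` says that `e₁` commutes with `n₁`. -/
theorem eb2 (h : Ep E) {e₀ : U K} (he : e₀ ∈ Zc E) : e₀.y = 0 := by
  by_contra h0
  obtain ⟨hD, hC, hs⟩ := eb1 h he h0
  obtain ⟨ι, hι⟩ := exists_ι (K := K)
  have P1 : ∀ b ∈ Bs e₀.y e₀.a, ∀ g ∈ E,
      cm b g ∈ Zc E ∧ ∀ b' ∈ Bs e₀.y e₀.a, b' * cm b g = cm b g * b' := fun b hb g hg => by
    obtain ⟨s, s1, -, s3⟩ := hs g hg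
    have a := cm_S_Z3 g (Qt_le_Z3 hb.1)
    have : cm b g ∈ C0 e₀.y := cm_comm ⟨a.1, a.2.1, a.2.2.1, a.2.2.2, by
      rw [cm_w3 g (Qt_le_Z3 hb.1), hb.1.2.2, s3]
      simp only [UE, s1]
      linear_combination s * hb.2⟩
    exact ⟨hC this, fun b' hb' => com_As hb'.1.1 (Z2_le_As (C0_le_Z2 this))⟩
  have nb : Xw (ι * e₀.y) ∉ E := fun e => h0 (xw hι he e)
  have nB : ¬ Bs e₀.y e₀.a ≤ E := fun e => nb (e (Xw_Bs _ _ _))
  have z3 : ∀ g ∈ E, g.y = 0 → g ∈ Z3 := fun g hg e => by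
    obtain ⟨s, -, s2, s3⟩ := hs g hg
    refine ⟨e, ?_⟩
    rw [s3, (mul_eq_zero.1 (s2.symm.trans e)).resolve_right h0, zero_mul]
  have WE : ∀ {e}, e ∈ Zc E → e ∈ E := fun h => (mem_Zc.1 h).1
  by_cases hα : ∀ e ∈ Zc E, e ∈ Z3 → ∀ n ∈ Bs e₀.y e₀.a, n * e = e * n
  · obtain ⟨-, c⟩ := h.ff _ (fun e => Xw (ι * e.y)) nB P1 (fun e _ => Xw_Bs _ _ _) fun e h1 e' h2 h3 => by
      have m := mul_mem (inv_mem h1) h2
      rw [Xw_div] at h3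
      exact hα _ m (z3 _ (WE m) (xw hι m h3))
    have c' : ∀ t : K, t * σ e₀.a * σ e₀.y = σ t * e₀.a * e₀.y → ∃ g ∈ E, g ∈ Qt ∧ g.x = t := fun t ht => by
      have m : Xx t ∈ Bs e₀.y e₀.a := ⟨by simp only [mem_Qt, UE, and_self], ht⟩
      obtain ⟨e, -, k⟩ := c _ m
      exact ⟨_, k, (mul_mem (inv_mem (Xw_Bs _ _ _)) m).1, by simp only [UE]⟩
    by_cases ha : e₀.a = 0
    · refine hD fun z hz => ?_
      obtain ⟨g, g1, g2, g3⟩ := c' 1 (by simp only [ha, UE])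
      obtain ⟨g', k1, k2, k3⟩ := c' (z.c * τ) (by simp only [ha, UE])
      have a := cm_Z3_Z3 (Qt_le_Z3 g2) (Qt_le_Z3 k2)
      have : cm g g' = z := U.ext (a.1.trans hz.1.symm) (a.2.1.trans hz.2.1.symm) (a.2.2.1.trans hz.2.2.1.symm)
        (a.2.2.2.1.trans hz.2.2.2.1.symm) (a.2.2.2.2.trans hz.2.2.2.2.symm) (by
          rw [cm_cR g2.1 k2.1, g3, k3]
          simp only [UE, hz.2.2.1]
          ring)
      exact this ▸ mem_Dm g1 trivial k1 trivial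
    · have ha' := σ_ne_zero ha
      obtain ⟨g, g1, g2, g3⟩ := c' (e₀.y / σ e₀.a) (by simp only [UE]; field_simp)
      have := cm_w3 e₀ (Qt_le_Z3 g2)
      rw [cm_eq_one.2 ((mem_Zc.1 he).2 _ g1), g2.2.2, g3, div_mul_cancel₀ _ ha'] at this
      simp only [UE] at this
      exact h0 this.symm
  · push Not at hα
    obtain ⟨e₁, w₁, z₁, n₁, b₁, nc⟩ := hα
    have nc' := fun e => nc ((com_Z3 (Qt_le_Z3 b₁.1) z₁).2 e)
    have l0 : e₁.x ≠ 0 := fun e => nc' (by simp only [e, UE])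
    have pr : ∀ g ∈ E, g ∈ Z3 → g.x * σ e₁.x = e₁.x * σ g.x := fun g hg gz =>
      (com_Z3 z₁ gz).1 ((mem_Zc.1 w₁).2 g hg)
    have : ∀ y : K, ∃ u : U K, ∀ e ∈ Zc E, e.y = y → u ∈ Zc E ∧ u.y = y := fun y => by
      by_cases k : ∃ e ∈ Zc E, e.y = y
      · obtain ⟨e, k⟩ := k
        exact ⟨e, fun _ _ _ => k⟩
      · exact ⟨1, fun e a b => (k ⟨e, a, b⟩).elim⟩
    choose sec hsec using this
    have dW : ∀ e ∈ Zc E, (sec e.y)⁻¹ * e ∈ Zc E := fun e k => mul_mem (inv_mem (hsec _ e k rfl).1) k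
    have dZ : ∀ e ∈ Zc E, (sec e.y)⁻¹ * e ∈ Z3 := fun e k => z3 _ (WE (dW e k)) (by
      simp only [UE, (hsec _ e k rfl).2, neg_add_cancel])
    obtain ⟨t, ht⟩ : ∃ t : U K → K, ∀ e, t e = ((sec e.y)⁻¹ * e).x / e₁.x := ⟨_, fun _ => rfl⟩
    have tk : ∀ e ∈ Zc E, σ (t e) = t e := fun e k => by
      rw [ht, map_div₀, div_eq_div_iff (σ_ne_zero l0) l0, pr _ (WE (dW e k)) (dZ e k), mul_comm]
    have fB : ∀ e ∈ Zc E, Xx (t e * n₁.x) * Xw (ι * e.y) ∈ Bs e₀.y e₀.a := fun e k =>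
      mul_mem ⟨by simp only [mem_Qt, UE, and_self], by
        simp only [UE, tk e k]
        linear_combination t e * b₁.2⟩ (Xw_Bs _ _ _)
    obtain ⟨c, -⟩ := h.ff _ (fun e => Xx (t e * n₁.x) * Xw (ι * e.y)) nB P1 fB fun e h1 e' h2 h3 b hb => by
      have m := mul_mem (inv_mem h1) h2
      have a := pr _ h3 (Qt_le_Z3 (mul_mem (inv_mem (fB e h1)) (fB e' h2)).1)
      simp only [UE, tk e h1, tk e' h2] at a
      have tt : t e' = t e := sub_eq_zero.1 ((mul_eq_zero.1 (?_ : (t e' - t e) *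
        (e₁.x * σ n₁.x - n₁.x * σ e₁.x) = 0)).resolve_right (sub_ne_zero.2 nc'))
      swap
      · linear_combination -a
      rw [tt, mul_inv_rev, mul_assoc, inv_mul_cancel_left, Xw_div] at h3
      have yy : e'.y = e.y := by
        have := xw hι m h3
        simp only [UE] at this
        linear_combination this
      have d1 := dZ e h1
      have d2 := dZ e' h2
      rw [ht, ht, div_left_inj' l0] at tt
      rw [yy] at d2 tt
      have d3 := mul_mem (inv_mem d1) d2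
      have d4 : (((sec e.y)⁻¹ * e)⁻¹ * ((sec e.y)⁻¹ * e')).x = 0 := by
        generalize (sec e.y)⁻¹ * e = d at d1 tt
        generalize (sec e.y)⁻¹ * e' = d' at tt
        simp only [UE, d1.1, tt, neg_add_cancel]
      rw [show ((sec e.y)⁻¹ * e)⁻¹ * ((sec e.y)⁻¹ * e') = e⁻¹ * e' by group] at d3 d4
      exact com_As hb.1.1 ⟨d3.1, d3.2, d4⟩
    exact nc (c _ (Xw_Bs _ _ _) nb e₁ w₁ (com_As z₁.1 (Xw_As _)).symm n₁ b₁)

/-- `eb2`, `mem_of_Z2`, `com_As`. -/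
theorem Ep.Z2_le (h : Ep E) : Z2 ≤ E := by
  exact fun z hz => mem_of_Z2 h hz fun e he => (com_As (eb2 h he) (Z2_le_As hz)).symm

/-- `exists_cm_Z2`. -/
theorem Ep.Z1_le_D (h : Ep E) (hR : ¬ E ≤ Rs) : Z1 ≤ Dm E ⊤ ⊤ := by
  obtain ⟨g, hg, ng⟩ := SetLike.not_le_iff_exists.1 hR
  intro z hz
  obtain ⟨n, hn, rfl⟩ := exists_cm_Z2 (g := g) ng hz
  exact mem_Dm hg trivial (h.Z2_le hn) trivial

end Cfsg.Agent.U5F
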