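import Cfsg.Agent.U5F.U

/-!
Essential subgroups for an arbitrary prime, abstractly.  `cm`, `Nm`, `nm_of_cm`, `Ch` and `Ch.of_pred`, `Ch.closure`, `Ch.of_gen`,
`Ch.of_cm`, `Ch.of_cen`, `Ch.of_comm`, `Ch.inf`, `Ch.congr`, `II`, `Ch.II`, `II_le`, `mem_II`, `afn_cm` come from `RFS/Es`.
-/

set_option autoImplicit false
set_option linter.unusedSectionVars false

namespace Cfsg.Agent.U5F

open Subgroup Cfsg.Agent.RFS Cfsg.Agent.Fus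

variable {Ω : Type*} [Group Ω] {E L M N : Subgroup Ω}

/-- `C_E(L ∩ E)`. -/
def Cn (E L : Subgroup Ω) : Subgroup Ω where
  carrier := {g | g ∈ E ∧ ∀ h ∈ E, h ∈ L → g * h = h * g}
  mul_mem' {a b} ha hb := ⟨mul_mem ha.1 hb.1, fun h h1 h2 => by
    rw [mul_assoc, hb.2 h h1 h2, ← mul_assoc, ha.2 h h1 h2, mul_assoc]⟩
  one_mem' := ⟨one_mem _, by simp⟩
  inv_mem' {a} ha := ⟨inv_mem ha.1, fun h h1 h2 => by
    rw [inv_mul_eq_iff_eq_mul, ← mul_assoc, ha.2 h h1 h2, mul_inv_cancel_right]⟩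

theorem mem_Cn {g : Ω} : g ∈ Cn E L ↔ g ∈ E ∧ ∀ h ∈ E, h ∈ L → g * h = h * g := Iff.rfl

theorem ch_Cn (hL : Ch E L) : Ch E (Cn E L) := hL.of_cen fun _ hy => ⟨fun h => h.2, fun h => ⟨hy, h⟩⟩

/-- The centre of `E`. -/
def Zc (E : Subgroup Ω) : Subgroup Ω := Cn E ⊤

theorem mem_Zc {g : Ω} : g ∈ Zc E ↔ g ∈ E ∧ ∀ h ∈ E, g * h = h * g :=
  and_congr_right fun _ => forall₂_congr fun _ _ => ⟨fun h => h trivial, fun h _ => h⟩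

theorem ch_Zc (E : Subgroup Ω) : Ch E (Zc E) := ch_Cn Ch.top

/-- `[L ∩ E, M ∩ E]`. -/
def Dm (E L M : Subgroup Ω) : Subgroup Ω := closure {c | c ∈ E ∧ ∃ a ∈ E, a ∈ L ∧ ∃ b ∈ E, b ∈ M ∧ c = cm a b}

theorem mem_Dm {a b : Ω} (ha : a ∈ E) (ha' : a ∈ L) (hb : b ∈ E) (hb' : b ∈ M) : cm a b ∈ Dm E L M :=
  subset_closure ⟨cm_mem ha hb, a, ha, ha', b, hb, hb', rfl⟩

theorem Dm_le (h : ∀ a ∈ E, a ∈ L → ∀ b ∈ E, b ∈ M → cm a b ∈ N) : Dm E L M ≤ N :=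
  (closure_le N).2 (by rintro _ ⟨-, a, ha, ha', b, hb, hb', rfl⟩; exact h a ha ha' b hb hb')

theorem Dm_le_self : Dm E L M ≤ E := Dm_le fun _ ha _ _ hb _ => cm_mem ha hb

theorem ch_Dm (hL : Ch E L) (hM : Ch E M) : Ch E (Dm E L M) := Ch.closure _ (by
  rintro α _ - ⟨a, ha, ha', b, hb, hb', rfl⟩
  exact ⟨_, afn_mem α ha, hL α a ha ha', _, afn_mem α hb, hM α b hb hb', afn_cm α ha hb⟩)

/-- The subgroup generated by the `g ∈ E` such that not every element of `L ∩ E` is a commutator `cm g h`. -/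
def Sm (E L : Subgroup Ω) : Subgroup Ω := closure {g | g ∈ E ∧ ¬ ∀ r ∈ E, r ∈ L → ∃ h ∈ E, cm g h = r}

theorem mem_Sm {g r : Ω} (hg : g ∈ E) (hr : r ∈ E) (hr' : r ∈ L) (h : ∀ h ∈ E, cm g h ≠ r) : g ∈ Sm E L :=
  subset_closure ⟨hg, fun k => let ⟨x, hx, e⟩ := k r hr hr'; h x hx e⟩

theorem Sm_le (h : ∀ g ∈ E, g ∉ N → ∀ r ∈ E, r ∈ L → ∃ h ∈ E, cm g h = r) : Sm E L ≤ N :=
  (closure_le N).2 fun g hg => by_contra fun k => hg.2 (h g hg.1 k)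

theorem ch_Sm (hL : Ch E L) : Ch E (Sm E L) := Ch.closure _ fun α g hg h k => h fun r hr hr' => by
  obtain ⟨x, hx, e⟩ := k _ (afn_mem α hr) (hL α r hr hr')
  refine ⟨_, afn_mem α⁻¹ hx, afn_injOn α (cm_mem hg (afn_mem α⁻¹ hx)) hr ?_⟩
  rw [afn_cm α hg (afn_mem α⁻¹ hx), afn_afn_inv α hx, e]

/-- The second centre. -/
def Zd (E : Subgroup Ω) : Subgroup Ω where
  carrier := {g | g ∈ E ∧ ∀ h ∈ E, cm g h ∈ Zc E}
  mul_mem' {a b} ha hb := ⟨mul_mem ha.1 hb.1, fun h h1 => by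
    have := (mem_Zc.1 (hb.2 h h1)).2 a ha.1
    rw [show cm (a * b) h = a * cm b h * a⁻¹ * cm a h by simp only [cm]; group, ← this, mul_inv_cancel_right]
    exact mul_mem (hb.2 h h1) (ha.2 h h1)⟩
  one_mem' := ⟨one_mem _, fun h _ => by simpa [cm] using one_mem _⟩
  inv_mem' {a} ha := ⟨inv_mem ha.1, fun h h1 => by
    have h2 := inv_mem (ha.2 h h1)
    have := (mem_Zc.1 h2).2 a ha.1
    rwa [show cm a⁻¹ h = a⁻¹ * ((cm a h)⁻¹ * a) by simp only [cm]; group, this, inv_mul_cancel_left]⟩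

theorem mem_Zd {g : Ω} : g ∈ Zd E ↔ g ∈ E ∧ ∀ h ∈ E, cm g h ∈ Zc E := Iff.rfl

theorem ch_Zd (E : Subgroup Ω) : Ch E (Zd E) :=
  Ch.top.of_cm (ch_Zc E) fun _ hy => ⟨fun h g hg _ => h.2 g hg, fun h => ⟨hy, fun g hg => h g hg trivial⟩⟩

theorem cm_swap (x y : Ω) : cm x y = (cm y x)⁻¹ := by simp only [cm]; group

theorem cm_comm {x y : Ω} (h : cm x y ∈ L) : cm y x ∈ L := by rw [cm_swap]; exact inv_mem h

/-- What is used of an essential subgroup.  `ff`: a subgroup `B ≰ E` with `[B, E] ≤ C = C_{Z(E)}(B)` and an injection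
`Z(E) / C → B / B ∩ E`; then `C_{Z(E)}(b) = C` for `b ∈ B \ E`, and the injection is onto. -/
structure Ep (E : Subgroup Ω) : Prop where
  ne : E ≠ ⊤
  cen : ∀ x, (∀ y ∈ E, y * x = x * y) → x ∈ E
  chain : ∀ l x, Nm E x → Stab E x ⊥ l → x ∈ E
  ff : ∀ (B : Subgroup Ω) (f : Ω → Ω), ¬ B ≤ E →
    (∀ b ∈ B, ∀ y ∈ E, cm b y ∈ Zc E ∧ ∀ b' ∈ B, b' * cm b y = cm b y * b') → (∀ e ∈ Zc E, f e ∈ B) →
    (∀ e ∈ Zc E, ∀ e' ∈ Zc E, (f e)⁻¹ * f e' ∈ E → ∀ b ∈ B, b * (e⁻¹ * e') = e⁻¹ * e' * b) →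
    (∀ b ∈ B, b ∉ E → ∀ e ∈ Zc E, b * e = e * b → ∀ b' ∈ B, b' * e = e * b') ∧ ∀ b ∈ B, ∃ e ∈ Zc E, (f e)⁻¹ * b ∈ E

namespace Ep

theorem c1 (h : Ep E) (hL : Ch E L) {x : Ω} (hx : Nm E x) (h0 : ∀ y ∈ E, y ∈ L → x * y = y * x)
    (h1 : ∀ y ∈ E, cm x y ∈ L) : x ∈ E :=
  h.chain [L] x hx ⟨hL, fun y hy hy' => mem_bot.2 (cm_eq_one.2 (h0 y hy hy')), h1⟩

theorem c2 (h : Ep E) (hL : Ch E L) (hM : Ch E M) {x : Ω} (hx : Nm E x)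
    (h0 : ∀ y ∈ E, y ∈ L → x * y = y * x) (h1 : ∀ y ∈ E, y ∈ M → cm x y ∈ L) (h2 : ∀ y ∈ E, cm x y ∈ M) : x ∈ E :=
  h.chain [L, M] x hx ⟨hL, fun y hy hy' => mem_bot.2 (cm_eq_one.2 (h0 y hy hy')), hM, h1, h2⟩

theorem c3 (h : Ep E) (hL : Ch E L) (hM : Ch E M) (hN : Ch E N) {x : Ω} (hx : Nm E x)
    (h0 : ∀ y ∈ E, y ∈ L → x * y = y * x) (h1 : ∀ y ∈ E, y ∈ M → cm x y ∈ L)
    (h2 : ∀ y ∈ E, y ∈ N → cm x y ∈ M) (h3 : ∀ y ∈ E, cm x y ∈ N) : x ∈ E :=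
  h.chain [L, M, N] x hx ⟨hL, fun y hy hy' => mem_bot.2 (cm_eq_one.2 (h0 y hy hy')), hM, h1, hN, h2, h3⟩

theorem mem_Zc_of_comm (h : Ep E) {z : Ω} (hc : ∀ g ∈ E, g * z = z * g) : z ∈ Zc E :=
  mem_Zc.2 ⟨h.cen z hc, fun g hg => (hc g hg).symm⟩

end Ep

variable {K : Type*} [Field K] [Cj K] {E : Subgroup (U K)}

theorem Ep.Z1_le (h : Ep E) : Z1 ≤ Zc E := fun _ hz => h.mem_Zc_of_comm fun g _ => com_Z1 g hz

/-- An element outside two subgroups. -/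
theorem exists_not_two {Ω : Type*} [Group Ω] {E L M : Subgroup Ω} (hL : ¬ E ≤ L) (hM : ¬ E ≤ M) :
    ∃ g ∈ E, g ∉ L ∧ g ∉ M := by
  obtain ⟨a, ha, na⟩ := SetLike.not_le_iff_exists.1 hL
  obtain ⟨b, hb, nb⟩ := SetLike.not_le_iff_exists.1 hM
  by_cases h1 : a ∈ M
  · by_cases h2 : b ∈ L
    · exact ⟨a * b, mul_mem ha hb, fun h => na ((mul_mem_cancel_right h2).1 h), fun h => nb ((mul_mem_cancel_left h1).1 h)⟩
    · exact ⟨b, hb, h2, nb⟩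
  · exact ⟨a, ha, na, h1⟩

end Cfsg.Agent.U5F
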