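import Cfsg.Agent.U5F.Def

/-!
The kernels `OQ`, `OR` are `p`-groups.
Read the headers and signatures of `U5F/U`, `U5F/Gen`, `U5F/Def`.  `k` is the fixed field of `σ`, `N t = t * σ t`, `ι` is from `exists_ι`,
`θ` from `exists_θ`.  Tools: `simp only [mem_X, UE, UV, h..]` then `ring`, `field_simp`, `grind`; `afn_mul`, `afn_mem`, `afn_cm`, `afn_dv`,
`afn_res`, `afn_inv_afn`, `cjQ`, `cjR`, `congQ`, `congR`, `mem_OQ`, `mem_OR`, `cm_cQ` (`g, h ∈ Qs` commute iff `σ (hf g h) = hf g h`).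
-/

set_option autoImplicit false
set_option linter.unusedSectionVars false
set_option linter.unusedSimpArgs false

namespace Cfsg.Agent.U5F

open Subgroup Cfsg.Agent.RFS Cfsg.Agent.Fus

variable {K : Type*} [Field K] [Cj K] {p : ℕ} [Fact p.Prime] [CharP K p] {A₀ : Subgroup (MulAut (U K))}
  {A : Subgroup (MulAut (Qs : Subgroup (U K)))} {B : Subgroup (MulAut (Rs : Subgroup (U K)))}
  {α β : MulAut (Qs : Subgroup (U K))}

private theorem cmQ_congr {g h g' h' : U K} (hg : g ∈ Qs) (hh : h ∈ Qs) (hg' : g' ∈ Qs) (hh' : h' ∈ Qs)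
    (e : g'.y = g.y ∧ g'.x = g.x ∧ g'.w = g.w) (e' : h'.y = h.y ∧ h'.x = h.x ∧ h'.w = h.w) : cm g' h' = cm g h := by
  have a := mem_Z1.1 (cm_Qs_Qs hg hh)
  have b := mem_Z1.1 (cm_Qs_Qs hg' hh')
  ext <;> simp only [a, b, cm_cQ hg hh, cm_cQ hg' hh', hf, e, e']

private theorem cmR_congr {g h g' h' : U K} (hg : g ∈ Rs) (hh : h ∈ Rs) (hg' : g' ∈ Rs) (hh' : h' ∈ Rs)
    (e : g'.x = g.x ∧ g'.a = g.a) (e' : h'.x = h.x ∧ h'.a = h.a) : cm g' h' = cm g h := by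
  have a := mem_As.1 (cm_Rs_Rs hg hh)
  have b := mem_As.1 (cm_Rs_Rs hg' hh')
  ext <;> simp only [a, b, cm_b, cm_wR hg hh, cm_wR hg' hh', cm_cR hg hh, cm_cR hg' hh', e, e']

/-- PROOF.  `z = cm (Xy 1) n` with `n ∈ Z2` (`exists_cm_Z2`); `afn_cm`; `cm g h` for `g, h ∈ Qs` lies in `Z1` and depends only on
`y, x, w` of `g, h` (`cm_Qs_Qs`, `cm_cQ`). -/
theorem OQ_Z1 (h : α ∈ OQ K) {z : U K} (hz : z ∈ Z1) : afn α z = z := by
  obtain ⟨n, hn, rfl⟩ := exists_cm_Z2 (g := Xy (1 : K)) one_ne_zero hz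
  have h1 : Xy (1 : K) ∈ Qs := ⟨rfl, rfl⟩
  have h2 := Z2_le_Qs hn
  rw [afn_cm α h1 h2]
  exact cmQ_congr h1 h2 (afn_mem α h1) (afn_mem α h2) (mem_OQ.1 h _ h1) (mem_OQ.1 h _ h2)

/-- PROOF.  For `g, h ∈ Rs` the commutator depends only on `x, a` (`cm_b`, `cm_wR`, `cm_cR`), so it is fixed.
`z = cm (Xa s) (Xa 1) * cm (Xa 1) (Xx z.w) * cm (Xx t) (Xx 1)` with `s = -τ z.b`, `t = -τ z.c` (`σ s - s = z.b`). -/
theorem OR_As {α : MulAut (Rs : Subgroup (U K))} (h : α ∈ OR K) {z : U K} (hz : z ∈ As) : afn α z = z := by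
  have k : ∀ g ∈ Rs, ∀ g' ∈ Rs, afn α (cm g g') = cm g g' := fun g hg g' hg' => by
    rw [afn_cm α hg hg']
    exact cmR_congr hg hg' (afn_mem α hg) (afn_mem α hg') (mem_OR.1 h _ hg) (mem_OR.1 h _ hg')
  have a : ∀ t : K, Xa t ∈ Rs := fun _ => rfl
  have b : ∀ t : K, Xx t ∈ Rs := fun _ => rfl
  have e : z = cm (Xa (-(τ * z.b))) (Xa 1) * cm (Xa 1) (Xx z.w) * cm (Xx (-(τ * z.c))) (Xx 1) := by
    rw [mem_As] at hz
    ext <;> simp only [UE, cm_y, cm_a, cm_x, cm_b, cm_wR (a _) (a _), cm_wR (a _) (b _), cm_wR (b _) (b _),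
      cm_cR (a _) (a _), cm_cR (a _) (b _), cm_cR (b _) (b _), hz] <;> ring
  rw [e, homOn_afn α _ (mul_mem (cm_mem (a _) (a _)) (cm_mem (a _) (b _))) _ (cm_mem (b _) (b _)),
    homOn_afn α _ (cm_mem (a _) (a _)) _ (cm_mem (a _) (b _)), k _ (a _) _ (a _), k _ (a _) _ (b _), k _ (b _) _ (b _)]

variable (p) in
/-- `OQ K ≤ St Qs [Z1]`, `isPGroup_St`, `isPGroup_U`. -/
theorem isPGroup_OQ : IsPGroup p (OQ K) := by
  refine (isPGroup_St ((isPGroup_U p).to_subgroup Qs) [Z1]).to_le fun β hβ => mem_St.2 fun i x hx h => ?_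
  rcases i with _ | _ | i
  · rw [OQ_Z1 hβ h]
    exact ⟨h, by simp⟩
  · exact ⟨trivial, hβ x hx⟩
  · exact ⟨trivial, trivial⟩

variable (p) in
theorem isPGroup_OR : IsPGroup p (OR K) := by
  refine (isPGroup_St ((isPGroup_U p).to_subgroup Rs) [As]).to_le fun β hβ => mem_St.2 fun i x hx h => ?_
  rcases i with _ | _ | i
  · rw [OR_As hβ h]
    exact ⟨h, by simp⟩
  · exact ⟨trivial, hβ x hx⟩
  · exact ⟨trivial, trivial⟩

/-- `cjQ` at `Xy 1`. -/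
theorem cQ_mem_OQ {g : U K} : cQ g ∈ OQ K ↔ g ∈ Qs := by
  rw [mem_OQ]
  refine ⟨fun h => ?_, fun h u hu => ?_⟩
  · have h1 : Xy (1 : K) ∈ Qs := ⟨rfl, rfl⟩
    obtain ⟨-, a, b⟩ := h _ h1
    rw [(cjQ g h1).2.1] at a
    rw [(cjQ g h1).2.2] at b
    simp only [UE, neg_eq_zero] at a b
    refine ⟨a, ?_⟩
    exact σ_eq_zero.1 (by rw [g.hb, b])
  · obtain ⟨a, b, c⟩ := cjQ g hu
    rw [a, b, c, h.1, h.2]
    simp only [UE, and_self]

theorem cR_mem_OR {g : U K} : cR g ∈ OR K ↔ g ∈ Rs := by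
  rw [mem_OR]
  refine ⟨fun h => ?_, fun h u hu => ?_⟩
  · have h1 : Xa (1 : K) ∈ Rs := rfl
    obtain ⟨a, -⟩ := h _ h1
    rw [(cjR g h1).1] at a
    simp only [UE] at a
    exact a
  · obtain ⟨a, b⟩ := cjR g hu
    rw [a, b, mem_Rs.1 h]
    simp only [UE, and_self]

theorem inn_le_OQ : Inn (Qs : Subgroup (U K)) ≤ OQ K := by
  intro α h
  obtain ⟨g, hg, rfl⟩ := mem_Inn'.1 h
  exact cQ_mem_OQ.2 hg

theorem inn_le_OR : Inn (Rs : Subgroup (U K)) ≤ OR K := by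
  intro α h
  obtain ⟨g, hg, rfl⟩ := mem_Inn'.1 h
  exact cR_mem_OR.2 hg

private theorem tf_pow (r s : Kˣ) (n : ℕ) : tf r s 1 ^ n = tf (r ^ n) (s ^ n) 1 := by
  induction n with
  | zero => simp only [pow_zero, tf_one]
  | succ n ih => rw [pow_succ, ih, tf_mul, um_one, um_one, mul_one, pow_succ, pow_succ]

private theorem unit_eq_one {r : Kˣ} (h : r ^ p = 1) : r = 1 := by
  have h1 : ((r : K) - 1) ^ p = 0 := by
    rw [sub_pow_char, one_pow, ← Units.val_pow_eq_pow_val, h, Units.val_one, sub_self]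
  exact Units.ext (sub_eq_zero.1 (pow_eq_zero_iff (Fact.out : p.Prime).ne_zero |>.1 h1))

/-- `Cauchy`: an element `tf r s 1` of order `p` has `r ^ p = 1`, `s ^ p = 1` (`tf_mul`, `tf_inj`), so `r = s = 1`. -/
theorem not_dvd_T0 : ¬ p ∣ Nat.card (T0 K) := by
  intro hd
  obtain ⟨⟨θ, d, μ, rfl⟩, ho⟩ := exists_prime_orderOf_dvd_card' p hd
  rw [← orderOf_coe] at ho
  simp only [h12] at ho
  have h1 := pow_orderOf_eq_one (tf (d ^ 2 * μ⁻¹) (d⁻¹ * (μ ^ 2 * (σu μ)⁻¹)) 1)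
  rw [ho, tf_pow, ← tf_one] at h1
  obtain ⟨a, b, -⟩ := tf_inj fun u => ⟨congrArg U.y (DFunLike.congr_fun h1 u), congrArg U.a (DFunLike.congr_fun h1 u)⟩
  rw [unit_eq_one (p := p) a, unit_eq_one (p := p) b, tf_one, orderOf_one] at ho
  exact (Fact.out : p.Prime).one_lt.ne ho

/-- PROOF.  Cauchy: `θ = tf r s f ∈ A₀` of order `p`; `h.syl.exists_conj` for `zpowers θ` and normality of `MulAut.conj.range` give
`θ = conj g`, which fixes the coordinates `y, a`; `tf_inj` with `tf_one` gives `θ = 1`. -/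
theorem not_dvd_TF (h : SA p A₀) : ¬ p ∣ Nat.card (A₀ ⊓ TF K :) := by
  intro hd
  obtain ⟨⟨θ, hθ, r, s, f, rfl⟩, ho⟩ := exists_prime_orderOf_dvd_card' p hd
  rw [← orderOf_coe] at ho
  simp only at ho
  have hp : IsPGroup p (zpowers (tf r s f)) := IsPGroup.of_card (n := 1) (by rw [Nat.card_zpowers, ho, pow_one])
  obtain ⟨γ, -, hγ⟩ := h.syl.exists_conj hp (zpowers_le.2 hθ)
  obtain ⟨g, hg⟩ := hγ _ (mem_zpowers _)
  have e : tf r s f = MulAut.conj (γ⁻¹ g) := by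
    have : tf r s f = γ⁻¹ * MulAut.conj g * γ := by rw [hg]; group
    rw [this]
    ext1 u
    simp
  obtain ⟨a, b, c⟩ := tf_inj (r := r) (s := s) (f := f) (r' := 1) (s' := 1) (f' := 1) fun u => by
    rw [e, tf_one, MulAut.conj_apply, MulAut.one_apply]
    simp only [UE]
    exact ⟨by ring, by ring⟩
  rw [a, b, c, tf_one, orderOf_one] at ho
  exact (Fact.out : p.Prime).one_lt.ne ho

end Cfsg.Agent.U5F
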