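import Cfsg.Agent.U5F.Mat

/-!
The normaliser of `NM (U K)` in the unitary group.
Read the signatures of `U5F/U`, `U5F/Def`, `U5F/Mat`.  `N t = t * σ t`.
Entries: `ext i j; fin_cases i <;> fin_cases j <;> simp [Matrix.mul_apply, Fin.sum_univ_five, ..] <;> ring`.
-/

set_option autoImplicit false
set_option linter.unusedSectionVars false
set_option linter.unusedSimpArgs false

namespace Cfsg.Agent.U5F

open Subgroup Matrix

universe u

variable {K : Type u} [Field K] [Cj K] {p : ℕ} [Fact p.Prime] [CharP K p]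

theorem GJ_entry {M : GL (Fin 5) K} (hM : M ∈ GJ K) (i j : Fin 5) :
    M.1 0 i * σ (M.1 4 j) + M.1 1 i * σ (M.1 3 j) + M.1 2 i * σ (M.1 2 j) + M.1 3 i * σ (M.1 1 j) +
      M.1 4 i * σ (M.1 0 j) = JJ K i j := by
  rw [← mem_GJ.1 hM]
  simp [JJ, Matrix.mul_apply, Fin.sum_univ_five]
  ring

/-- PROOF.  `s = ⟨M 0 1, M 1 2, M 0 2, M 1 3, M 0 3, M 0 4 + M 0 3 * σ (M 0 1), _, _⟩`; the entries of `mem_GJ` give `hb`, `hc` and the
remaining entries (expand with `h`, `h'`; apply `σ` where needed). -/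
theorem exists_NM {M : GL (Fin 5) K} (hM : M ∈ GJ K) (h : ∀ i j, j < i → (M : Matrix (Fin 5) (Fin 5) K) i j = 0)
    (h' : ∀ i, (M : Matrix (Fin 5) (Fin 5) K) i i = 1) : ∃ s, M = NM s := by
  have e41 := GJ_entry hM 4 1
  have e32 := GJ_entry hM 3 2
  have e42 := GJ_entry hM 4 2
  have e33 := GJ_entry hM 3 3
  have e43 := GJ_entry hM 4 3
  have e44 := GJ_entry hM 4 4
  simp [JJ, h, h'] at e41 e32 e42 e33 e43 e44
  have a1 : M.1 3 4 = -σ (M.1 0 1) := by linear_combination e41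
  have a2 : M.1 2 3 = -σ (M.1 1 2) := by linear_combination e32
  have a3 : M.1 2 4 = -σ (M.1 0 2) + σ (M.1 1 2) * σ (M.1 0 1) := by
    rw [a1] at e42; linear_combination e42
  have a4 : σ (M.1 1 3) = -M.1 1 3 - M.1 1 2 * σ (M.1 1 2) := by
    simp only [a2, UE] at e33; linear_combination e33
  have a5 : M.1 1 4 = -σ (M.1 0 3) - M.1 1 2 * σ (M.1 0 2) - M.1 1 3 * σ (M.1 0 1) := by
    simp only [a1, a2, a3, a4, UE] at e43; linear_combination e43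
  refine ⟨⟨M.1 0 1, M.1 1 2, M.1 0 2, M.1 1 3, M.1 0 3, M.1 0 4 + M.1 0 3 * σ (M.1 0 1), a4, ?_⟩, ?_⟩
  · simp only [a1, a3, a4, a5, UE] at e44 ⊢
    linear_combination e44
  · ext i j
    fin_cases i <;> fin_cases j <;> simp [NM_val, mat, h, h', a1, a2, a3, a5]

/-- PROOF.  `φ` is injective (`NM_inj`), so onto: for every `v` there is `u` with `NM v * M = M * NM u`.  Column `0`: `NM v` fixes the first
column of `M`; `v = Xy 1, Xx 1, Xw 1, Xc θ _`, row `0`: `M i 0 = 0` for `i > 0`.  Column `1`, rows `1, 2, 3` (`v = Xa 1, Xy 1`): `M i 1 = 0` for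
`i > 1`.  The entries `(0, j)`, `(1, j)` of `mem_GJ` give `M 0 0 σ (M 4 4) = 1`, `M 4 j = 0` for `j < 4`, `M 1 1 σ (M 3 3) = 1`, `M 3 2 = 0`, and
`(2, 2)` gives `N (M 2 2) = 1`.  `exists_NM` for `M * (dg t₁ t₂ t₀)⁻¹` (`dg_mem`), `tᵢ` the diagonal entries. -/
theorem exists_nor {M : GL (Fin 5) K} (hM : M ∈ GJ K) {φ : U K → U K} (h : ∀ u, M * NM u * M⁻¹ = NM (φ u)) :
    ∃ (s : U K) (t₁ t₂ t₀ : Kˣ), (t₀ : K) * σ (t₀ : K) = 1 ∧ M = NM s * dg t₁ t₂ t₀ := by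
  have sj : Function.Surjective φ := Finite.surjective_of_injective fun u v e => NM_inj (by
    have := h u
    rwa [e, ← h v, mul_left_inj, mul_right_inj] at this)
  have H : ∀ v : U K, ∃ u : U K, ∀ i j, (mat v * M.1) i j = (M.1 * mat u) i j := fun v => by
    obtain ⟨u, rfl⟩ := sj v
    refine ⟨u, fun i j => ?_⟩
    rw [← NM_val, ← NM_val, ← Units.val_mul, ← Units.val_mul, ← h, inv_mul_cancel_right]
  have c0 : ∀ v : U K, v.y * M.1 1 0 + v.x * M.1 2 0 + v.w * M.1 3 0 + (v.c - v.w * σ v.y) * M.1 4 0 = 0 :=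
    fun v => by
      obtain ⟨u, e⟩ := H v
      have := e 0 0
      simp [mat, Matrix.mul_apply, Fin.sum_univ_five] at this
      linear_combination this
  obtain ⟨θ, θ0, θ1⟩ := exists_θ (K := K)
  have m40 : M.1 4 0 = 0 := by simpa [UE, θ0] using c0 (Xc θ θ1)
  have m10 : M.1 1 0 = 0 := by simpa [UE] using c0 (Xy 1)
  have m20 : M.1 2 0 = 0 := by simpa [UE, m40] using c0 (Xx 1)
  have m30 : M.1 3 0 = 0 := by simpa [UE] using c0 (Xw 1)
  have m41 : M.1 4 1 = 0 := by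
    obtain ⟨u, e⟩ := H (Xy 1)
    simpa [mat, Matrix.mul_apply, Fin.sum_univ_five, UE, m30] using e 3 1
  obtain ⟨u, e⟩ := H (Xa 1)
  have m31 : M.1 3 1 = 0 := by simpa [mat, Matrix.mul_apply, Fin.sum_univ_five, UE, m20, m41] using e 2 1
  have m21 : M.1 2 1 = 0 := by
    simpa [mat, Matrix.mul_apply, Fin.sum_univ_five, UE, m10, m31, m41] using e 1 1
  have e4 := GJ_entry hM 0
  have e3 := GJ_entry hM 1
  simp only [m10, m20, m30, m40, m21, m31, m41, zero_mul, add_zero] at e4 e3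
  have d0 : M.1 0 0 * σ (M.1 4 4) = 1 := e4 4
  have n0 := left_ne_zero_of_mul_eq_one d0
  have m42 : M.1 4 2 = 0 := σ_eq_zero.1 ((mul_eq_zero.1 (e4 2)).resolve_left n0)
  have m43 : M.1 4 3 = 0 := σ_eq_zero.1 ((mul_eq_zero.1 (e4 3)).resolve_left n0)
  have d1 : M.1 1 1 * σ (M.1 3 3) = 1 := by simpa [m43, JJ] using e3 3
  have n1 := left_ne_zero_of_mul_eq_one d1
  have m32 : M.1 3 2 = 0 := by simpa [m42, JJ, n1, σ_eq_zero] using e3 2
  have d2 : M.1 2 2 * σ (M.1 2 2) = 1 := by simpa [m42, m32, JJ] using GJ_entry hM 2 2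
  have n2 := left_ne_zero_of_mul_eq_one d2
  have d3 := congrArg σ d0
  have d4 := congrArg σ d1
  rw [map_mul, σσ, map_one, mul_comm] at d3 d4
  have v : ∀ i j, ((M * (dg (.mk0 _ n0) (.mk0 _ n1) (.mk0 _ n2))⁻¹ : GL (Fin 5) K) : Matrix (Fin 5) (Fin 5) K) i j =
      M.1 i j * ![(M.1 0 0)⁻¹, (M.1 1 1)⁻¹, (M.1 2 2)⁻¹, σ (M.1 1 1), σ (M.1 0 0)] j := fun i j =>
    mul_diagonal ..
  obtain ⟨s, hs⟩ := exists_NM (mul_mem hM (inv_mem (dg_mem (t₁ := .mk0 _ n0) (t₂ := .mk0 _ n1)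
    (t₀ := .mk0 _ n2) d2))) (fun i j c => by
      rw [v]
      fin_cases i <;> fin_cases j <;>
        simp [m10, m20, m30, m40, m21, m31, m41, m42, m43, m32] at c ⊢) fun i => by
      rw [v]
      fin_cases i <;> simp [n0, n1, n2, d3, d4]
  exact ⟨s, _, _, _, d2, mul_inv_eq_iff_eq_mul.1 hs⟩

/-- PROOF.  `d = t₁ / (r s)`, `μ = d t₂ / s`; `h` (`det_dg`) says `t₀ = σ μ / μ`; `h12`, `tf_mul`, `tf_congr`. -/
theorem tf_of_det {t₁ t₂ t₀ r s : Kˣ}
    (h : (dg t₁ t₂ t₀ : Matrix (Fin 5) (Fin 5) K).det = (dg (r * s) s 1 : Matrix (Fin 5) (Fin 5) K).det) :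
    ∃ t ∈ T0 K, tf (t₁ * t₂⁻¹) (t₂ * t₀⁻¹) 1 = t * tf r s 1 := by
  rw [det_dg, det_dg] at h
  have := t₁.ne_zero
  have := t₂.ne_zero
  have := t₀.ne_zero
  have := r.ne_zero
  have := s.ne_zero
  have := σu_ne t₁
  have := σu_ne t₂
  have := σu_ne r
  have := σu_ne s
  refine ⟨_, ⟨t₁ * (r * s)⁻¹, t₁ * (r * s)⁻¹ * t₂ * s⁻¹, rfl⟩, ?_⟩
  rw [h12, tf_mul]
  refine tf_congr (by simp only [UV, UE]; field_simp) ?_
  simp only [UV, UE] at h ⊢
  field_simp at h ⊢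
  linear_combination -h

end Cfsg.Agent.U5F
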