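import Cfsg.Agent.U5F.Ker

/-!
The stabiliser of `Z2` in the automizer of `Q`.
Read the headers and signatures of `U5F/U`, `U5F/Gen`, `U5F/Def`, `U5F/Ker`.  `k` is the fixed field of `σ`, `N t = t * σ t`, `ι` is from `exists_ι`,
`θ` from `exists_θ`.  Tools: `simp only [mem_X, UE, UV, h..]` then `ring`, `field_simp`, `grind`; `afn_mul`, `afn_mem`, `afn_cm`, `afn_dv`,
`afn_res`, `afn_inv_afn`, `cjQ`, `cjR`, `congQ`, `congR`, `mem_OQ`, `mem_OR`, `cm_cQ` (`g, h ∈ Qs` commute iff `σ (hf g h) = hf g h`).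
-/

set_option autoImplicit false
set_option linter.unusedSectionVars false
set_option linter.unusedSimpArgs false

namespace Cfsg.Agent.U5F

open Subgroup Cfsg.Agent.RFS Cfsg.Agent.Fus

variable {K : Type*} [Field K] [Cj K] {p : ℕ} [Fact p.Prime] [CharP K p] {A₀ : Subgroup (MulAut (U K))}
  {A : Subgroup (MulAut (Qs : Subgroup (U K)))} {B : Subgroup (MulAut (Rs : Subgroup (U K)))}
  {α β : MulAut (Qs : Subgroup (U K))}

namespace QA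

theorem dv_co {u v : U K} (hu : u ∈ Qs) (hv : v ∈ Qs) :
    (u⁻¹ * v).y = v.y - u.y ∧ (u⁻¹ * v).x = v.x - u.x ∧ (u⁻¹ * v).w = v.w - u.w := by
  simp only [UE, hu.1, hu.2, hv.1, hv.2]
  exact ⟨by ring, by ring, by ring⟩

/-- the commutator map -/
noncomputable def D (g v : U K) : U K := v⁻¹ * afn (cQ g) v

theorem D_mem (g : U K) {v : U K} (hv : v ∈ Qs) : D g v ∈ Qs := mul_mem (inv_mem hv) (afn_mem _ hv)

theorem D_co (g : U K) {v : U K} (hv : v ∈ Qs) :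
    (D g v).y = 0 ∧ (D g v).x = -(g.a * v.y) ∧ (D g v).w = σ g.a * v.x + σ g.b * v.y := by
  obtain ⟨a, b, c⟩ := dv_co hv (afn_mem (cQ g) hv)
  obtain ⟨a', b', c'⟩ := cjQ g hv
  exact ⟨by rw [D, a, a']; ring, by rw [D, b, b']; ring, by rw [D, c, c']; ring⟩

theorem D_conj {g g₁ : U K} (h : β * cQ g * β⁻¹ = cQ g₁) {v : U K} (hv : v ∈ Qs) :
    afn β (D g v) = D g₁ (afn β v) := by
  rw [D, D, afn_dv β hv (afn_mem _ hv), ← afn_mul _ _ hv, ← afn_mul _ _ hv, ← h, inv_mul_cancel_right]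

theorem DD_co (g : U K) {v : U K} (hv : v ∈ Qs) :
    (D g (D g v)).y = 0 ∧ (D g (D g v)).x = 0 ∧ (D g (D g v)).w = -(g.a * σ g.a * v.y) := by
  obtain ⟨a, b, c⟩ := D_co g hv
  obtain ⟨a', b', c'⟩ := D_co g (D_mem g hv)
  exact ⟨a', by rw [b', a]; ring, by rw [c', a, b]; ring⟩

theorem D_Z1 (g : U K) {v : U K} (hv : v ∈ Qs) (h1 : g.a * v.y = 0) (h2 : σ g.a * v.x + σ g.b * v.y = 0) :
    D g v ∈ Z1 := by
  obtain ⟨a, b, c⟩ := D_co g hv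
  exact ⟨a, (D_mem g hv).1, by rw [b, h1, neg_zero], (D_mem g hv).2, c.trans h2⟩

end QA

open QA

theorem pres_inv (h : ∀ x ∈ Z2, afn α x ∈ Z2) : ∀ x ∈ Z2, afn α⁻¹ x ∈ Z2 :=
  fun x hx => inv_pres (fun y _ k => h y k) x (Z2_le_Qs hx) hx

/-- `Qt = C_Q(Z2)`: `mem_Qt_of_comm`, `com_Qt_Z2`, `pres_inv`. -/
theorem pres_Qt (h : ∀ x ∈ Z2, afn α x ∈ Z2) : ∀ x ∈ Qt, afn α x ∈ Qt :=
  fun x hx => mem_Qt_of_comm (afn_mem α hx.2) fun g hg => by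
    have k := pres_inv h g hg
    rw [← afn_afn_inv α (Z2_le_Qs hg), ← homOn_afn α _ hx.2 _ (Z2_le_Qs k), com_Qt_Z2 hx k,
      homOn_afn α _ (Z2_le_Qs k) _ hx.2]

/-- `cjQ`, `cQ_Z1`. -/
theorem cQ_mem_St (g : U K) : cQ g ∈ St Qs [Z1, Z2, Qt] := by
  intro i x hx k
  obtain ⟨a, b, -⟩ := cjQ g hx
  obtain ⟨a', b', -⟩ := D_co g hx
  have m := afn_mem (cQ g) hx
  have m' := D_mem g hx
  rcases i with _ | _ | _ | _ | i
  · replace k : x ∈ Z1 := k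
    rw [cQ_Z1 g k, inv_mul_cancel]
    exact ⟨k, one_mem _⟩
  · replace k : x ∈ Z2 := k
    exact ⟨⟨a.trans k.1, m.1, by rw [b, k.1, k.2.2.1]; ring, m.2⟩,
      D_Z1 g hx (by rw [k.1]; ring) (by rw [k.1, k.2.2.1]; ring)⟩
  · replace k : x ∈ Qt := k
    exact ⟨⟨a.trans k.1, m⟩, ⟨a', m'.1, b'.trans (by rw [k.1]; ring), m'.2⟩⟩
  · exact ⟨trivial, ⟨a', m'⟩⟩
  · exact ⟨trivial, trivial⟩

/-- `St_conj` with `chQ_Z1`, `pres_inv`, `pres_Qt`. -/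
theorem conj_mem_St (h : ∀ x ∈ Z2, afn α x ∈ Z2) (hβ : β ∈ St Qs [Z1, Z2, Qt]) : α * β * α⁻¹ ∈ St Qs [Z1, Z2, Qt] := by
  refine St_conj (fun i x hx => ?_) hβ
  have k : ∀ {P : Subgroup (U K)}, (∀ y ∈ Qs, y ∈ P → afn α y ∈ P) → (x ∈ P ↔ afn α x ∈ P) := fun k =>
    ⟨k x hx, fun m => afn_inv_afn α hx ▸ inv_pres k _ (afn_mem α hx) m⟩
  rcases i with _ | _ | _ | i
  exacts [k (chQ_Z1 α), k fun y _ => h y, k fun y _ => pres_Qt h y, k fun _ _ _ => trivial]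

/-- `Lc.ext'` with `N = St Qs [Z1, Z2, Qt]`. -/
theorem extQ (h₀ : SA p A₀) (L : Lc p A₀ Qs A) (hα : α ∈ A) (h : ∀ x ∈ Z2, afn α x ∈ Z2) : ∃ φ ∈ A₀, rQ φ = α :=
  L.ext' h₀ (isPGroup_St ((isPGroup_U p).to_subgroup _) [Z1, Z2, Qt]) (by rintro _ ⟨g, rfl⟩; exact cQ_mem_St g) hα
    fun _ => conj_mem_St h

/-- PROOF.  For `v ∈ Qs` put `D g v = v⁻¹ * afn (cQ g) v`; it has `(y, x, w) = (0, -g.a v.y, σ g.a v.x + σ g.b v.y)`, and `D g (D g v)` has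
`(0, 0, -N g.a v.y)`.  `h` gives `β (D g v) = D g₁ (β v)`.  If `g.a ≠ 0`: `x ≡ D g (D g v)` modulo `Z1` for a suitable `v = Xy _`, so
`β x ≡ D g₁ (D g₁ (β v)) ∈ Z2` (`congQ`).  If `g.a = 0`, then `g.b ≠ 0`; `D g₁ (D g₁ (Xy 1)) = β (D g (D g _)) ∈ Z1` gives `g₁.a = 0`, and
`x ≡ D g v`, `β x ≡ D g₁ (β v) ∈ Z2`. -/
theorem detQ {g g₁ : U K} (hg : g ∉ Qs) (h : β * cQ g * β⁻¹ = cQ g₁) : ∀ x ∈ Z2, afn β x ∈ Z2 := by
  intro x hx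
  have m := afn_mem β (Z2_le_Qs hx)
  have k : ∀ u ∈ Qs, u.y = 0 → u.x = 0 → u.w = x.w → (afn β u).y = 0 → (afn β u).x = 0 → afn β x ∈ Z2 :=
    fun u hu a b c d e => by
      obtain ⟨a', b', -⟩ := congQ β hu (Z2_le_Qs hx) ⟨hx.1.trans a.symm, hx.2.2.1.trans b.symm, c.symm⟩
      exact ⟨a'.trans d, m.1, b'.trans e, m.2⟩
  have my : ∀ s : K, Xy s ∈ Qs := fun _ => ⟨rfl, rfl⟩
  by_cases c : g.a = 0
  · have c' : σ g.b ≠ 0 := σ_ne_zero fun e => hg ⟨c, e⟩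
    have c1 : g₁.a = 0 := by
      have m1 := afn_mem β⁻¹ (my 1)
      have := (chQ_Z1 β _ (D_mem g (D_mem g m1)) (D_Z1 g (D_mem g m1) (by rw [c]; ring)
        (by rw [c, (D_co g m1).1, map_zero]; ring))).2.2.2.2
      rw [D_conj h (D_mem g m1), D_conj h m1, afn_afn_inv β (my 1), (DD_co g₁ (my 1)).2.2] at this
      exact nrm_eq_zero (by simpa only [UE, neg_eq_zero] using this)
    obtain ⟨a, b, e⟩ := D_co g (my (x.w / σ g.b))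
    obtain ⟨a', b', -⟩ := D_co g₁ (afn_mem β (my (x.w / σ g.b)))
    rw [← D_conj h (my _)] at a' b'
    refine k _ (D_mem g (my _)) a (by rw [b, c]; ring) ?_ a' (by rw [b', c1]; ring)
    rw [e]
    change _ * 0 + _ * (x.w / _) = _
    field_simp
    ring
  · have c' := σ_ne_zero c
    obtain ⟨a, b, e⟩ := DD_co g (my (-(x.w / (g.a * σ g.a))))
    obtain ⟨a', b', -⟩ := DD_co g₁ (afn_mem β (my (-(x.w / (g.a * σ g.a)))))
    rw [← D_conj h (my _), ← D_conj h (D_mem g (my _))] at a' b'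
    refine k _ (D_mem g (D_mem g (my _))) a b ?_ a' b'
    rw [e]
    simp only [UE]
    field_simp

/-- PROOF.  `L.syl.exists_conj` for `N ⊓ A` gives `β ∈ A` conjugating both elements into `Tn Qs`.  By `detQ` both `β` and `β * α` preserve
`Z2`, so does `α = β⁻¹ * (β * α)` (`pres_inv`). -/
theorem tiQ (h₀ : SA p A₀) (L : Lc p A₀ Qs A) (hα : α ∈ A) {g g' : U K} (hg : g ∉ Qs) (hg' : g' ∉ Qs)
    {N : Subgroup (MulAut (Qs : Subgroup (U K)))} (hN : IsPGroup p N) (h1 : cQ g ∈ N) (h2 : α * cQ g' * α⁻¹ ∈ N) :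
    ∀ x ∈ Z2, afn α x ∈ Z2 := by
  obtain ⟨β, -, hβ⟩ := L.syl.exists_conj (hN.to_le (inf_le_left (b := A))) inf_le_right
  obtain ⟨g₁, e₁⟩ := hβ _ ⟨h1, L.cj h₀ g⟩
  obtain ⟨g₂, e₂⟩ := hβ _ ⟨h2, A.mul_mem (A.mul_mem hα (L.cj h₀ g')) (A.inv_mem hα)⟩
  intro x hx
  have := pres_inv (detQ hg e₁.symm) _ (detQ (β := β * α) (g₁ := g₂) hg' (Eq.trans (by group) e₂.symm) x hx)
  rwa [← afn_mul _ _ (Z2_le_Qs hx), inv_mul_cancel_left] at this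

/-- PROOF.  `v = α x`.  `C = {β ∈ A | v⁻¹ * β v ∈ Z1}` is a subgroup (`chQ_Z1`).  `T' = (Tn Qs).map (conj α)` lies in `C` (`cjQ` fixes `x` modulo
`Z1`) and is Sylow in `A` (`SylIn.conj`), so in `C` (`SylIn.of_le`).  `z = cQ (Xb θ _) ∈ C` (`cjQ`, `v.y = 0`), `zpowers z ≤ Tn Qs` is a
`p`-group.  `exists_conj` gives `β ∈ C` with `β z β⁻¹ = α (cQ g₁) α⁻¹`; by `detQ` `α⁻¹ * β` preserves `Z2`, so does the inverse:
`β⁻¹ v ∈ Z2`, and `β⁻¹ ∈ C`. -/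
theorem mem_Z2_of_Qt (h₀ : SA p A₀) (L : Lc p A₀ Qs A) (hα : α ∈ A) {x : U K} (hx : x ∈ Z2) (h : afn α x ∈ Qt) :
    afn α x ∈ Z2 := by
  have hx' := Z2_le_Qs hx
  have hv := h.2
  let C : Subgroup (MulAut (Qs : Subgroup (U K))) :=
    { carrier := {β | β ∈ A ∧ (afn α x)⁻¹ * afn β (afn α x) ∈ Z1}
      one_mem' := ⟨one_mem _, by simp [afn_one]⟩
      mul_mem' := fun {a b} ha hb => ⟨mul_mem ha.1 hb.1, by
        have := mul_mem ha.2 (chQ_Z1 a _ (mul_mem (inv_mem hv) (afn_mem b hv)) hb.2)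
        rwa [afn_dv a hv (afn_mem b hv), mul_assoc, mul_inv_cancel_left, ← afn_mul _ _ hv] at this⟩
      inv_mem' := fun {a} ha => ⟨inv_mem ha.1, by
        have := inv_mem (chQ_Z1 a⁻¹ _ (mul_mem (inv_mem hv) (afn_mem a hv)) ha.2)
        rwa [afn_dv a⁻¹ hv (afn_mem a hv), afn_inv_afn a hv, mul_inv_rev, inv_inv] at this⟩ }
  have l : (Tn Qs).map (MulAut.conj α).toMonoidHom ≤ C := by
    rintro _ ⟨_, ⟨g, rfl⟩, rfl⟩
    refine ⟨A.mul_mem (A.mul_mem hα (L.cj h₀ g)) (A.inv_mem hα), ?_⟩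
    change _ * afn (α * cQ g * α⁻¹) _ ∈ _
    rw [afn_mul _ _ hv, afn_inv_afn α hx', afn_mul _ _ hx', ← afn_dv α hx' (afn_mem _ hx')]
    exact chQ_Z1 α _ (D_mem g hx') (D_Z1 g hx' (by rw [hx.1]; ring) (by rw [hx.1, hx.2.2.1]; ring))
  obtain ⟨θ, h0, hθ⟩ := exists_θ (K := K)
  obtain ⟨β, hβ, e⟩ := ((L.syl.conj (L.Tn_le h₀) hα).of_le l fun _ k => k.1).exists_conj
    (B := zpowers (cQ (Xb θ hθ))) ((L.syl.isPGroup (L.Tn_le h₀)).to_le (zpowers_le.2 ⟨_, rfl⟩))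
    (zpowers_le.2 ⟨L.cj h₀ _, D_Z1 _ hv (by simp only [UE]) (by simp only [UE, h.1])⟩)
  obtain ⟨_, ⟨g₁, rfl⟩, e'⟩ := e _ (mem_zpowers _)
  replace e' : α * cQ g₁ * α⁻¹ = _ := e'
  have := pres_inv (detQ (β := α⁻¹ * β) (g := Xb θ hθ) (g₁ := g₁) (fun k => h0 k.2) (by
    rw [show ∀ z, α⁻¹ * β * z * (α⁻¹ * β)⁻¹ = α⁻¹ * (β * z * β⁻¹) * α from fun z => by group, ← e']
    group)) x hx
  rw [mul_inv_rev, inv_inv, afn_mul _ _ hx'] at this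
  exact inv_mem_iff.1 ((Z2.mul_mem_cancel_right this).1 (Z1_le_Z2 (inv_mem hβ).2))

end Cfsg.Agent.U5F
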