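import Cfsg.Agent.U5F.Def

/-!
A chain of centralisers in `Q` stabilised by an element of `S \\ Q`.
Read the headers and signatures of `U5F/U`, `U5F/Gen`, `U5F/Def`.  `k` is the fixed field of `σ`, `N t = t * σ t`, `ι` is from `exists_ι`,
`θ` from `exists_θ`.  Tools: `simp only [mem_X, UE, UV, h..]` then `ring`, `field_simp`, `grind`; `afn_mul`, `afn_mem`, `afn_cm`, `afn_dv`,
`afn_res`, `afn_inv_afn`, `cjQ`, `cjR`, `congQ`, `congR`, `mem_OQ`, `mem_OR`, `cm_cQ` (`g, h ∈ Qs` commute iff `σ (hf g h) = hf g h`).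
-/

set_option autoImplicit false
set_option linter.unusedSectionVars false
set_option linter.unusedSimpArgs false

namespace Cfsg.Agent.U5F

open Subgroup Cfsg.Agent.RFS Cfsg.Agent.Fus

variable {K : Type*} [Field K] [Cj K] {p : ℕ} [Fact p.Prime] [CharP K p] {A₀ : Subgroup (MulAut (U K))}
  {A : Subgroup (MulAut (Qs : Subgroup (U K)))} {B : Subgroup (MulAut (Rs : Subgroup (U K)))}
  {α β : MulAut (Qs : Subgroup (U K))}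

/-- `C_Q(v)`. -/
def C1 (v : U K) : Subgroup (U K) := Cn Qs (zpowers v)

theorem QB0.com {g h : U K} (hg : g ∈ Qs) (hh : h ∈ Qs) : g * h = h * g ↔ σ (hf g h) = hf g h := by
  have h1 := mem_Z1.1 (cm_Qs_Qs hg hh)
  rw [← cm_eq_one, ← sub_eq_zero (b := hf g h), ← cm_cQ hg hh]
  exact ⟨fun k => by rw [k]; rfl, fun k => by ext <;> simp only [h1, k, UE]⟩

theorem QB0.mem {v g : U K} (hv : v ∈ Qs) : g ∈ C1 v ↔ g ∈ Qs ∧ g * v = v * g :=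
  and_congr_right fun _ => ⟨fun h => h v hv (mem_zpowers v), fun h _ _ ⟨n, e⟩ => e ▸ (Commute.zpow_right h n).eq⟩

theorem mem_C1 {v g : U K} (hv : v ∈ Qs) : g ∈ C1 v ↔ g ∈ Qs ∧ σ (hf g v) = hf g v :=
  (QB0.mem hv).trans (and_congr_right fun hg => QB0.com hg hv)

/-- `Z1 < k v < k v + k u < ⟨v, u⟩^⊥ < v^⊥`. -/
def chn (v u : U K) : List (Subgroup (U K)) := [Z1, Cn Qs (C1 v), Cn Qs (C1 v ⊓ C1 u), C1 v ⊓ C1 u, C1 v]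

theorem QB0.acom {x y : U K} (hx : x ∈ Qs) (hy : y ∈ Qs) :
    x * y = y * x ↔ afn α x * afn α y = afn α y * afn α x := by
  rw [← homOn_afn α _ hx _ hy, ← homOn_afn α _ hy _ hx]
  exact ⟨congrArg _, fun h => by rw [← afn_inv_afn α (mul_mem hx hy), h, afn_inv_afn α (mul_mem hy hx)]⟩

theorem QB0.tC1 {v : U K} (hv : v ∈ Qs) : ∀ x ∈ Qs, x ∈ C1 v ↔ afn α x ∈ C1 (afn α v) := fun x hx => by
  rw [QB0.mem hv, QB0.mem (afn_mem α hv), QB0.acom (α := α) hx hv]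
  exact and_congr_left fun _ => iff_of_true hx (afn_mem α hx)

theorem QB0.tCn {L L' : Subgroup (U K)} (h : ∀ x ∈ Qs, x ∈ L ↔ afn α x ∈ L') :
    ∀ x ∈ Qs, x ∈ Cn Qs L ↔ afn α x ∈ Cn Qs L' := fun x hx => by
  refine ⟨fun k => ⟨afn_mem α hx, fun y hy hl => ?_⟩, fun k => ⟨hx, fun y hy hl =>
    (QB0.acom hx hy).2 (k.2 _ (afn_mem α hy) ((h y hy).1 hl))⟩⟩
  have h1 := afn_mem α⁻¹ hy
  rw [← afn_afn_inv α hy] at hl ⊢
  exact (QB0.acom hx h1).1 (k.2 _ h1 ((h _ h1).2 hl))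

/-- `St_conj`: `x ∈ C1 v ↔ α x ∈ C1 (α v)`, and the same for `Cn Qs L`, `Cn Qs L'` whenever it holds for `L`, `L'`. -/
theorem conj_mem_chn {v u : U K} (hv : v ∈ Qs) (hu : u ∈ Qs) (hβ : β ∈ St Qs (chn v u)) :
    α * β * α⁻¹ ∈ St Qs (chn (afn α v) (afn α u)) := by
  have h : ∀ x ∈ Qs, x ∈ C1 v ⊓ C1 u ↔ afn α x ∈ C1 (afn α v) ⊓ C1 (afn α u) := fun x hx =>
    and_congr (QB0.tC1 hv x hx) (QB0.tC1 hu x hx)
  refine St_conj (fun i => ?_) hβ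
  rcases i with _ | _ | _ | _ | _ | i
  · exact fun x hx => ⟨chQ_Z1 α x hx, fun k => afn_inv_afn α hx ▸ chQ_Z1 α⁻¹ _ (afn_mem α hx) k⟩
  · exact QB0.tCn (QB0.tC1 hv)
  · exact QB0.tCn h
  · exact h
  · exact QB0.tC1 hv
  · exact fun x _ => Iff.rfl

theorem QB0.alg {F : Type*} [Field F] {y Y x X y' Y' x' X' a A b B w W w₁ W₁ x₀ X₀ κ : F} (hw : w ≠ 0) (hx : x₀ ≠ 0)
    (hX : X₀ ≠ 0) (h1 : Y * w = y * W) (h2 : X * x₀ + Y * w₁ = x * X₀ + y * W₁) (h3 : Y' * w = y' * W)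
    (h4 : X' * x₀ + Y' * w₁ = x' * X₀ + y' * W₁) (ha : a * X₀ = κ * W) (hA : A * x₀ = κ * w)
    (hb : (b - B) * (x₀ * X₀) = 2 * κ * (w₁ * W - W₁ * w)) :
    -(A * Y) * x' + (a * X + b * Y) * y' = -(a * y) * X' + (A * x + B * y) * Y' := by
  obtain rfl := eq_div_of_mul_eq hw h1
  obtain rfl := eq_div_of_mul_eq hw h3
  obtain rfl := eq_div_of_mul_eq hx (eq_sub_of_add_eq h2)
  obtain rfl := eq_div_of_mul_eq hx (eq_sub_of_add_eq h4)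
  obtain rfl := eq_div_of_mul_eq hX ha
  obtain rfl := eq_div_of_mul_eq hx hA
  obtain rfl := eq_add_of_sub_eq (eq_div_of_mul_eq (mul_ne_zero hx hX) hb)
  field_simp
  ring

theorem QB0.st {v u g : U K} {κ : K} (hv : v ∈ Z2) (hv' : v.w ≠ 0) (hu : u ∈ Qt) (hu' : u.x ≠ 0) (hκ : σ κ = κ)
    (ha : g.a * σ u.x = κ * σ v.w) (hb : (g.b - σ g.b) * (u.x * σ u.x) = 2 * κ * (u.w * σ v.w - σ u.w * v.w)) :
    cQ g ∈ St Qs (chn v u) := by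
  have vQ := Z2_le_Qs hv
  have uQ := Qt_le_Qs hu
  have hA : σ g.a * u.x = κ * v.w := by simpa only [UE, hκ] using congrArg σ ha
  have dQ : ∀ s ∈ Qs, s⁻¹ * afn (cQ g) s ∈ Qs := fun s hs => mul_mem (inv_mem hs) (afn_mem _ hs)
  have dc : ∀ s ∈ Qs, (s⁻¹ * afn (cQ g) s).y = 0 ∧ (s⁻¹ * afn (cQ g) s).x = -(g.a * s.y) ∧
      (s⁻¹ * afn (cQ g) s).w = σ g.a * s.x + σ g.b * s.y := fun s hs => by
    simp only [UE, cjQ g hs, hs.1, hs.2, (afn_mem (cQ g) hs).1, (afn_mem (cQ g) hs).2]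
    exact ⟨by ring, by ring, by ring⟩
  have mv : ∀ s ∈ Qs, s ∈ C1 v ↔ σ s.y * v.w = s.y * σ v.w := fun s hs => by
    simp only [mem_C1 vQ, hs, true_and, hf, UE, hv.1, hv.2.2.1]
  have mu : ∀ s ∈ Qs, s ∈ C1 u ↔ σ s.x * u.x + σ s.y * u.w = s.x * σ u.x + s.y * σ u.w := fun s hs => by
    simp only [mem_C1 uQ, hs, true_and, hf, UE, hu.1]
  have up : ∀ {L M : Subgroup (U K)} {s : U K}, L ≤ M → s ∈ M → s⁻¹ * afn (cQ g) s ∈ L →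
      afn (cQ g) s ∈ M ∧ s⁻¹ * afn (cQ g) s ∈ L := fun h1 h2 h3 => ⟨by simpa using mul_mem h2 (h1 h3), h3⟩
  have k5 : ∀ s ∈ Qs, s.y = 0 → s ∈ C1 v := fun s hs h => (mv s hs).2 (by simp only [h, UE])
  have k4 : ∀ s ∈ Qs, ∀ t : K, s.y = 0 → σ t * v.w = t * σ v.w → s.x = g.a * t → s ∈ C1 v ⊓ C1 u :=
    fun s hs t h1 h2 h3 => ⟨k5 s hs h1, (mu s hs).2 (by
      simp only [h1, h3, UE]
      linear_combination σ t * hA - t * ha + κ * h2)⟩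
  intro i s hs h
  rcases i with _ | _ | _ | _ | _ | _ | i
  · exact up bot_le h (by rw [cQ_Z1 g h, inv_mul_cancel]; exact one_mem _)
  · refine up (fun z hz => ⟨Z2_le_Qs (Z1_le_Z2 hz), fun y _ _ => (com_Z1 y hz).symm⟩) h ?_
    have h1 : s.y = 0 := eq_zero_of_real fun t => by
      simpa only [hf, UE] using (QB0.com hs (h := Xw t) ⟨rfl, rfl⟩).1 (h.2 _ ⟨rfl, rfl⟩ (k5 _ ⟨rfl, rfl⟩ rfl))
    have h2 : s.x = 0 := eq_zero_of_real fun t => by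
      simpa only [hf, UE] using (QB0.com hs (h := Xx t) ⟨rfl, rfl⟩).1 (h.2 _ ⟨rfl, rfl⟩ (k5 _ ⟨rfl, rfl⟩ rfl))
    have h3 := dc s hs
    simp only [h1, h2, mul_zero, neg_zero, add_zero] at h3
    exact ⟨h3.1, (dQ s hs).1, h3.2.1, (dQ s hs).2, h3.2.2⟩
  · refine up (fun z hz => ⟨hz.1, fun y hy k => hz.2 y hy k.1⟩) h ⟨dQ s hs, fun t ht k => (QB0.com (dQ s hs) ht).2 ?_⟩
    have eQ : Xx (g.a * t.y) * Xw (g.b * t.y - σ g.a * t.x) ∈ Qs := mul_mem ⟨rfl, rfl⟩ ⟨rfl, rfl⟩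
    have h1 := (QB0.com hs eQ).1 (h.2 _ eQ (k4 _ eQ t.y (by simp only [UE]) ((mv t ht).1 k) (by simp only [UE])))
    simp only [hf, dc s hs]
    simp only [hf, UE] at h1 ⊢
    linear_combination h1
  · refine up (fun z hz => ⟨(QB0.mem vQ).2 ⟨hz.1, hz.2 v vQ ⟨(QB0.mem vQ).2 ⟨vQ, rfl⟩,
      (QB0.mem uQ).2 ⟨vQ, (com_Qt_Z2 hu hv).symm⟩⟩⟩, (QB0.mem uQ).2 ⟨hz.1, hz.2 u uQ ⟨(QB0.mem vQ).2
      ⟨uQ, com_Qt_Z2 hu hv⟩, (QB0.mem uQ).2 ⟨uQ, rfl⟩⟩⟩⟩) h ⟨dQ s hs, fun t ht k => (QB0.com (dQ s hs) ht).2 ?_⟩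
    have h1 := QB0.alg hv' hu' (σ_ne_zero hu') ((mv s hs).1 h.1) ((mu s hs).1 h.2) ((mv t ht).1 k.1) ((mu t ht).1 k.2)
      ha hA hb
    simp only [hf, dc s hs]
    simp only [UE] at h1 ⊢
    linear_combination h1
  · exact up inf_le_left h (k4 _ (dQ s hs) (-s.y) (dc s hs).1 (by simpa only [UE, neg_mul, neg_inj] using (mv s hs).1 h)
      (by rw [(dc s hs).2.1, mul_neg]))
  · exact ⟨trivial, k5 _ (dQ s hs) (dc s hs).1⟩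
  · exact ⟨trivial, trivial⟩

/-- PROOF.  `w₀ = v.w ≠ 0`, `x₀ = u.x ≠ 0`, `w₁ = u.w`.  Choose `κ ∈ k` and `g = Ta a b _` with `a = κ σ w₀ / σ x₀`,
`σ b + ν - σ ν ∈ k` for `ν = κ w₁ σ w₀ / N x₀`: if `2 = 0` take `κ = 0`, `a = 0`, `b = 1`; otherwise `κ = 1`, `b = -N a / 2 + ν - σ ν`.
The chain is increasing (`v, u ∈ C1 v ⊓ C1 u`), so only the steps matter; `d = s⁻¹ * (cQ g) s` has `(y, x, w) = (0, -a s.y, σ a s.x + σ b s.y)`.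
`s ∈ Qs`: `hf d v = 0`.  `s ∈ C1 v` (`η = s.y σ w₀ ∈ k`): `hf d u = -κ η`.  `s ∈ C1 v ⊓ C1 u` (also `s.x σ x₀ + s.y σ w₁ ∈ k`): `d = λ u + λ' v`
in coordinates with `λ = -κ η / N x₀ ∈ k`, `λ' = (d.w - λ w₁) / w₀ ∈ k`, so `hf d s' ∈ k` for every `s' ∈ C1 v ⊓ C1 u`.
`s ∈ Cn Qs (C1 v ⊓ C1 u)`: for `s' ∈ C1 v`, `s'' = g⁻¹ s' g` has `s'⁻¹ s'' ∈ C1 v ⊓ C1 u` (as above with `-a`), and `hf` is additive and
`g`-invariant: `hf d s' = hf s s'' - hf s s' = hf s (s'⁻¹ s'') ∈ k`.  `s ∈ Cn Qs (C1 v)` commutes with all `Xw t`, `Xx t ∈ C1 v`, so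
`s.y = s.x = 0` (`eq_zero_of_real`) and `d ∈ Z1`.  `s ∈ Z1`: `cQ_Z1`. -/
theorem exists_chn {v u : U K} (hv : v ∈ Z2) (hv' : v ∉ Z1) (hu : u ∈ Qt) (hu' : u ∉ Z2) :
    ∃ g ∉ Qs, cQ g ∈ St Qs (chn v u) := by
  have hw : v.w ≠ 0 := fun h => hv' ⟨hv.1, hv.2.1, hv.2.2.1, hv.2.2.2, h⟩
  have hx : u.x ≠ 0 := fun h => hu' ⟨hu.1, hu.2.1, h, hu.2.2⟩
  have hX := σ_ne_zero hx
  by_cases h2 : (2 : K) = 0
  · exact ⟨Xb 1 (by rw [map_one, ← h2]; ring), fun h => one_ne_zero h.2,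
      QB0.st hv hw hu hx (map_zero σ) (by simp only [UE]) (by simp only [UE, sub_self])⟩
  · have h3 : σ (2 : K) = 2 := map_ofNat σ 2
    refine ⟨Ta (σ v.w / σ u.x) (((u.w * σ v.w - σ u.w * v.w) - v.w * σ v.w / 2) / (u.x * σ u.x)) ?_,
      fun h => div_ne_zero (σ_ne_zero hw) hX h.1, QB0.st hv hw hu hx (map_one σ) ?_ ?_⟩ <;>
    simp only [UE, h3] <;> field_simp <;> ring

end Cfsg.Agent.U5F
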