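import Cfsg.Agent.U5F.QA
import Cfsg.Agent.U5F.QB0

/-!
Two conjugates of `Z2 / Z1` are never perpendicular.
Read the headers and signatures of `U5F/U`, `U5F/Gen`, `U5F/Def`, `U5F/QA`, `U5F/QB0`.  `k` is the fixed field of `σ`, `N t = t * σ t`, `ι` is from `exists_ι`,
`θ` from `exists_θ`.  Tools: `simp only [mem_X, UE, UV, h..]` then `ring`, `field_simp`, `grind`; `afn_mul`, `afn_mem`, `afn_cm`, `afn_dv`,
`afn_res`, `afn_inv_afn`, `cjQ`, `cjR`, `congQ`, `congR`, `mem_OQ`, `mem_OR`, `cm_cQ` (`g, h ∈ Qs` commute iff `σ (hf g h) = hf g h`).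
-/

set_option autoImplicit false
set_option linter.unusedSectionVars false
set_option linter.unusedSimpArgs false

namespace Cfsg.Agent.U5F

open Subgroup Cfsg.Agent.RFS Cfsg.Agent.Fus

variable {K : Type*} [Field K] [Cj K] {p : ℕ} [Fact p.Prime] [CharP K p] {A₀ : Subgroup (MulAut (U K))}
  {A : Subgroup (MulAut (Qs : Subgroup (U K)))} {B : Subgroup (MulAut (Rs : Subgroup (U K)))}
  {α β : MulAut (Qs : Subgroup (U K))}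

theorem qb_com_iff {g h : U K} (hg : g ∈ Qs) (hh : h ∈ Qs) : g * h = h * g ↔ σ (hf g h) = hf g h := by
  rw [← cm_eq_one, ← sub_eq_zero (b := hf g h), ← cm_cQ hg hh]
  refine ⟨fun e => by rw [e]; rfl, fun e => ?_⟩
  obtain ⟨h1, h2, h3, h4, h5⟩ := mem_Z1.1 (cm_Qs_Qs hg hh)
  exact U.ext h1 h2 h3 h4 h5 e

theorem qb_com_Z2 {g n : U K} (hg : g ∈ Qs) (hn : n ∈ Z2) :
    g * n = n * g ↔ σ g.y * n.w = g.y * σ n.w := by
  obtain ⟨h1, -, h3, -⟩ := mem_Z2.1 hn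
  rw [qb_com_iff hg (Z2_le_Qs hn)]
  simp only [hf, h1, h3, UE]

theorem qb_afn_com (α : MulAut (Qs : Subgroup (U K))) {g h : U K} (hg : g ∈ Qs) (hh : h ∈ Qs)
    (e : g * h = h * g) : afn α g * afn α h = afn α h * afn α g := by
  rw [← homOn_afn α _ hg _ hh, e, homOn_afn α _ hh _ hg]

/-- PROOF.  Suppose `x ∉ Z1`; `v = α x ∈ Z2` (`mem_Z2_of_Qt`), `v ∉ Z1` (`chQ_Z1` for `α⁻¹`).  Take `x' ∈ Z2` with `u' = α x' ∉ Z2`, so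
`u'.y ≠ 0` (`mem_Z2_of_Qt`).  `x'.w ∉ k x.w`: otherwise every element of `Qs` commuting with `x` commutes with `x'`; apply this to `α⁻¹ (Xw t)`
(`Xw t` commutes with `v`): all `Xw t` commute with `u'`, so `u'.y = 0` (`mem_Rs_of_comm`).  Let `u₀ = Xx 1 * Xw (-σ u'.x / σ u'.y) ∈ Qt`,
`u₀ ∉ Z2`; `hf u₀ u' = 0`, and `u₀` commutes with `v`.  So `u₁ = α⁻¹ u₀` commutes with `x` and `x'`: `u₁.y σ x.w, u₁.y σ x'.w ∈ k`, hence
`u₁.y = 0`, `u₁ ∈ Qt`; `u₁ ∉ Z2` (else `u₀ ∈ Z2` by `mem_Z2_of_Qt`).  `exists_chn` for `(v, u₀)` and `(x, u₁)`, `conj_mem_chn`, `isPGroup_St`,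
`tiQ` contradict `hn`. -/
theorem nonperp (h₀ : SA p A₀) (L : Lc p A₀ Qs A) (hα : α ∈ A) (hn : ¬ ∀ x ∈ Z2, afn α x ∈ Z2) {x : U K} (hx : x ∈ Z2)
    (h : afn α x ∈ Qt) : x ∈ Z1 := by
  by_contra hx1
  have xQ := Z2_le_Qs hx
  have hv := mem_Z2_of_Qt h₀ L hα hx h
  have hv1 : afn α x ∉ Z1 := fun e => hx1 (afn_inv_afn α xQ ▸ chQ_Z1 α⁻¹ _ (afn_mem α xQ) e)
  obtain ⟨x', hx', hu'⟩ : ∃ x' ∈ Z2, afn α x' ∉ Z2 := by simpa using hn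
  have xQ' := Z2_le_Qs hx'
  have uQ := afn_mem α xQ'
  have hy : (afn α x').y ≠ 0 := fun e =>
    hu' (mem_Z2_of_Qt h₀ L hα hx' (mem_Qt.2 ⟨e, mem_Qs.1 uQ⟩))
  have xw : x.w ≠ 0 := fun e => hx1 (by
    obtain ⟨h1, h2, h3, h4⟩ := mem_Z2.1 hx
    exact mem_Z1.2 ⟨h1, h2, h3, h4, e⟩)
  have back : ∀ g ∈ Qs, ∀ n ∈ Z2, g * afn α n = afn α n * g →
      σ (afn α⁻¹ g).y * n.w = (afn α⁻¹ g).y * σ n.w := fun g hg n hn e => by
    have := qb_afn_com α⁻¹ hg (afn_mem α (Z2_le_Qs hn)) e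
    rw [afn_inv_afn α (Z2_le_Qs hn)] at this
    exact (qb_com_Z2 (afn_mem _ hg) hn).1 this
  have hpr : x'.w * σ x.w ≠ σ x'.w * x.w := fun e => hy (mem_Rs.1 (mem_Rs_of_comm fun t => by
    obtain ⟨s, hs, e⟩ := exists_pr xw e
    have tZ : Xw t ∈ Z2 := mem_Z2.2 ⟨rfl, rfl, rfl, rfl⟩
    have tQ := Z2_le_Qs tZ
    have h1 := back _ tQ x hx (com_Qt_Z2 (Z2_le_Qt tZ) hv)
    have h2 := qb_afn_com α (afn_mem α⁻¹ tQ) xQ' ((qb_com_Z2 (afn_mem _ tQ) hx').2 (by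
      rw [e, map_mul, hs]; linear_combination s * h1))
    rw [afn_afn_inv α tQ] at h2
    exact cm_eq_one.2 h2.symm))
  obtain ⟨u₀, hu₀, ux, uw⟩ : ∃ u₀ ∈ (Qt : Subgroup (U K)), u₀.x = 1 ∧
      u₀.w = -σ (afn α x').x / σ (afn α x').y :=
    ⟨Xx 1 * Xw (-σ (afn α x').x / σ (afn α x').y), by simp only [mem_Qt, UE, and_self], by simp only [UE],
      by simp only [UE]⟩
  have u0Q := Qt_le_Qs hu₀
  have u0Z : u₀ ∉ Z2 := fun e => one_ne_zero (ux.symm.trans (mem_Z2.1 e).2.2.1)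
  have h1 := back _ u0Q x hx (com_Qt_Z2 hu₀ hv)
  have h2 := back _ u0Q x' hx' ((qb_com_iff u0Q uQ).2 (by
    have : hf u₀ (afn α x') = 0 := by
      have := σ_ne_zero hy
      rw [hf, ux, uw, (mem_Qt.1 hu₀).1]
      field_simp
      ring
    rw [this, map_zero]))
  have h3 : (afn α⁻¹ u₀).y = 0 := by
    by_contra e
    refine hpr (mul_left_cancel₀ (mul_ne_zero e (σ_ne_zero e)) ?_)
    linear_combination (afn α⁻¹ u₀).y * σ x.w * h2 - (afn α⁻¹ u₀).y * σ x'.w * h1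
  have u1Q := afn_mem α⁻¹ u0Q
  have hu₁ : afn α⁻¹ u₀ ∈ Qt := mem_Qt.2 ⟨h3, mem_Qs.1 u1Q⟩
  have u1Z : afn α⁻¹ u₀ ∉ Z2 := fun e => u0Z (by
    have := mem_Z2_of_Qt h₀ L hα e (by rwa [afn_afn_inv α u0Q])
    rwa [afn_afn_inv α u0Q] at this)
  obtain ⟨g, hg, h4⟩ := exists_chn hv hv1 hu₀ u0Z
  obtain ⟨g', hg', h5⟩ := exists_chn hx hx1 hu₁ u1Z
  have h6 := conj_mem_chn (α := α) xQ u1Q h5
  rw [afn_afn_inv α u0Q] at h6
  exact hn (tiQ h₀ L hα hg hg' (isPGroup_St ((isPGroup_U p).to_subgroup _) _) h4 h6)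

end Cfsg.Agent.U5F
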