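import Cfsg.Agent.U5F.Def

/-!
The image of `Z2` under an automorphism of `Q` as a graph.
Read the headers and signatures of `U5F/U`, `U5F/Gen`, `U5F/Def`.  `k` is the fixed field of `σ`, `N t = t * σ t`, `ι` is from `exists_ι`,
`θ` from `exists_θ`.  Tools: `simp only [mem_X, UE, UV, h..]` then `ring`, `field_simp`, `grind`; `afn_mul`, `afn_mem`, `afn_cm`, `afn_dv`,
`afn_res`, `afn_inv_afn`, `cjQ`, `cjR`, `congQ`, `congR`, `mem_OQ`, `mem_OR`, `cm_cQ` (`g, h ∈ Qs` commute iff `σ (hf g h) = hf g h`).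
-/

set_option autoImplicit false
set_option linter.unusedSectionVars false
set_option linter.unusedSimpArgs false

namespace Cfsg.Agent.U5F

open Subgroup Cfsg.Agent.RFS Cfsg.Agent.Fus

variable {K : Type*} [Field K] [Cj K] {p : ℕ} [Fact p.Prime] [CharP K p] {A₀ : Subgroup (MulAut (U K))}
  {A : Subgroup (MulAut (Qs : Subgroup (U K)))} {B : Subgroup (MulAut (Rs : Subgroup (U K)))}
  {α β : MulAut (Qs : Subgroup (U K))}

theorem qc0_com {g h : U K} (hg : g ∈ Qs) (hh : h ∈ Qs) : g * h = h * g ↔ σ (hf g h) = hf g h := by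
  rw [← cm_eq_one, ← sub_eq_zero (a := σ _), ← cm_cQ hg hh]
  refine ⟨fun e => by rw [e]; rfl, fun e => ?_⟩
  obtain ⟨a1, a2, a3, a4, a5⟩ := cm_Qs_Qs hg hh
  exact U.ext a1 a2 a3 a4 a5 e

theorem qc0_aut (α : MulAut (Qs : Subgroup (U K))) {g h : U K} (hg : g ∈ Qs) (hh : h ∈ Qs) (e : g * h = h * g) :
    afn α g * afn α h = afn α h * afn α g := by
  rw [← homOn_afn α g hg h hh, e, homOn_afn α h hh g hg]

/-- `t ↦ (α (Xw t)).y` is injective, so onto. -/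
theorem exists_y (h : ∀ x ∈ Z2, afn α x ∈ Qt → x ∈ Z1) (y : K) : ∃ x ∈ Z2, (afn α x).y = y := by
  obtain ⟨t, e⟩ := (Finite.injective_iff_surjective (f := fun t : K => (afn α (Xw t)).y)).1 (fun t t' e => by
    have m : ∀ t : K, Xw t ∈ (Z2 : Subgroup (U K)) := fun t => ⟨rfl, rfl, rfl, rfl⟩
    have m1 := mul_mem (inv_mem (m t)) (m t')
    have := (h _ m1 ⟨by
      rw [afn_dv α (Z2_le_Qs (m t)) (Z2_le_Qs (m t'))]
      simp only [UE] at e ⊢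
      rw [e, neg_add_cancel], afn_mem α (Z2_le_Qs m1)⟩).2.2.2.2
    simp only [UE] at this
    linear_combination -this) y
  exact ⟨Xw t, ⟨rfl, rfl, rfl, rfl⟩, e⟩

/-- PROOF.  `v = Xy (s y) * Xx _ * Xw _` with the coordinates `s (y, x, w)` of `α x`; `hf v g = s hf (α x) g`, so `v` commutes with `α n`,
`n ∈ Qt` (`com_Qt_Z2`); `α⁻¹ v` commutes with all `Xw t`, `Xx t`, so it lies in `Z2` (`eq_zero_of_real`). -/
theorem exists_smul {x : U K} (hx : x ∈ Z2) {s : K} (hs : σ s = s) :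
    ∃ x' ∈ Z2, (afn α x').y = s * (afn α x).y ∧ (afn α x').x = s * (afn α x).x ∧ (afn α x').w = s * (afn α x).w := by
  have hu := afn_mem α (Z2_le_Qs hx)
  obtain ⟨v, hv, e⟩ : ∃ v ∈ (Qs : Subgroup (U K)), v.y = s * (afn α x).y ∧ v.x = s * (afn α x).x ∧ v.w = s * (afn α x).w :=
    ⟨Xy (s * (afn α x).y) * Xx (s * (afn α x).x) * Xw (s * (afn α x).w), by simp only [mem_Qs, UE, and_self],
      by simp only [UE, and_self]⟩
  have m := afn_mem α⁻¹ hv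
  have k : ∀ n ∈ Qt, σ (hf (afn α⁻¹ v) n) = hf (afn α⁻¹ v) n := fun n hn => by
    have n1 := afn_mem α (Qt_le_Qs hn)
    have a := (qc0_com hu n1).1 (qc0_aut α (Z2_le_Qs hx) (Qt_le_Qs hn) (com_Qt_Z2 hn hx).symm)
    have c : hf v (afn α n) = s * hf (afn α x) (afn α n) := by simp only [hf, e]; ring
    have := qc0_aut α⁻¹ hv n1 ((qc0_com hv n1).2 (by rw [c, map_mul, hs, a]))
    rw [afn_inv_afn α (Qt_le_Qs hn)] at this
    exact (qc0_com m (Qt_le_Qs hn)).1 this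
  refine ⟨afn α⁻¹ v, ⟨eq_zero_of_real fun w => ?_, m.1, eq_zero_of_real fun w => ?_, m.2⟩, by rwa [afn_afn_inv α hv]⟩
  · simpa only [hf, UE] using k (Xw w) ⟨rfl, rfl, rfl⟩
  · simpa only [hf, UE] using k (Xx w) ⟨rfl, rfl, rfl⟩

/-- PROOF.  Take `x₁, x₂ ∈ Z2` with `(α x₁).y = 1`, `(α x₂).y = ι`.  Write `y = (α x).y = s₁ + s₂ ι`, `s₂ = (y - σ y) / (ι - σ ι)`, `sᵢ ∈ k`;
with `exists_smul`, `x' = x₁' x₂'` has `(α x').y = y`, so `x'⁻¹ x ∈ Z1` by `h`, and `(α x).x = s₁ X₁ + s₂ X₂`, similarly for `w`.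
Solve `m' + m = X₁`, `m' ι + m σ ι = X₂`. -/
theorem exists_graph (h : ∀ x ∈ Z2, afn α x ∈ Qt → x ∈ Z1) : ∃ m' m n γ : K, ∀ x ∈ Z2,
    (afn α x).x = m' * (afn α x).y + m * σ (afn α x).y ∧ (afn α x).w = n * σ (afn α x).y + γ * (afn α x).y := by
  obtain ⟨ι, hι⟩ := exists_ι (K := K)
  have D : ι - σ ι ≠ 0 := sub_ne_zero.2 hι.symm
  have D' : σ ι - ι ≠ 0 := sub_ne_zero.2 hι
  obtain ⟨x₁, h₁, e₁⟩ := exists_y h 1
  obtain ⟨x₂, h₂, e₂⟩ := exists_y h ι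
  refine ⟨((afn α x₂).x - (afn α x₁).x * σ ι) / (ι - σ ι), ((afn α x₁).x * ι - (afn α x₂).x) / (ι - σ ι),
    ((afn α x₁).w * ι - (afn α x₂).w) / (ι - σ ι), ((afn α x₂).w - (afn α x₁).w * σ ι) / (ι - σ ι), fun x hx => ?_⟩
  obtain ⟨s₁, s₂, c₁, c₂, e⟩ : ∃ s₁ s₂ : K, σ s₁ = s₁ ∧ σ s₂ = s₂ ∧ (afn α x).y = s₁ + s₂ * ι := by
    generalize (afn α x).y = y
    have c : σ ((y - σ y) / (ι - σ ι)) = (y - σ y) / (ι - σ ι) := by simp only [UE]; field_simp; ring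
    refine ⟨y - (y - σ y) / (ι - σ ι) * ι, (y - σ y) / (ι - σ ι), ?_, c, by ring⟩
    rw [map_sub, map_mul, c]; field_simp; ring
  obtain ⟨z₁, k₁, a₁⟩ := exists_smul (α := α) h₁ c₁
  obtain ⟨z₂, k₂, a₂⟩ := exists_smul (α := α) h₂ c₂
  have q₁ := afn_mem α (Z2_le_Qs k₁)
  have q₂ := afn_mem α (Z2_le_Qs k₂)
  have k := mul_mem k₁ k₂
  have m1 := mul_mem (inv_mem k) hx
  have r := afn_dv α (Z2_le_Qs k) (Z2_le_Qs hx)
  rw [homOn_afn α z₁ (Z2_le_Qs k₁) z₂ (Z2_le_Qs k₂)] at r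
  have := chQ_Z1 α _ (Z2_le_Qs m1) (h _ m1 ⟨by
    rw [r]; simp only [UE, a₁, a₂, e, e₁, e₂]; ring, afn_mem α (Z2_le_Qs m1)⟩)
  rw [r, dv_Z1 (mul_mem q₁ q₂) (afn_mem α (Z2_le_Qs hx))] at this
  obtain ⟨-, b1, b2⟩ := this
  simp only [UE, a₁, a₂, q₁.1, q₁.2, q₂.1, q₂.2] at b1 b2
  rw [b1, b2, e]
  simp only [UE, c₁, c₂]
  constructor <;> field_simp <;> ring

theorem qc0_inL {m n γ : K} (hβ : ∀ x ∈ Z2, InL m n γ (afn β x)) (hy : ∀ y, ∃ x ∈ Z2, (afn β x).y = y) :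
    γ + σ γ = m * σ m ∧ (n = 0 ∨ (2 : K) ≠ 0) := by
  obtain ⟨ι, hι⟩ := exists_ι (K := K)
  have D : σ ι - ι ≠ 0 := sub_ne_zero.2 hι
  obtain ⟨x₁, h₁, e₁⟩ := hy 1
  obtain ⟨x₂, h₂, e₂⟩ := hy ι
  have a := (qc0_com (afn_mem β (Z2_le_Qs h₂)) (afn_mem β (Z2_le_Qs h₁))).1
    (qc0_aut β (Z2_le_Qs h₂) (Z2_le_Qs h₁) (com_Qt_Z2 (Z2_le_Qt h₂) h₁))
  simp only [hf, (hβ _ h₁).1, (hβ _ h₁).2, (hβ _ h₂).1, (hβ _ h₂).2, e₁, e₂, UE] at a
  have hγ : γ + σ γ = m * σ m := mul_right_cancel₀ D (by linear_combination a)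
  refine ⟨hγ, or_iff_not_imp_right.2 fun h2 => ?_⟩
  rw [not_not] at h2
  have k : ∀ x ∈ Z2, σ n * (afn β x).y ^ 2 = n * σ (afn β x).y ^ 2 := fun x hx => by
    have q := afn_mem β (Z2_le_Qs hx)
    have := congrArg U.c (afn_sq β (Z2_le_Qs hx) (by
      rw [mem_Z2] at hx
      ext <;> simp only [UE, hx]
      exacts [by linear_combination x.w * h2, by linear_combination x.c * h2]))
    simp only [UE, q.1, q.2, (hβ _ hx).1, (hβ _ hx).2] at this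
    linear_combination -this + (afn β x).y * σ (afn β x).y * hγ +
      ((afn β x).c - σ γ * (afn β x).y * σ (afn β x).y) * h2
  have k1 := k _ h₁
  have k2 := k _ h₂
  rw [e₁, map_one] at k1
  rw [e₂] at k2
  exact mul_right_cancel₀ (pow_ne_zero 2 D) (by
    linear_combination -k2 + ι ^ 2 * k1 + n * (ι ^ 2 - ι * σ ι) * h2)

/-- PROOF.  `g = Xa m'` and `cjQ` remove `m'`.  `β = cQ g * α` also takes every value `y` (`exists_y`).  `v, v' ∈ β Z2` commute, and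
`hf v v' = N m σ y y' + (γ + σ γ) y σ y' + (y σ n y' + n σ y σ y')`; `y = ι`, `y' = 1` give `(N m - γ - σ γ) (σ ι - ι) = 0`.
If `2 = 0`: `x * x = 1` on `Z2`, so `0 = (v * v).c = σ n y² + n σ y²` (use `hγ`); `y = 1`, `ι` give `n (ι + σ ι)² = 0`. -/
theorem exists_InL (h : ∀ x ∈ Z2, afn α x ∈ Qt → x ∈ Z1) : ∃ (g : U K) (m n γ : K), γ + σ γ = m * σ m ∧
    (n = 0 ∨ (2 : K) ≠ 0) ∧ ∀ x ∈ Z2, InL m n γ (afn (cQ g * α) x) := by
  obtain ⟨m', m, n, γ, e⟩ := exists_graph h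
  have hβ : ∀ x ∈ Z2, InL m (n + σ m' * m) (γ + σ m' * m' + σ (Xa m').b) (afn (cQ (Xa m') * α) x) ∧
      (afn (cQ (Xa m') * α) x).y = (afn α x).y := fun x hx => by
    obtain ⟨a1, a2, a3⟩ := cjQ (Xa m') (afn_mem α (Z2_le_Qs hx))
    rw [afn_mul _ _ (Z2_le_Qs hx), InL, a1, a2, a3, (e x hx).1, (e x hx).2]
    exact ⟨⟨by simp only [UE]; ring, by simp only [show (Xa m').a = m' from rfl]; ring⟩, rfl⟩
  obtain ⟨a, c⟩ := qc0_inL (fun x hx => (hβ x hx).1) fun y => (exists_y h y).imp fun x hx => ⟨hx.1, (hβ x hx.1).2.trans hx.2⟩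
  exact ⟨Xa m', _, _, _, a, c, fun x hx => (hβ x hx).1⟩

/-- PROOF.  With `r`, `s` as in `h`: there is `z ≠ 0` with `r σ z + s z = 0` (`r = 0`: then `s = 0`, `z = 1`; otherwise `exists_h90` for `-s / r`).
Take `x ∈ Z2` with `(β x).y = z`; `x ∉ Z1` (`chQ_Z1`).  For `v = α x'` (`y = v.y`), `v'' = cQ g (β x)` (`cjQ`):
`hf v v'' - σ (hf v v'') = ξ - σ ξ`, `ξ = y (r σ z + s z) = 0`.  So `α⁻¹ v''` commutes with `Z2`: `mem_Qt_of_comm`. -/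
theorem pairing {m n γ m' n' γ' : K} (hα : ∀ x ∈ Z2, InL m n γ (afn α x)) (hβ : ∀ x ∈ Z2, InL m' n' γ' (afn β x))
    (hy : ∀ y, ∃ x ∈ Z2, (afn β x).y = y) (g : U K) {r s : K} (hr : r = γ + σ γ' + g.b - σ m * m')
    (hs : s = σ n' - σ n + g.a * (σ m + σ m')) (h : r * σ r = s * σ s) :
    ∃ x ∈ Z2, x ∉ Z1 ∧ afn (α⁻¹ * (cQ g * β)) x ∈ Qt := by
  obtain ⟨z, z0, hz⟩ : ∃ z : K, z ≠ 0 ∧ r * σ z + s * z = 0 := by
    by_cases r0 : r = 0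
    · rw [r0, zero_mul] at h
      exact ⟨1, one_ne_zero, by rw [r0, nrm_eq_zero h.symm]; ring⟩
    · have r1 := σ_ne_zero r0
      obtain ⟨z, z0, hz⟩ := exists_h90 (e := -s / r) (by simp only [UE]; field_simp; exact h.symm)
      exact ⟨z, z0, by rw [hz]; field_simp; ring⟩
  obtain ⟨x, hx, e⟩ := hy z
  have q := Z2_le_Qs hx
  have q1 := afn_mem β q
  have q2 := afn_mem (cQ g) q1
  refine ⟨x, hx, fun a => z0 (e.symm.trans (chQ_Z1 β x q a).1), ?_⟩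
  rw [afn_mul _ _ q, afn_mul _ _ q]
  refine mem_Qt_of_comm (afn_mem _ q2) fun x' hx' => ?_
  have q3 := afn_mem α (Z2_le_Qs hx')
  have := qc0_aut α⁻¹ q3 q2 ((qc0_com q3 q2).2 (by
    obtain ⟨a1, a2, a3⟩ := cjQ g q1
    have hz' := congrArg σ hz
    simp only [hf, a1, a2, a3, (hα x' hx').1, (hα x' hx').2, (hβ x hx).1, (hβ x hx).2, e, hr, hs, UE] at hz hz' ⊢
    linear_combination σ (afn α x').y * hz' - (afn α x').y * hz))
  rw [afn_inv_afn α (Z2_le_Qs hx')] at this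
  exact this.symm

end Cfsg.Agent.U5F
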