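import Cfsg.Agent.U5F.QB
import Cfsg.Agent.U5F.QC0

/-!
The conjugates of `Z2 / Z1` other than `Z2 / Z1` form one orbit of `S`.
Read the headers and signatures of `U5F/U`, `U5F/Gen`, `U5F/Def`, `U5F/QA`, `U5F/QB`, `U5F/QC0`.  `k` is the fixed field of `σ`, `N t = t * σ t`, `ι` is from `exists_ι`,
`θ` from `exists_θ`.  Tools: `simp only [mem_X, UE, UV, h..]` then `ring`, `field_simp`, `grind`; `afn_mul`, `afn_mem`, `afn_cm`, `afn_dv`,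
`afn_res`, `afn_inv_afn`, `cjQ`, `cjR`, `congQ`, `congR`, `mem_OQ`, `mem_OR`, `cm_cQ` (`g, h ∈ Qs` commute iff `σ (hf g h) = hf g h`).
-/

set_option autoImplicit false
set_option linter.unusedSectionVars false
set_option linter.unusedSimpArgs false

namespace Cfsg.Agent.U5F

open Subgroup Cfsg.Agent.RFS Cfsg.Agent.Fus

variable {K : Type*} [Field K] [Cj K] {p : ℕ} [Fact p.Prime] [CharP K p] {A₀ : Subgroup (MulAut (U K))}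
  {A : Subgroup (MulAut (Qs : Subgroup (U K)))} {B : Subgroup (MulAut (Rs : Subgroup (U K)))}
  {α β : MulAut (Qs : Subgroup (U K))}

/-- PROOF.  `pairing` and `nonperp`: `α⁻¹ * (cQ g * β)` preserves `Z2`, so `(cQ g * β) x ∈ α Z2`. -/
theorem pair_InL (h₀ : SA p A₀) (L : Lc p A₀ Qs A) (ha : α ∈ A) (hb : β ∈ A) {m n γ m' n' γ' : K}
    (hα : ∀ x ∈ Z2, InL m n γ (afn α x)) (hβ : ∀ x ∈ Z2, InL m' n' γ' (afn β x))
    (hy : ∀ y, ∃ x ∈ Z2, (afn β x).y = y) (g : U K) {r s : K} (hr : r = γ + σ γ' + g.b - σ m * m')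
    (hs : s = σ n' - σ n + g.a * (σ m + σ m')) (h : r * σ r = s * σ s) : ∀ x ∈ Z2, InL m n γ (afn (cQ g * β) x) := by
  obtain ⟨x₀, h0, h1, h2⟩ := pairing hα hβ hy g hr hs h
  have k : ∀ x ∈ Z2, afn (α⁻¹ * (cQ g * β)) x ∈ Z2 := by
    by_contra c
    exact h1 (nonperp h₀ L (mul_mem (inv_mem ha) (mul_mem (L.cj h₀ g) hb)) c h0 h2)
  intro x hx
  have := hα _ (k x hx)
  rwa [← afn_mul _ _ (Z2_le_Qs hx), mul_inv_cancel_left] at this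

theorem qc_ex (h₀ : SA p A₀) (L : Lc p A₀ Qs A) (hα : α ∈ A) (hn : ¬ ∀ x ∈ Z2, afn α x ∈ Z2) :
    ∃ (g : U K) (m n γ : K), γ + σ γ = m * σ m ∧ (m = 0 ∨ (2 : K) = 0) ∧ (n = 0 ∨ (2 : K) ≠ 0) ∧
      (∀ x ∈ Z2, InL m n γ (afn (cQ g * α) x)) ∧ ∀ y, ∃ x ∈ Z2, (afn (cQ g * α) x).y = y := by
  have k : ∀ x ∈ Z2, afn α x ∈ Qt → x ∈ Z1 := fun x hx => nonperp h₀ L hα hn hx
  obtain ⟨g, m, n, γ, h1, h2, h3⟩ := exists_InL k
  have hy : ∀ y, ∃ x ∈ Z2, (afn (cQ g * α) x).y = y := fun y => (exists_y k y).imp fun x hx => ⟨hx.1, by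
    rw [afn_mul _ _ (Z2_le_Qs hx.1), (cjQ g (afn_mem α (Z2_le_Qs hx.1))).1, hx.2]⟩
  refine ⟨g, m, n, γ, h1, or_iff_not_imp_right.2 fun c => ?_, h2, h3, hy⟩
  have hβ := mul_mem (L.cj h₀ g) hα
  obtain ⟨x, hx, e⟩ := hy 1
  have := (pair_InL h₀ L hβ hβ h3 h3 hy (Ta (4 * m) (-(8 * (m * σ m))) (by simp only [UE, map_ofNat]; ring)) rfl rfl
    (by simp only [h1, UE, map_ofNat]; ring) x hx).1
  obtain ⟨c1, c2, -⟩ := cjQ (Ta (4 * m) (-(8 * (m * σ m))) (by simp only [UE, map_ofNat]; ring))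
    (afn_mem (cQ g * α) (Z2_le_Qs hx))
  rw [afn_mul _ _ (Z2_le_Qs hx), c1, c2, (h3 x hx).1, e] at this
  simp only [UE] at this
  exact mul_left_cancel₀ (mul_ne_zero c c) (by linear_combination -this)

/-- PROOF.  For `α ∈ A` not preserving `Z2`, `nonperp` and `exists_InL` give `g, m, n, γ` for `β = cQ g * α ∈ A`, and `exists_y` holds for `β`
(`cjQ` keeps `y`).  If `2 ≠ 0` then `m = 0`: `pair_InL` for `β, β` and `Ta (4 m) (-8 N m) _` (`r = -8 N m`, `s = 8 N m`); at `y = 1` the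
`x`-coordinates give `4 m = 0`.  Such an `α₀` exists (`L.exists_not_res`, `extQ`); it gives `m, n, γ`.  For another `α` with `g', m', n', γ'`
use `pair_InL` with `t = Ta a b _`: if `2 ≠ 0`, `b = n' - n - γ - σ γ'`, `N a = -(b + σ b)` (`exists_nrm`), `r = n' - n`;
if `2 = 0`, `a = m + m'`, `b = N a - γ - σ γ' + σ m m'`, `r = s = N a`.  `cQ t * (cQ g' * α) = cQ (t * g') * α`. -/
theorem param (h₀ : SA p A₀) (L : Lc p A₀ Qs A) : ∃ m n γ : K, γ + σ γ = m * σ m ∧ (m = 0 ∨ (2 : K) = 0) ∧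
    (n = 0 ∨ (2 : K) ≠ 0) ∧ (∃ α ∈ A, ∀ x ∈ Z2, InL m n γ (afn α x)) ∧
    ∀ α ∈ A, (∀ x ∈ Z2, afn α x ∈ Z2) ∨ ∃ g, ∀ x ∈ Z2, InL m n γ (afn (cQ g * α) x) := by
  obtain ⟨α₀, h1, h2⟩ := L.exists_not_res
  obtain ⟨g₀, m, n, γ, k1, k2, k3, k4, -⟩ := qc_ex h₀ L h1 fun c => h2 (extQ h₀ L h1 c)
  have hβ := mul_mem (L.cj h₀ g₀) h1
  refine ⟨m, n, γ, k1, k2, k3, ⟨_, hβ, k4⟩, fun α hα => or_iff_not_imp_left.2 fun c => ?_⟩
  obtain ⟨g, m', n', γ', l1, l2, l3, l4, l5⟩ := qc_ex h₀ L hα c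
  obtain ⟨t, ht⟩ : ∃ t : U K, (γ + σ γ' + t.b - σ m * m') * σ (γ + σ γ' + t.b - σ m * m') =
      (σ n' - σ n + t.a * (σ m + σ m')) * σ (σ n' - σ n + t.a * (σ m + σ m')) := by
    by_cases c2 : (2 : K) = 0
    · obtain rfl := k3.resolve_right (not_not.2 c2)
      obtain rfl := l3.resolve_right (not_not.2 c2)
      refine ⟨Ta (m + m') ((m + m') * σ (m + m') - γ - σ γ' + σ m * m') ?_, ?_⟩ <;> simp only [UE]
      · linear_combination -k1 - l1 + (m * σ m + m' * σ m' + 2 * (m * σ m' + σ m * m')) * c2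
      · ring
    · obtain rfl := k2.resolve_right c2
      obtain rfl := l2.resolve_right c2
      obtain ⟨a, ha⟩ := exists_nrm (s := -(n' - n - γ - σ γ' + σ (n' - n - γ - σ γ'))) (by simp only [UE]; ring)
      exact ⟨Ta a (n' - n - γ - σ γ') (by rw [ha]; ring), by simp only [UE]; ring⟩
  refine ⟨t * g, ?_⟩
  rw [cQ, map_mul, map_mul, mul_assoc]
  exact pair_InL h₀ L hβ (mul_mem (L.cj h₀ g) hα) k4 l4 l5 t rfl rfl ht

/-- PROOF.  `param`.  If `α` preserves `Z2`: `extQ`.  `ωQ K` does not (`Xw 1`), so `δ = cQ g₀ * ωQ K` maps `Z2` into the graph, and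
`(δ (Xw y)).y = y`.  So for `x ∈ Z2`, `v = (cQ g * α) x` has the coordinates of `δ (Xw v.y)`, and `δ⁻¹ v ∈ Z2` (`congQ`).  `extQ` gives
`δ⁻¹ * (cQ g * α) = rQ φ`, `α = cQ (g⁻¹ * g₀) * ωQ K * rQ φ`. -/
theorem genQ (h₀ : SA p A₀) (L : Lc p A₀ Qs A) (hω : ωQ K ∈ A) (hα : α ∈ A) :
    ∃ φ ∈ A₀, α = rQ φ ∨ ∃ g, α = cQ g * ωQ K * rQ φ := by
  obtain ⟨m, n, γ, -, -, -, -, h⟩ := param h₀ L
  rcases h α hα with c | ⟨g, hg⟩
  · obtain ⟨φ, h1, h2⟩ := extQ h₀ L hα c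
    exact ⟨φ, h1, .inl h2.symm⟩
  have w2 : ∀ y : K, Xw y ∈ Z2 := fun _ => ⟨rfl, rfl, rfl, rfl⟩
  obtain ⟨g₀, k⟩ := (h _ hω).resolve_left fun c => by
    have := (c _ (w2 1)).1
    rw [afn_ωQ (Z2_le_Qs (w2 1))] at this
    exact one_ne_zero this
  obtain ⟨φ, h1, h2⟩ := extQ h₀ L (mul_mem (inv_mem (mul_mem (L.cj h₀ g₀) hω)) (mul_mem (L.cj h₀ g) hα)) fun x hx => by
    have hv := afn_mem (cQ g * α) (Z2_le_Qs hx)
    have hw := Z2_le_Qs (w2 (afn (cQ g * α) x).y)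
    have e : (afn (cQ g₀ * ωQ K) (Xw (afn (cQ g * α) x).y)).y = (afn (cQ g * α) x).y := by
      rw [afn_mul _ _ hw, (cjQ g₀ (afn_mem _ hw)).1, afn_ωQ hw]; rfl
    obtain ⟨c1, c2, -⟩ := congQ (cQ g₀ * ωQ K)⁻¹ (afn_mem _ hw) hv
      ⟨e.symm, by rw [(hg x hx).1, (k _ (w2 _)).1, e], by rw [(hg x hx).2, (k _ (w2 _)).2, e]⟩
    rw [afn_inv_afn _ hw] at c1 c2
    rw [afn_mul _ _ (Z2_le_Qs hx)]
    exact ⟨c1, (afn_mem _ hv).1, c2, (afn_mem _ hv).2⟩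
  refine ⟨φ, h1, .inr ⟨g⁻¹ * g₀, ?_⟩⟩
  rw [h2, cQ, map_mul, map_mul, map_inv, map_inv]
  group

end Cfsg.Agent.U5F
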