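import Cfsg.Agent.Class.U.Field
import Cfsg.Agent.RFS.Es

/-!
The Sylow `p`-subgroup `S = U K` of `SU₅(q)` in coordinates (`K` has `q²` elements, `σ` is the involution, `k` its fixed field).

`s ∈ k` is `σ s = s`; `u ∈ k v` (for `v ≠ 0`) is `u * σ v = σ u * v`.  The homomorphisms `y, a : S → K` have kernels `Rs`, `Ps`.
Commutators (`cm g h = g h g⁻¹ h⁻¹`): `(cm g h).x = g.y h.a - h.y g.a`, `(cm g h).b = h.a σ g.a - g.a σ h.a`;
for `n ∈ Z3`: `(cm g n).w = g.y n.b + n.x σ g.a`;  for `g, h ∈ Ps`: `(cm g h).w = g.y h.b - h.y g.b`;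
for `g, h ∈ Qs`: `(cm g h).c = σ (hf g h) - hf g h`, `hf g h = g.x σ h.x + g.y σ h.w + g.w σ h.y`.
Upper central series `Z1 < Z2 < Z3 < S`; `As = Z(Rs)`, `Qt = Qs ⊓ Rs`.
Coordinates: `ext <;> simp only [UE, h..] <;> ring` or `simp only [mem_X, cm, UE, h..]; grind`.
-/

set_option autoImplicit false
set_option linter.unusedSectionVars false
set_option linter.unusedSimpArgs false

namespace Cfsg.Agent.U5F

open Subgroup Cfsg.Agent.Class.U Cfsg.Agent.RFS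

/-- A field with `q²` elements. -/
class Cj (K : Type*) [Field K] where
  q : ℕ
  uf : UF K q

variable {K : Type*} [Field K] [Cj K]

instance Cj.instUF : UF K (Cj.q K) := Cj.uf

instance (priority := 50) Cj.instFinite : Finite K := (Cj.uf (K := K)).finite

/-- The involution. -/
def σ : K →+* K := conj K (Cj.q K)

@[simp] theorem σσ (t : K) : σ (σ t) = t := conj_conj t

theorem σ_eq_zero {t : K} : σ t = 0 ↔ t = 0 := map_eq_zero _

theorem σ_ne_zero {t : K} (h : t ≠ 0) : σ t ≠ 0 := (map_ne_zero _).2 h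

theorem nrm_eq_zero {t : K} (h : t * σ t = 0) : t = 0 := (mul_eq_zero.1 h).elim id σ_eq_zero.1

theorem exists_ι : ∃ ι : K, σ ι ≠ ι := exists_conj_ne K _

theorem exists_θ : ∃ θ : K, θ ≠ 0 ∧ θ + σ θ = 0 := exists_trace_zero K _

theorem exists_nrm {s : K} (h : σ s = s) : ∃ t : K, t * σ t = s := exists_norm_eq h

theorem exists_nrm_one : ∃ d : K, d * σ d = 1 ∧ d ≠ 1 := exists_norm_one_ne_one K _

theorem exists_h90 {e : K} (h : e * σ e = 1) : ∃ s : K, s ≠ 0 ∧ σ s = e * s := exists_conj_div_eq h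

/-- An element of trace one. -/
noncomputable def τ : K := (exists_trace_eq_one K (Cj.q K)).choose

theorem στ : σ (τ : K) = 1 - τ := eq_sub_of_add_eq' (exists_trace_eq_one K (Cj.q K)).choose_spec

/-- `u ∈ k v`. -/
theorem exists_pr {u v : K} (hv : v ≠ 0) (h : u * σ v = σ u * v) : ∃ s, σ s = s ∧ u = s * v :=
  ⟨u / v, by rw [map_div₀, div_eq_div_iff (σ_ne_zero hv) hv, h], by field_simp⟩

/-- Field automorphisms commute with `σ`. -/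
theorem fσ (f : K ≃+* K) (t : K) : f (σ t) = σ (f t) := map_pow f t _

/-- Coordinates. -/
@[ext] structure U (K : Type*) [Field K] [Cj K] where
  y : K
  a : K
  x : K
  b : K
  w : K
  c : K
  hb : σ b = -b - a * σ a
  hc : σ c = -c - x * σ x

instance : Mul (U K) := ⟨fun g h =>
  { y := g.y + h.y
    a := g.a + h.a
    x := g.x + h.x + g.y * h.a
    b := g.b + h.b - g.a * σ h.a
    w := g.w + h.w + g.y * h.b - g.x * σ h.a
    c := g.c + h.c - g.y * σ h.w - g.y * h.a * σ h.x + σ g.y * h.w + g.y * σ g.y * h.b - g.x * σ h.x - g.x * σ g.y * σ h.a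
    hb := by simp only [map_add, map_sub, map_mul, σσ, g.hb, h.hb]; ring
    hc := by simp only [map_add, map_sub, map_mul, σσ, g.hc, h.hc, h.hb]; ring }⟩

instance : One (U K) := ⟨⟨0, 0, 0, 0, 0, 0, by simp, by simp⟩⟩

instance : Inv (U K) := ⟨fun g =>
  { y := -g.y
    a := -g.a
    x := -g.x + g.y * g.a
    b := -g.b - g.a * σ g.a
    w := -g.w - σ g.a * g.x + g.y * (g.b + g.a * σ g.a)
    c := -g.c - g.x * σ g.x - g.y * σ g.w + σ g.y * g.w + σ g.y * σ g.a * g.x - g.y * σ g.y * (g.b + g.a * σ g.a)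
    hb := by simp only [map_add, map_sub, map_mul, map_neg, σσ, g.hb]; ring
    hc := by simp only [map_add, map_sub, map_mul, map_neg, σσ, g.hc, g.hb]; ring }⟩

/-- Root elements. -/
def Xy (t : K) : U K := ⟨t, 0, 0, 0, 0, 0, by simp, by simp⟩
/-- Root elements. -/
def Xw (t : K) : U K := ⟨0, 0, 0, 0, t, 0, by simp, by simp⟩
/-- Root elements. -/
def Xb (t : K) (h : t + σ t = 0) : U K := ⟨0, 0, 0, t, 0, 0, by simp [eq_neg_of_add_eq_zero_right h], by simp⟩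
/-- Root elements. -/
def Xc (t : K) (h : t + σ t = 0) : U K := ⟨0, 0, 0, 0, 0, t, by simp, by simp [eq_neg_of_add_eq_zero_right h]⟩
/-- Root elements. -/
def Ta (a b : K) (h : σ b = -b - a * σ a) : U K := ⟨0, a, 0, b, 0, 0, h, by simp⟩
/-- Root elements. -/
noncomputable def Xa (t : K) : U K := ⟨0, t, 0, -(τ * (t * σ t)), 0, 0, by simp only [map_neg, map_mul, στ, σσ]; ring, by simp⟩
/-- Root elements. -/
noncomputable def Xx (t : K) : U K := ⟨0, 0, t, 0, 0, -(τ * (t * σ t)), by simp, by simp only [map_neg, map_mul, στ, σσ]; ring⟩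

/-- The simp set for coordinates. -/
theorem UE :
    ((∀ g h : U K, (g * h).y = g.y + h.y) ∧ (∀ g h : U K, (g * h).a = g.a + h.a) ∧
      (∀ g h : U K, (g * h).x = g.x + h.x + g.y * h.a) ∧ (∀ g h : U K, (g * h).b = g.b + h.b - g.a * σ h.a) ∧
      (∀ g h : U K, (g * h).w = g.w + h.w + g.y * h.b - g.x * σ h.a) ∧
      ∀ g h : U K, (g * h).c = g.c + h.c - g.y * σ h.w - g.y * h.a * σ h.x + σ g.y * h.w + g.y * σ g.y * h.b -
        g.x * σ h.x - g.x * σ g.y * σ h.a) ∧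
    ((∀ g : U K, g⁻¹.y = -g.y) ∧ (∀ g : U K, g⁻¹.a = -g.a) ∧ (∀ g : U K, g⁻¹.x = -g.x + g.y * g.a) ∧
      (∀ g : U K, g⁻¹.b = -g.b - g.a * σ g.a) ∧
      (∀ g : U K, g⁻¹.w = -g.w - σ g.a * g.x + g.y * (g.b + g.a * σ g.a)) ∧
      ∀ g : U K, g⁻¹.c = -g.c - g.x * σ g.x - g.y * σ g.w + σ g.y * g.w + σ g.y * σ g.a * g.x -
        g.y * σ g.y * (g.b + g.a * σ g.a)) ∧
    ((1 : U K).y = 0 ∧ (1 : U K).a = 0 ∧ (1 : U K).x = 0 ∧ (1 : U K).b = 0 ∧ (1 : U K).w = 0 ∧ (1 : U K).c = 0) ∧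
    ((∀ g : U K, σ g.b = -g.b - g.a * σ g.a) ∧ ∀ g : U K, σ g.c = -g.c - g.x * σ g.x) ∧
    (∀ t : K, (Xy t).y = t ∧ (Xy t).a = 0 ∧ (Xy t).x = 0 ∧ (Xy t).b = 0 ∧ (Xy t).w = 0 ∧ (Xy t).c = 0) ∧
    (∀ t : K, (Xw t).y = 0 ∧ (Xw t).a = 0 ∧ (Xw t).x = 0 ∧ (Xw t).b = 0 ∧ (Xw t).w = t ∧ (Xw t).c = 0) ∧
    (∀ (t : K) h, (Xb t h).y = 0 ∧ (Xb t h).a = 0 ∧ (Xb t h).x = 0 ∧ (Xb t h).b = t ∧ (Xb t h).w = 0 ∧ (Xb t h).c = 0) ∧
    (∀ (t : K) h, (Xc t h).y = 0 ∧ (Xc t h).a = 0 ∧ (Xc t h).x = 0 ∧ (Xc t h).b = 0 ∧ (Xc t h).w = 0 ∧ (Xc t h).c = t) ∧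
    (∀ (a b : K) h, (Ta a b h).y = 0 ∧ (Ta a b h).a = a ∧ (Ta a b h).x = 0 ∧ (Ta a b h).b = b ∧ (Ta a b h).w = 0 ∧
      (Ta a b h).c = 0) ∧
    (∀ t : K, (Xa t).y = 0 ∧ (Xa t).a = t ∧ (Xa t).x = 0 ∧ (Xa t).b = -(τ * (t * σ t)) ∧ (Xa t).w = 0 ∧ (Xa t).c = 0) ∧
    (∀ t : K, (Xx t).y = 0 ∧ (Xx t).a = 0 ∧ (Xx t).x = t ∧ (Xx t).b = 0 ∧ (Xx t).w = 0 ∧ (Xx t).c = -(τ * (t * σ t))) ∧
    ((∀ s t : K, σ (s + t) = σ s + σ t) ∧ (∀ s t : K, σ (s - t) = σ s - σ t) ∧ (∀ s t : K, σ (s * t) = σ s * σ t) ∧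
      (∀ s : K, σ (-s) = -σ s) ∧ (∀ s : K, σ s⁻¹ = (σ s)⁻¹) ∧ (∀ s t : K, σ (s / t) = σ s / σ t) ∧
      (∀ (s : K) (n : ℕ), σ (s ^ n) = σ s ^ n) ∧ σ (0 : K) = 0 ∧ σ (1 : K) = 1 ∧ (∀ s : K, σ (σ s) = s) ∧ σ (τ : K) = 1 - τ) ∧
    ((∀ s : K, s + 0 = s) ∧ (∀ s : K, 0 + s = s) ∧ (∀ s : K, s - 0 = s) ∧ (∀ s : K, 0 - s = -s) ∧ (∀ s : K, s * 0 = 0) ∧
      (∀ s : K, 0 * s = 0) ∧ (∀ s : K, s * 1 = s) ∧ (∀ s : K, 1 * s = s) ∧ -(0 : K) = 0 ∧ ∀ s : K, - -s = s) :=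
  ⟨⟨fun _ _ => rfl, fun _ _ => rfl, fun _ _ => rfl, fun _ _ => rfl, fun _ _ => rfl, fun _ _ => rfl⟩,
    ⟨fun _ => rfl, fun _ => rfl, fun _ => rfl, fun _ => rfl, fun _ => rfl, fun _ => rfl⟩,
    ⟨rfl, rfl, rfl, rfl, rfl, rfl⟩, ⟨U.hb, U.hc⟩, fun _ => ⟨rfl, rfl, rfl, rfl, rfl, rfl⟩,
    fun _ => ⟨rfl, rfl, rfl, rfl, rfl, rfl⟩, fun _ _ => ⟨rfl, rfl, rfl, rfl, rfl, rfl⟩,
    fun _ _ => ⟨rfl, rfl, rfl, rfl, rfl, rfl⟩, fun _ _ _ => ⟨rfl, rfl, rfl, rfl, rfl, rfl⟩,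
    fun _ => ⟨rfl, rfl, rfl, rfl, rfl, rfl⟩, fun _ => ⟨rfl, rfl, rfl, rfl, rfl, rfl⟩,
    ⟨map_add σ, map_sub σ, map_mul σ, map_neg σ, map_inv₀ σ, map_div₀ σ, map_pow σ, map_zero σ, map_one σ, σσ, στ⟩,
    add_zero, zero_add, sub_zero, zero_sub, mul_zero, zero_mul, mul_one, one_mul, neg_zero, neg_neg⟩

instance : Group (U K) :=
  Group.ofLeftAxioms (fun _ _ _ => by ext <;> simp only [UE] <;> ring) (fun _ => by ext <;> simp only [UE])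
    fun _ => by ext <;> simp only [UE] <;> ring

/-- The centre. -/
def Z1 : Subgroup (U K) where
  carrier := {g | g.y = 0 ∧ g.a = 0 ∧ g.x = 0 ∧ g.b = 0 ∧ g.w = 0}
  mul_mem' h k := by simp only [Set.mem_ofPred_eq] at h k; simp only [Set.mem_ofPred_eq, UE, h, k, and_self]
  one_mem' := by simp only [Set.mem_ofPred_eq, UE, and_self]
  inv_mem' h := by simp only [Set.mem_ofPred_eq] at h; simp only [Set.mem_ofPred_eq, UE, h, and_self]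

/-- The second centre. -/
def Z2 : Subgroup (U K) where
  carrier := {g | g.y = 0 ∧ g.a = 0 ∧ g.x = 0 ∧ g.b = 0}
  mul_mem' h k := by simp only [Set.mem_ofPred_eq] at h k; simp only [Set.mem_ofPred_eq, UE, h, k, and_self]
  one_mem' := by simp only [Set.mem_ofPred_eq, UE, and_self]
  inv_mem' h := by simp only [Set.mem_ofPred_eq] at h; simp only [Set.mem_ofPred_eq, UE, h, and_self]

/-- The centre of `Rs`. -/
def As : Subgroup (U K) where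
  carrier := {g | g.y = 0 ∧ g.a = 0 ∧ g.x = 0}
  mul_mem' h k := by simp only [Set.mem_ofPred_eq] at h k; simp only [Set.mem_ofPred_eq, UE, h, k, and_self]
  one_mem' := by simp only [Set.mem_ofPred_eq, UE, and_self]
  inv_mem' h := by simp only [Set.mem_ofPred_eq] at h; simp only [Set.mem_ofPred_eq, UE, h, and_self]

/-- `Qs ⊓ Rs`. -/
def Qt : Subgroup (U K) where
  carrier := {g | g.y = 0 ∧ g.a = 0 ∧ g.b = 0}
  mul_mem' h k := by simp only [Set.mem_ofPred_eq] at h k; simp only [Set.mem_ofPred_eq, UE, h, k, and_self]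
  one_mem' := by simp only [Set.mem_ofPred_eq, UE, and_self]
  inv_mem' h := by simp only [Set.mem_ofPred_eq] at h; simp only [Set.mem_ofPred_eq, UE, h, and_self]

/-- The third centre. -/
def Z3 : Subgroup (U K) where
  carrier := {g | g.y = 0 ∧ g.a = 0}
  mul_mem' h k := by simp only [Set.mem_ofPred_eq] at h k; simp only [Set.mem_ofPred_eq, UE, h, k, and_self]
  one_mem' := by simp only [Set.mem_ofPred_eq, UE, and_self]
  inv_mem' h := by simp only [Set.mem_ofPred_eq] at h; simp only [Set.mem_ofPred_eq, UE, h, and_self]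

/-- The unipotent radical `q^{1+6}`. -/
def Qs : Subgroup (U K) where
  carrier := {g | g.a = 0 ∧ g.b = 0}
  mul_mem' h k := by simp only [Set.mem_ofPred_eq] at h k; simp only [Set.mem_ofPred_eq, UE, h, k, and_self]
  one_mem' := by simp only [Set.mem_ofPred_eq, UE, and_self]
  inv_mem' h := by simp only [Set.mem_ofPred_eq] at h; simp only [Set.mem_ofPred_eq, UE, h, and_self]

/-- `Qs Z3`. -/
def Ps : Subgroup (U K) where
  carrier := {g | g.a = 0}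
  mul_mem' h k := by simp only [Set.mem_ofPred_eq] at h k; simp only [Set.mem_ofPred_eq, UE, h, k]
  one_mem' := by simp only [Set.mem_ofPred_eq, UE]
  inv_mem' h := by simp only [Set.mem_ofPred_eq] at h; simp only [Set.mem_ofPred_eq, UE, h]

/-- The unipotent radical `q^{4+4}`. -/
def Rs : Subgroup (U K) where
  carrier := {g | g.y = 0}
  mul_mem' h k := by simp only [Set.mem_ofPred_eq] at h k; simp only [Set.mem_ofPred_eq, UE, h, k]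
  one_mem' := by simp only [Set.mem_ofPred_eq, UE]
  inv_mem' h := by simp only [Set.mem_ofPred_eq] at h; simp only [Set.mem_ofPred_eq, UE, h]

/-- `Z1` times the root elements `Xw w`, `w ∈ k y₀`. -/
def C0 (y₀ : K) : Subgroup (U K) where
  carrier := {g | g.y = 0 ∧ g.a = 0 ∧ g.x = 0 ∧ g.b = 0 ∧ g.w * σ y₀ = σ g.w * y₀}
  mul_mem' h k := by
    simp only [Set.mem_ofPred_eq] at h k
    simp only [Set.mem_ofPred_eq, UE, h, k, add_mul, and_self]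
  one_mem' := by simp only [Set.mem_ofPred_eq, UE, and_self]
  inv_mem' h := by simp only [Set.mem_ofPred_eq] at h; simp only [Set.mem_ofPred_eq, UE, h, neg_mul, and_self]

theorem mem_Z1 {g : U K} : g ∈ Z1 ↔ g.y = 0 ∧ g.a = 0 ∧ g.x = 0 ∧ g.b = 0 ∧ g.w = 0 := Iff.rfl
theorem mem_Z2 {g : U K} : g ∈ Z2 ↔ g.y = 0 ∧ g.a = 0 ∧ g.x = 0 ∧ g.b = 0 := Iff.rfl
theorem mem_As {g : U K} : g ∈ As ↔ g.y = 0 ∧ g.a = 0 ∧ g.x = 0 := Iff.rfl
theorem mem_Qt {g : U K} : g ∈ Qt ↔ g.y = 0 ∧ g.a = 0 ∧ g.b = 0 := Iff.rfl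
theorem mem_Z3 {g : U K} : g ∈ Z3 ↔ g.y = 0 ∧ g.a = 0 := Iff.rfl
theorem mem_Qs {g : U K} : g ∈ Qs ↔ g.a = 0 ∧ g.b = 0 := Iff.rfl
theorem mem_Ps {g : U K} : g ∈ Ps ↔ g.a = 0 := Iff.rfl
theorem mem_Rs {g : U K} : g ∈ Rs ↔ g.y = 0 := Iff.rfl
theorem mem_C0 {y₀ : K} {g : U K} :
    g ∈ C0 y₀ ↔ g.y = 0 ∧ g.a = 0 ∧ g.x = 0 ∧ g.b = 0 ∧ g.w * σ y₀ = σ g.w * y₀ := Iff.rfl

/-- The hermitian form on `Qs / Z1`. -/
def hf (g h : U K) : K := g.x * σ h.x + g.y * σ h.w + g.w * σ h.y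

theorem cm_y (g h : U K) : (cm g h).y = 0 := by simp only [cm, UE]; ring
theorem cm_a (g h : U K) : (cm g h).a = 0 := by simp only [cm, UE]; ring
theorem cm_x (g h : U K) : (cm g h).x = g.y * h.a - h.y * g.a := by simp only [cm, UE]; ring
theorem cm_b (g h : U K) : (cm g h).b = h.a * σ g.a - g.a * σ h.a := by simp only [cm, UE]; ring

theorem cm_w3 (g : U K) {n : U K} (h : n ∈ Z3) : (cm g n).w = g.y * n.b + n.x * σ g.a := by
  simp only [cm, UE, h.1, h.2]; ring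

theorem cm_wP {g h : U K} (hg : g ∈ Ps) (hh : h ∈ Ps) : (cm g h).w = g.y * h.b - h.y * g.b := by
  simp only [cm, UE, mem_Ps.1 hg, mem_Ps.1 hh]; ring

theorem cm_wR {g h : U K} (hg : g ∈ Rs) (hh : h ∈ Rs) : (cm g h).w = h.x * σ g.a - g.x * σ h.a := by
  simp only [cm, UE, mem_Rs.1 hg, mem_Rs.1 hh]; ring

theorem cm_cR {g h : U K} (hg : g ∈ Rs) (hh : h ∈ Rs) : (cm g h).c = h.x * σ g.x - g.x * σ h.x := by
  simp only [cm, UE, mem_Rs.1 hg, mem_Rs.1 hh]; ring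

theorem cm_c2 (g : U K) {n : U K} (h : n ∈ Z2) : (cm g n).c = σ g.y * n.w - g.y * σ n.w := by
  rw [mem_Z2] at h
  simp only [cm, UE, h]; ring

theorem cm_cQ {g h : U K} (hg : g ∈ Qs) (hh : h ∈ Qs) : (cm g h).c = σ (hf g h) - hf g h := by
  simp only [cm, hf, UE, hg.1, hg.2, hh.1, hh.2]; ring

theorem cm_cP {g n : U K} (hg : g ∈ Ps) (h : n ∈ Qt) : (cm g n).c = σ (hf g n) - hf g n := by
  rw [mem_Qt] at h
  simp only [cm, hf, UE, mem_Ps.1 hg, h]; ring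

theorem cm_S_S (g h : U K) : cm g h ∈ Z3 := ⟨cm_y g h, cm_a g h⟩

theorem cm_S_Z3 (g : U K) {n : U K} (h : n ∈ Z3) : cm g n ∈ Z2 := by
  simp only [mem_Z2, cm_y, cm_a, cm_x, cm_b, UE, h.1, h.2, sub_self, and_self]

theorem cm_S_Z2 (g : U K) {n : U K} (h : n ∈ Z2) : cm g n ∈ Z1 := by
  have := cm_w3 g (n := n) ⟨h.1, h.2.1⟩
  rw [mem_Z2] at h
  simp only [mem_Z1, cm_y, cm_a, cm_x, cm_b, this, UE, h, sub_self, and_self]

theorem cm_S_Ps (g : U K) {h : U K} (hh : h ∈ Ps) : cm g h ∈ Qt := by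
  simp only [mem_Qt, cm_y, cm_a, cm_b, UE, mem_Ps.1 hh, sub_self, and_self]

theorem cm_Ps_Ps {g h : U K} (hg : g ∈ Ps) (hh : h ∈ Ps) : cm g h ∈ Z2 := by
  simp only [mem_Z2, cm_y, cm_a, cm_x, cm_b, UE, mem_Ps.1 hg, mem_Ps.1 hh, sub_self, and_self]

theorem cm_Rs_Rs {g h : U K} (hg : g ∈ Rs) (hh : h ∈ Rs) : cm g h ∈ As := by
  simp only [mem_As, cm_y, cm_a, cm_x, UE, mem_Rs.1 hg, mem_Rs.1 hh, sub_self, and_self]

theorem cm_Qs_Qs {g h : U K} (hg : g ∈ Qs) (hh : h ∈ Qs) : cm g h ∈ Z1 := by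
  simp only [mem_Z1, cm_y, cm_a, cm_x, cm_b, cm_wP hg.1 hh.1, UE, hg.1, hg.2, hh.1, hh.2, sub_self, and_self]

theorem cm_Ps_Qt {g n : U K} (hg : g ∈ Ps) (h : n ∈ Qt) : cm g n ∈ Z1 := by
  have := cm_wP hg (h := n) h.2.1
  rw [mem_Qt] at h
  simp only [mem_Z1, cm_y, cm_a, cm_x, cm_b, this, UE, mem_Ps.1 hg, h, sub_self, and_self]

theorem cm_Z3_Z3 {g h : U K} (hg : g ∈ Z3) (hh : h ∈ Z3) : cm g h ∈ Z1 := by
  simp only [mem_Z1, cm_y, cm_a, cm_x, cm_b, cm_w3 g hh, UE, hg.1, hg.2, hh.1, hh.2, sub_self, and_self]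

theorem com_Z1 (g : U K) {z : U K} (h : z ∈ Z1) : g * z = z * g := by
  rw [mem_Z1] at h
  ext <;> simp only [UE, h] <;> ring

theorem com_As {g n : U K} (hg : g ∈ Rs) (h : n ∈ As) : g * n = n * g := by
  rw [mem_As] at h
  ext <;> simp only [UE, h, mem_Rs.1 hg] <;> ring

theorem com_C0 {y₀ : K} {g n : U K} (h₀ : y₀ ≠ 0) (hg : g.y * σ y₀ = σ g.y * y₀) (h : n ∈ C0 y₀) : g * n = n * g := by
  obtain ⟨s, hs, e⟩ := exists_pr h₀ hg
  rw [mem_C0] at h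
  ext <;> simp only [UE, h, e, hs] <;> try ring
  linear_combination s * h.2.2.2.2

/-- `[g, Z2] = Z1` for `g ∉ Rs`. -/
theorem exists_cm_Z2 {g z : U K} (hg : g.y ≠ 0) (hz : z ∈ Z1) : ∃ n ∈ Z2, cm g n = z := by
  have h1 := σ_ne_zero hg
  have h2 := z.hc
  rw [mem_Z1] at hz
  refine ⟨Xw (z.c * τ / σ g.y), by simp only [mem_Z2, UE, and_self], ?_⟩
  ext <;> simp only [cm, UE, hz] <;> field_simp <;> ring

theorem Z1_le_Z2 : (Z1 : Subgroup (U K)) ≤ Z2 := fun _ h => ⟨h.1, h.2.1, h.2.2.1, h.2.2.2.1⟩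
theorem Z2_le_As : (Z2 : Subgroup (U K)) ≤ As := fun _ h => ⟨h.1, h.2.1, h.2.2.1⟩
theorem Z2_le_Qt : (Z2 : Subgroup (U K)) ≤ Qt := fun _ h => ⟨h.1, h.2.1, h.2.2.2⟩
theorem As_le_Z3 : (As : Subgroup (U K)) ≤ Z3 := fun _ h => ⟨h.1, h.2.1⟩
theorem Qt_le_Z3 : (Qt : Subgroup (U K)) ≤ Z3 := fun _ h => ⟨h.1, h.2.1⟩
theorem Qt_le_Qs : (Qt : Subgroup (U K)) ≤ Qs := fun _ h => h.2
theorem Z2_le_Z3 : (Z2 : Subgroup (U K)) ≤ Z3 := Z2_le_As.trans As_le_Z3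
theorem Z2_le_Qs : (Z2 : Subgroup (U K)) ≤ Qs := Z2_le_Qt.trans Qt_le_Qs
theorem Z3_le_Rs : (Z3 : Subgroup (U K)) ≤ Rs := fun _ h => h.1
theorem Z3_le_Ps : (Z3 : Subgroup (U K)) ≤ Ps := fun _ h => h.2
theorem Qs_le_Ps : (Qs : Subgroup (U K)) ≤ Ps := fun _ h => h.1
theorem C0_le_Z2 {y₀ : K} : (C0 y₀ : Subgroup (U K)) ≤ Z2 := fun _ h => ⟨h.1, h.2.1, h.2.2.1, h.2.2.2.1⟩
theorem Z1_le_C0 {y₀ : K} : (Z1 : Subgroup (U K)) ≤ C0 y₀ := fun _ h => by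
  rw [mem_Z1] at h
  simp only [mem_C0, UE, h, and_self]

/-- Coordinates as a bijection. -/
def U.equiv : U K ≃ (K × K) × (Σ a : K, {b : K // b + conj K (Cj.q K) b = -(a * σ a)}) ×
    Σ x : K, {c : K // c + conj K (Cj.q K) c = -(x * σ x)} where
  toFun g := ((g.y, g.w), ⟨g.a, g.b, by change _ + σ _ = _; rw [g.hb]; ring⟩, ⟨g.x, g.c, by change _ + σ _ = _; rw [g.hc]; ring⟩)
  invFun t := ⟨t.1.1, t.2.1.1, t.2.2.1, t.2.1.2, t.1.2, t.2.2.2, by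
    have h : _ + σ _ = _ := t.2.1.2.2
    linear_combination h, by
    have h : _ + σ _ = _ := t.2.2.2.2
    linear_combination h⟩
  left_inv _ := rfl
  right_inv _ := rfl

instance : Finite (U K) := Finite.of_equiv _ U.equiv.symm

theorem card_U : Nat.card (U K) = Cj.q K ^ 10 := by
  have := Fintype.ofFinite K
  have h : ∀ a : K, Nat.card {b : K // b + conj K (Cj.q K) b = -(a * σ a)} = Cj.q K := fun a =>
    card_trace_fiber (by change σ _ = _; simp only [UE]; ring)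
  rw [Nat.card_congr U.equiv]
  simp only [Nat.card_prod, Nat.card_sigma, h, Finset.sum_const, Finset.card_univ, ← Nat.card_eq_fintype_card,
    (Cj.uf (K := K)).card_eq, smul_eq_mul]
  ring

theorem exists_q (p : ℕ) [Fact p.Prime] [hp : CharP K p] : ∃ n, 0 < n ∧ Cj.q K = p ^ n := by
  obtain ⟨r, n, -, h, e, hn⟩ := exists_prime_pow K (Cj.q K)
  exact ⟨n, hn, CharP.eq K h hp ▸ e⟩

theorem isPGroup_U (p : ℕ) [Fact p.Prime] [CharP K p] : IsPGroup p (U K) := by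
  obtain ⟨n, -, hn⟩ := exists_q (K := K) p
  exact IsPGroup.of_card (n := n * 10) (by rw [card_U, hn, pow_mul])

end Cfsg.Agent.U5F
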